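/-
Two orthogonal factors inside an orthogonal space in odd characteristic: contractions, factor Siegel
elements and shears, root elements at singular pure tensors.
-/
import Cfsg.Agent.Lib.TensorMax.UBase
import Cfsg.Agent.Lib.Transvec.QuadGen
import Cfsg.Agent.Lib.Transvec.OrthStab

set_option autoImplicit false
set_option linter.unusedSectionVars false

namespace Cfsg.Agent.OrthTensorMirror

open scoped Matrix Kronecker
open Matrix Cfsg.Agent.Transvec Cfsg.Agent.TensorMax
open Cfsg.Agent.TensorMax.U (kr mv_kr_ten isKron_kr isKron_mul isKron_inv mv_kron_ten ext_ten_mv)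
open Cfsg.Agent.Transvec.Orth (pol IsSiegel)

/-! ### One factor -/

section Factor

variable {κ : Type} [Fintype κ] [DecidableEq κ] {F : Type*} [Field F] {q : (κ → F) → F}

/-- The vector representing x ↦ b(x, c). -/
def row (q : (κ → F) → F) (c : κ → F) : κ → F := fun k => pol q (Pi.single k 1) c

/-- The contraction x ↦ b₂(x, c). -/
def pc {α : Type} [Fintype α] [DecidableEq α] (q : (κ → F) → F) (c : κ → F) :
    (α × κ → F) →ₗ[F] α → F := ctr (row q c)

variable (hq : Geo.IsNondegenerateQuadraticForm q)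
include hq

theorem row_dot (c x : κ → F) : row q c ⬝ᵥ x = pol q x c := by
  show _ = Orth.formQ hq c x
  conv_rhs => rw [pi_eq_sum_univ' x, map_sum]
  simp [dotProduct, row, Orth.formQ_apply, mul_comm]

theorem row_smul (a : F) (c : κ → F) : row q (a • c) = a • row q c :=
  funext fun _ => Orth.pol_smul_right hq a _ c

theorem row_add (c c' : κ → F) : row q (c + c') = row q c + row q c' :=
  funext fun _ => Orth.pol_add_right hq _ c c'

theorem row_surj (φ : κ → F) : ∃ c, row q c = φ := by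
  let Φ : Module.Dual F (κ → F) :=
    { toFun := fun x => φ ⬝ᵥ x
      map_add' := fun x y => dotProduct_add _ _ _
      map_smul' := fun a x => dotProduct_smul a φ x }
  obtain ⟨z, hz⟩ := Orth.exists_eq_pol hq Φ
  refine ⟨z, funext fun k => ?_⟩
  show pol q (Pi.single k 1) z = φ k
  rw [← hz]
  show φ ⬝ᵥ Pi.single k 1 = φ k
  simp

theorem eq_zero_of_orth {u : κ → F} (h : ∀ v, pol q u v = 0) : u = 0 :=
  Orth.nondeg_top hq u Submodule.mem_top fun w _ => by rw [Orth.pol_comm]; exact h w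

theorem pol_self_zero {c : κ → F} (hc : q c = 0) : pol q c c = 0 := by
  rw [Orth.pol_self hq, hc, mul_zero]

theorem exists_pair {c : κ → F} (hc0 : c ≠ 0) (hc : q c = 0) : ∃ d, q d = 0 ∧ pol q c d = 1 := by
  obtain ⟨d, -, h1, h2⟩ := Orth.exists_partner hq (Orth.nondeg_top hq) Submodule.mem_top hc0 hc
  exact ⟨d, h1, h2⟩

/-- The pair of a singular vector and its partner, and the space orthogonal to them. -/
theorem pair_perp {c d : κ → F} (hc : q c = 0) (hd : q d = 0) (hcd : pol q c d = 1) :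
    Orth.Nondeg q ((⊤ : Submodule F (κ → F)) ⊓ Orth.orth hq (Submodule.span F {c, d})) ∧
      Module.finrank F ↥((⊤ : Submodule F (κ → F)) ⊓ Orth.orth hq (Submodule.span F {c, d})) + 2 =
        Fintype.card κ ∧
      ∀ v, v ∈ (⊤ : Submodule F (κ → F)) ⊓ Orth.orth hq (Submodule.span F {c, d}) ↔
        pol q v c = 0 ∧ pol q v d = 0 := by
  obtain ⟨hn, h2⟩ := Orth.nondeg_pair hq hc hd hcd
  refine ⟨Orth.nondeg_inf_orth hq hn (Orth.nondeg_top hq) le_top, ?_, fun v => ?_⟩
  · have := Orth.finrank_inf_orth_add hq hn (le_top : Submodule.span F ({c, d} : Set (κ → F)) ≤ ⊤)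
    rw [h2, finrank_top, Module.finrank_pi] at this
    omega
  · rw [Submodule.mem_inf, and_iff_right Submodule.mem_top, Orth.mem_orth_span hq]
    simp [Orth.pol_comm v]

/-- The decomposition along a pair. -/
theorem pair_decomp {c d : κ → F} (hc : q c = 0) (hd : q d = 0) (hcd : pol q c d = 1) (v : κ → F) :
    pol q (v - pol q v d • c - pol q v c • d) c = 0 ∧ pol q (v - pol q v d • c - pol q v c • d) d = 0 := by
  constructor <;>
    simp only [Orth.pol_sub_left hq, Orth.pol_smul_left hq, pol_self_zero hq hc, pol_self_zero hq hd, hcd,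
      Orth.pol_comm d c, mul_zero, mul_one] <;> ring

theorem isSiegel_pow {g : GL κ F} {u y : κ → F} (hu : q u = 0) (hy : pol q u y = 0)
    (h : IsSiegel q g u y) (n : ℕ) : IsSiegel q (g ^ n) u ((n : F) • y) := by
  induction n with
  | zero => rw [pow_zero, Nat.cast_zero, zero_smul]; exact Orth.isSiegel_zero hq u
  | succ n ih =>
    rw [pow_succ, Nat.cast_succ, add_smul, one_smul]
    exact Orth.isSiegel_mul hq hu (by rw [Orth.pol_smul_right hq, hy, mul_zero]) hy ih h

/-- Siegel elements have odd order. -/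
theorem siegel_odd [Finite F] (h2 : (2 : F) ≠ 0) {g : GL κ F} {u y : κ → F} (hu : q u = 0)
    (hy : pol q u y = 0) (h : IsSiegel q g u y) : Odd (orderOf g) := by
  obtain ⟨p, hp⟩ := CharP.exists F
  have hpp : p.Prime := (CharP.char_is_prime_or_zero F p).resolve_right fun h0 => by
    subst h0
    haveI := CharP.charP_to_charZero F
    exact not_finite F
  have hodd : Odd p := hpp.odd_of_ne_two fun h' => h2 (by subst h'; exact_mod_cast CharP.cast_eq_zero F 2)
  have h1 : g ^ p = 1 := by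
    refine Orth.isSiegel_unique (isSiegel_pow hq hu hy h p) ?_
    rw [CharP.cast_eq_zero, zero_smul]
    exact Orth.isSiegel_zero hq u
  exact hodd.of_dvd_nat (orderOf_dvd_of_pow_eq_one h1)

/-- A singular vector can be moved to any other, up to scalars, by Siegel elements. -/
theorem iso_trans [Finite F] (h3 : 3 ≤ Fintype.card κ) {P : (κ → F) → Prop}
    (hP : ∀ e g u y, P e → q u = 0 → pol q u y = 0 → IsSiegel q g u y → P (mv g e))
    (hs : ∀ (e : κ → F) (t : F), t ≠ 0 → P e → P (t • e))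
    {e₀ : κ → F} (he₀ : e₀ ≠ 0) (hq₀ : q e₀ = 0) (h₀ : P e₀) (e : κ → F) (he : e ≠ 0) (hqe : q e = 0) :
    P e := by
  have near : ∀ a b, q a = 0 → q b = 0 → pol q a b ≠ 0 → P a → P b := by
    intro a b ha hb hab hPa
    set b' := (pol q a b)⁻¹ • b with hb'
    have hb'q : q b' = 0 := by rw [hb', Orth.q_smul hq, hb, mul_zero]
    have hab' : pol q a b' = 1 := by rw [hb', Orth.pol_smul_right hq, inv_mul_cancel₀ hab]
    obtain ⟨hXn, hXf, hXm⟩ := pair_perp hq ha hb'q hab'
    obtain ⟨y, hyX, hy⟩ := Orth.exists_anisotropic hq hXn fun h => by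
      rw [h, finrank_bot] at hXf; omega
    obtain ⟨hya, hyb⟩ := (hXm y).1 hyX
    set f := (-q y) • a + b' + y with hf
    have hfq : q f = 0 := by
      rw [hf, Orth.q_add hq, Orth.q_add hq, Orth.q_smul hq, ha, hb'q, Orth.pol_smul_left hq, hab',
        Orth.pol_add_left hq, Orth.pol_smul_left hq, Orth.pol_comm a y, hya, Orth.pol_comm b' y, hyb]
      ring
    have haf : pol q a f = 1 := by
      rw [hf, Orth.pol_add_right hq, Orth.pol_add_right hq, Orth.pol_smul_right hq, pol_self_zero hq ha,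
        hab', Orth.pol_comm a y, hya]
      ring
    have hbf : pol q b' f = -q y := by
      rw [hf, Orth.pol_add_right hq, Orth.pol_add_right hq, Orth.pol_smul_right hq, pol_self_zero hq hb'q,
        Orth.pol_comm b' a, hab', Orth.pol_comm b' y, hyb]
      ring
    obtain ⟨y', hy', -, hmove⟩ := Orth.exists_move_along hq (v := f) (u := a) (w := (-q y)⁻¹ • b') hfq
      (by rw [ha, Orth.q_smul hq, hb'q, mul_zero]) haf
      (by rw [Orth.pol_smul_left hq, hbf, inv_mul_cancel₀ (neg_ne_zero.2 hy)])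
    obtain ⟨g, -, hg⟩ := Orth.exists_siegel hq hfq hy'
    have h1 := hP a g f y' hPa hfq hy' hg
    rw [hmove g hg] at h1
    have h2 := hs _ (pol q a b) hab (hs _ (-q y) (neg_ne_zero.2 hy) h1)
    rwa [smul_smul, smul_smul, show pol q a b * (-q y) * (-q y)⁻¹ = pol q a b by
      rw [mul_assoc, mul_inv_cancel₀ (neg_ne_zero.2 hy), mul_one], hb', smul_smul, mul_inv_cancel₀ hab,
      one_smul] at h2
  by_cases h : pol q e₀ e = 0
  swap
  · exact near e₀ e hq₀ hqe h h₀
  obtain ⟨d, hd, hed⟩ := exists_pair hq he₀ hq₀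
  by_cases hde : pol q d e = 0
  swap
  · exact near d e hd hqe hde (near e₀ d hq₀ hd (by rw [hed]; exact one_ne_zero) h₀)
  obtain ⟨z, hz⟩ : ∃ z, pol q z e ≠ 0 := by
    by_contra hcon
    push Not at hcon
    exact he (eq_zero_of_orth hq fun v => by rw [Orth.pol_comm]; exact hcon v)
  set z' := z - pol q z d • e₀ - pol q z e₀ • d with hz'
  obtain ⟨hz1, hz2⟩ := pair_decomp hq hq₀ hd hed z
  rw [← hz'] at hz1 hz2
  have hze : pol q z' e ≠ 0 := by
    rw [hz', Orth.pol_sub_left hq, Orth.pol_sub_left hq, Orth.pol_smul_left hq, Orth.pol_smul_left hq, h, hde]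
    simpa using hz
  set d' := d + z' - q z' • e₀ with hd'
  have hd'q : q d' = 0 := by
    rw [hd', Orth.q_sub hq, Orth.q_add hq, Orth.q_smul hq, hq₀, hd, Orth.pol_smul_right hq,
      Orth.pol_add_left hq, Orth.pol_comm d e₀, hed, Orth.pol_comm d z', hz2, hz1]
    ring
  have hd'e₀ : pol q e₀ d' = 1 := by
    rw [hd', Orth.pol_sub_right hq, Orth.pol_add_right hq, Orth.pol_smul_right hq, hed, pol_self_zero hq hq₀,
      Orth.pol_comm e₀ z', hz1]
    ring
  have hd'e : pol q d' e ≠ 0 := by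
    rw [hd', Orth.pol_sub_left hq, Orth.pol_add_left hq, Orth.pol_smul_left hq, h, hde]
    simpa using hze
  exact near d' e hd'q hqe hd'e (near e₀ d' hq₀ hd'q (by rw [hd'e₀]; exact one_ne_zero) h₀)

/-- A subspace containing a pair and all other singular vectors paired with the first is everything. -/
theorem eq_top_of_pairs {S : Submodule F (κ → F)} {c d : κ → F} (hc : q c = 0) (hd : q d = 0)
    (hcd : pol q c d = 1) (hcS : c ∈ S) (hS : ∀ d', q d' = 0 → pol q c d' = 1 → d' ∈ S) (v : κ → F) : v ∈ S := by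
  obtain ⟨h1, h2⟩ := pair_decomp hq hc hd hcd v
  set v' := v - pol q v d • c - pol q v c • d with hv'
  have hd' : d + v' - q v' • c ∈ S := hS _ (by
    rw [Orth.q_sub hq, Orth.q_add hq, Orth.q_smul hq, hc, hd, Orth.pol_smul_right hq,
      Orth.pol_add_left hq, Orth.pol_comm d c, hcd, Orth.pol_comm d v', h2, h1]
    ring) (by
    rw [Orth.pol_sub_right hq, Orth.pol_add_right hq, Orth.pol_smul_right hq, hcd, pol_self_zero hq hc,
      Orth.pol_comm c v', h1]
    ring)
  have hdS : d ∈ S := hS d hd hcd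
  have : v = pol q v d • c + pol q v c • d + ((d + v' - q v' • c) - d + q v' • c) := by
    rw [hv']; abel
  rw [this]
  exact S.add_mem (S.add_mem (S.smul_mem _ hcS) (S.smul_mem _ hdS))
    (S.add_mem (S.sub_mem hd' hdS) (S.smul_mem _ hcS))

/-- A subspace containing every singular vector is everything. -/
theorem eq_top_of_singular [Finite F] (h3 : 3 ≤ Fintype.card κ) {S : Submodule F (κ → F)}
    (hS : ∀ v, v ≠ 0 → q v = 0 → v ∈ S) (v : κ → F) : v ∈ S := by
  obtain ⟨c, -, hc0, hc⟩ := Orth.exists_singular hq (X := ⊤) (by rw [finrank_top, Module.finrank_pi]; exact h3)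
  obtain ⟨d, hd, hcd⟩ := exists_pair hq hc0 hc
  refine eq_top_of_pairs hq hc hd hcd (hS c hc0 hc) (fun d' h1 h2 => hS d' (fun h0 => ?_) h1) v
  rw [h0, Orth.pol_zero_right hq] at h2
  exact zero_ne_one h2

/-- A small subspace has an anisotropic vector in its orthogonal space. -/
theorem exists_aniso_perp {P : Submodule F (κ → F)} (h : 2 * Module.finrank F P < Fintype.card κ) :
    ∃ v, (∀ x ∈ P, pol q x v = 0) ∧ q v ≠ 0 := by
  by_contra hcon
  push Not at hcon
  have h1 := Orth.le_finrank_orth hq P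
  have hsing : ∀ x ∈ Orth.orth hq P, q x = 0 := fun x hx => hcon x fun y hy => hx y hy
  have h2 := Orth.finrank_totally_orth_le hq (Orth.nondeg_top hq) (L := Orth.orth hq P) le_top fun x hx y hy => by
    have e := Orth.q_add hq x y
    rw [hsing x hx, hsing y hy, hsing _ (Submodule.add_mem _ hx hy)] at e
    linear_combination -e
  rw [finrank_top, Module.finrank_pi] at h2
  omega

end Factor

/-! ### The product -/

variable {α β : Type} [Fintype α] [DecidableEq α] [Fintype β] [DecidableEq β] {F : Type*} [Field F]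
variable {Q : (α × β → F) → F} {q₁ : (α → F) → F} {q₂ : (β → F) → F}

/-- The hypotheses on an overgroup of the stabiliser of a product of two orthogonal factors. -/
structure Ctx (Q : (α × β → F) → F) (q₁ : (α → F) → F) (q₂ : (β → F) → F)
    (M : Subgroup (GL (α × β) F)) : Prop where
  hQ : Geo.IsNondegenerateQuadraticForm Q
  h₁ : Geo.IsNondegenerateQuadraticForm q₁
  h₂ : Geo.IsNondegenerateQuadraticForm q₂
  two : (2 : F) ≠ 0
  hpol : ∀ u w v z, pol Q (ten u w) (ten v z) = pol q₁ u v * pol q₂ w z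
  hα : 3 ≤ Fintype.card α
  hβ : 3 ≤ Fintype.card β
  le : M ≤ isometryGroup F Q
  memU : ∀ A ∈ isometryGroup F q₁, Odd (orderOf A) → kr A 1 ∈ M
  memW : ∀ B ∈ isometryGroup F q₂, Odd (orderOf B) → kr 1 B ∈ M

variable {M : Subgroup (GL (α × β) F)}


theorem Ctx.iso (C : Ctx Q q₁ q₂ M) {g : GL (α × β) F} (hg : g ∈ M) (x y : α × β → F) :
    pol Q (mv g x) (mv g y) = pol Q x y :=
  Orth.pol_mv C.hQ (C.le hg) x y

theorem Ctx.q_ten (C : Ctx Q q₁ q₂ M) (u : α → F) (w : β → F) : Q (ten u w) = 2 * q₁ u * q₂ w := by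
  have h := C.hpol u w u w
  rw [Orth.pol_self C.hQ, Orth.pol_self C.h₁, Orth.pol_self C.h₂] at h
  exact mul_left_cancel₀ C.two (by rw [h]; ring)

theorem Ctx.q_iso_left (C : Ctx Q q₁ q₂ M) {u : α → F} (hu : q₁ u = 0) (w : β → F) : Q (ten u w) = 0 := by
  rw [C.q_ten, hu, mul_zero, zero_mul]

theorem Ctx.q_iso_right (C : Ctx Q q₁ q₂ M) {w : β → F} (hw : q₂ w = 0) (u : α → F) : Q (ten u w) = 0 := by
  rw [C.q_ten, hw, mul_zero]

theorem pc_ten (C : Ctx Q q₁ q₂ M) (c : β → F) (u : α → F) (w : β → F) :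
    pc q₂ c (ten u w) = pol q₂ w c • u := by
  rw [pc, ctr_ten, row_dot C.h₂]

theorem pc_add_vec (C : Ctx Q q₁ q₂ M) (c c' : β → F) :
    (pc q₂ (c + c') : (α × β → F) →ₗ[F] α → F) = pc q₂ c + pc q₂ c' := by
  rw [pc, row_add C.h₂, ctr_add_vec]; rfl

theorem pc_smul_vec (C : Ctx Q q₁ q₂ M) (t : F) (c : β → F) :
    (pc q₂ (t • c) : (α × β → F) →ₗ[F] α → F) = t • pc q₂ c := by
  rw [pc, row_smul C.h₂, ctr_smul_vec]; rfl

theorem Ctx.pol_pc (C : Ctx Q q₁ q₂ M) (x : α × β → F) (v : α → F) (z : β → F) :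
    pol Q x (ten v z) = pol q₁ (pc q₂ z x) v := by
  have e : Orth.formQ C.hQ (ten v z) = (Orth.formQ C.h₁ v).comp (pc q₂ z) := ext_ten fun u w => by
    rw [LinearMap.comp_apply, Orth.formQ_apply, Orth.formQ_apply, C.hpol, pc_ten C,
      Orth.pol_smul_left C.h₁, mul_comm]
  exact LinearMap.congr_fun e x

theorem Ctx.pol_pc_left (C : Ctx Q q₁ q₂ M) (x : α × β → F) (v : α → F) (z : β → F) :
    pol Q (ten v z) x = pol q₁ (pc q₂ z x) v := by
  rw [Orth.pol_comm, C.pol_pc]

/-- A vector on a line has its contractions with orthogonal vectors equal to zero. -/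
theorem pc_line (C : Ctx Q q₁ q₂ M) {c v : β → F} (h : pol q₂ c v = 0) {x : α × β → F} (hx : x ∈ line α c) :
    pc q₂ v x = 0 :=
  ctr_line (by rw [row_dot C.h₂, h]) hx

theorem mem_line_of_pc (C : Ctx Q q₁ q₂ M) {c : β → F} (hc : c ≠ 0) {x : α × β → F}
    (h : ∀ w, pol q₂ c w = 0 → pc q₂ w x = 0) : x ∈ line α c :=
  mem_line_of_ctr hc fun φ hφ => by
    obtain ⟨w, rfl⟩ := row_surj C.h₂ φ
    exact h w (by rwa [row_dot C.h₂] at hφ)

theorem pc_ten_self (C : Ctx Q q₁ q₂ M) {c : β → F} (hc : q₂ c = 0) (u : α → F) : pc q₂ c (ten u c) = 0 := by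
  rw [pc_ten C, pol_self_zero C.h₂ hc, zero_smul]

/-- The contraction of the image under a member of the second factor. -/
theorem pc_kr (C : Ctx Q q₁ q₂ M) {B : GL β F} (hB : B ∈ isometryGroup F q₂) (z : β → F) (x : α × β → F) :
    pc q₂ (mv B z) (mv (kr 1 B) x) = pc q₂ z x := by
  have e : (pc q₂ (mv B z)).comp (mvLin (kr (1 : GL α F) B)) = pc q₂ z := ext_ten fun u w => by
    rw [LinearMap.comp_apply, Matrix.toLin'_apply]
    show pc q₂ _ (mv (kr 1 B) (ten u w)) = _
    rw [mv_kr_ten, mv_one, pc_ten C, pc_ten C, Orth.pol_mv C.h₂ hB]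
  have := LinearMap.congr_fun e x
  rw [LinearMap.comp_apply, Matrix.toLin'_apply] at this
  exact this

/-- The contraction of the image under a member of the first factor. -/
theorem pc_krL (A : GL α F) (c : β → F) (x : α × β → F) :
    pc q₂ c (mv (kr A 1) x) = mv A (pc q₂ c x) := by
  have e : (pc q₂ c).comp (mvLin (kr A (1 : GL β F))) = (mvLin A).comp (pc q₂ c) :=
    ext_ten fun u w => by
      simp only [LinearMap.comp_apply, Matrix.toLin'_apply]
      show pc q₂ c (mv (kr A 1) (ten u w)) = mv A _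
      rw [mv_kr_ten, mv_one, pc, ctr_ten, ctr_ten, mv_smul]
  have := LinearMap.congr_fun e x
  simp only [LinearMap.comp_apply, Matrix.toLin'_apply] at this
  exact this

theorem krL_inv (A : GL α F) : (kr A (1 : GL β F))⁻¹ = kr A⁻¹ 1 :=
  inv_eq_of_mul_eq_one_right (ext_ten_mv fun u w => by
    rw [mv_mul, mv_kr_ten, mv_kr_ten, mv_one, mv_mv_inv, mv_one, mv_one])

/-- A Siegel element of the first factor lies in M. -/
theorem memU_siegel [Finite F] (C : Ctx Q q₁ q₂ M) {e y : α → F} (he : q₁ e = 0) (hy : pol q₁ e y = 0) :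
    ∃ A ∈ isometryGroup F q₁, IsSiegel q₁ A e y ∧ kr A 1 ∈ M := by
  obtain ⟨A, hA, hAs⟩ := Orth.exists_siegel C.h₁ he hy
  exact ⟨A, hA, hAs, C.memU A hA (siegel_odd C.h₁ C.two he hy hAs)⟩

/-- A Siegel element of the second factor lies in M. -/
theorem memW_siegel [Finite F] (C : Ctx Q q₁ q₂ M) {c v : β → F} (hc : q₂ c = 0) (hv : pol q₂ c v = 0) :
    ∃ B ∈ isometryGroup F q₂, IsSiegel q₂ B c v ∧ kr 1 B ∈ M := by
  obtain ⟨B, hB, hBs⟩ := Orth.exists_siegel C.h₂ hc hv
  exact ⟨B, hB, hBs, C.memW B hB (siegel_odd C.h₂ C.two hc hv hBs)⟩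

/-- The shear x ↦ x + p(x) ⊗ v − (b(x,v) + q(v) p(x)) ⊗ c. -/
theorem exists_shear [Finite F] (C : Ctx Q q₁ q₂ M) {c v : β → F} (hc : q₂ c = 0) (hv : pol q₂ c v = 0) :
    ∃ E ∈ M, IsKron E ∧ ∀ x, mv E x =
      x + ten (pc q₂ c x) v - ten (pc q₂ v x + q₂ v • pc q₂ c x) c := by
  obtain ⟨B, hB, hBs, hBM⟩ := memW_siegel C hc hv
  refine ⟨kr 1 B, hBM, isKron_kr _ _, ?_⟩
  let R : (α × β → F) →ₗ[F] α × β → F := LinearMap.id + (rho v).comp (pc q₂ c) -
    (rho c).comp (pc q₂ v + q₂ v • pc q₂ c)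
  have e : mvLin (kr (1 : GL α F) B) = R := ext_ten fun u w => by
    rw [Matrix.toLin'_apply]
    show mv (kr 1 B) (ten u w) = _
    rw [mv_kr_ten, mv_one, hBs w]
    funext p
    simp only [R, LinearMap.sub_apply, LinearMap.add_apply, LinearMap.id_apply, LinearMap.comp_apply,
      rho_apply, LinearMap.smul_apply, pc_ten C, ten, Pi.add_apply, Pi.sub_apply, Pi.smul_apply, smul_eq_mul]
    ring
  intro x
  have := LinearMap.congr_fun e x
  rw [Matrix.toLin'_apply] at this
  exact this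

theorem disp_perp (C : Ctx Q q₁ q₂ M) {g : GL (α × β) F} (hg : g ∈ isometryGroup F Q) {c : β → F}
    (hfix : ∀ u, mv g (ten u c) = ten u c) (x : α × β → F) : pc q₂ c (mv g x) = pc q₂ c x := by
  refine sub_eq_zero.1 (eq_zero_of_orth C.h₁ fun v => ?_)
  have e := Orth.pol_mv C.hQ hg x (ten v c)
  rw [hfix, C.pol_pc, C.pol_pc] at e
  rw [Orth.pol_sub_left C.h₁, e, sub_self]

/-- An isometry fixing the orthogonal of a line has the form x ↦ x + Y(p x) ⊗ c with b(u, Y u) = 0. -/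
theorem centre_shape (C : Ctx Q q₁ q₂ M) {g : GL (α × β) F} (hg : g ∈ isometryGroup F Q) {c : β → F}
    (hc0 : c ≠ 0) (hc : q₂ c = 0) (hfix : ∀ x, pc q₂ c x = 0 → mv g x = x) :
    ∃ Y : (α → F) →ₗ[F] α → F, (∀ u, pol q₁ u (Y u) = 0) ∧
      ∀ x, mv g x = x + ten (Y (pc q₂ c x)) c := by
  obtain ⟨d, hd, hcd⟩ := exists_pair C.h₂ hc0 hc
  have hdc : pol q₂ d c = 1 := by rw [Orth.pol_comm, hcd]
  obtain ⟨θ, hθ⟩ := exists_dot_one hc0
  have hline : ∀ x, mv g x - x ∈ line α c := fun x => mem_line_of_pc C hc0 fun z hz => by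
    refine eq_zero_of_orth C.h₁ fun v => ?_
    have hz' : mv g (ten v z) = ten v z := hfix _ (by rw [pc_ten C, Orth.pol_comm, hz, zero_smul])
    have e := Orth.pol_mv C.hQ hg x (ten v z)
    rw [hz', C.pol_pc, C.pol_pc] at e
    rw [map_sub, Orth.pol_sub_left C.h₁, e, sub_self]
  set Y : (α → F) →ₗ[F] α → F := (ctr θ).comp ((mvLin g - LinearMap.id).comp (rho d)) with hYdef
  have hgd : ∀ u, mv g (ten u d) = ten u d + ten (Y u) c := by
    intro u
    obtain ⟨v, hv⟩ := mem_line.1 (hline (ten u d))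
    have hY' : Y u = v := by
      show ctr θ (mvLin g (ten u d) - ten u d) = v
      rw [Matrix.toLin'_apply]
      show ctr θ (mv g _ - _) = v
      rw [← hv, ctr_ten, hθ, one_smul]
    rw [hY', hv, add_sub_cancel]
  refine ⟨Y, fun u => ?_, fun x => ?_⟩
  · have e := Orth.mem_isometry.1 hg (ten u d)
    rw [hgd, Orth.q_add C.hQ, C.q_iso_right hd, C.q_iso_right hc, C.hpol, zero_add, zero_add, hdc,
      mul_one] at e
    exact e
  · have h0 : mv g (x - ten (pc q₂ c x) d) = x - ten (pc q₂ c x) d := hfix _ (by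
      rw [map_sub, pc_ten C, hdc, one_smul, sub_self])
    rw [mv_sub, hgd] at h0
    linear_combination (norm := module) h0

/-- The centre condition: only the identity fixes the orthogonal of a singular line pointwise. -/
def CentreTriv (q₂ : (β → F) → F) (M : Subgroup (GL (α × β) F)) : Prop :=
  ∀ c : β → F, c ≠ 0 → q₂ c = 0 → ∀ g ∈ M, (∀ x, pc q₂ c x = 0 → mv g x = x) → g = 1

/-- Members fixing a line and trivial on the middle act there as factor shears. -/
def MiddleShear (q₂ : (β → F) → F) (M : Subgroup (GL (α × β) F)) : Prop :=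
  ∀ c : β → F, c ≠ 0 → q₂ c = 0 → ∀ g ∈ M, (∀ u, mv g (ten u c) = ten u c) →
    (∀ x, pc q₂ c x = 0 → mv g x - x ∈ line α c) →
    ∃ v : β → F, pol q₂ c v = 0 ∧ ∀ x, pc q₂ c x = 0 → mv g x = x - ten (pc q₂ v x) c

/-! ### Root elements -/

/-- The Siegel elements at x and all multiples of y lie in M. -/
def Sie (Q : (α × β → F) → F) (M : Subgroup (GL (α × β) F)) (x y : α × β → F) : Prop :=
  pol Q x y = 0 ∧ ∀ t : F, ∃ g ∈ M, IsSiegel Q g x (t • y)

theorem Sie.conj (C : Ctx Q q₁ q₂ M) {g : GL (α × β) F} (hg : g ∈ M) {x y : α × β → F}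
    (h : Sie Q M x y) : Sie Q M (mv g x) (mv g y) := by
  refine ⟨by rw [C.iso hg, h.1], fun t => ?_⟩
  obtain ⟨e, he, hes⟩ := h.2 t
  refine ⟨g * e * g⁻¹, M.mul_mem (M.mul_mem hg he) (M.inv_mem hg), ?_⟩
  rw [← mv_smul]
  exact Orth.isSiegel_conj C.hQ (C.le hg) hes

theorem Sie.add (C : Ctx Q q₁ q₂ M) {x y y' : α × β → F} (hx : Q x = 0) (h : Sie Q M x y)
    (h' : Sie Q M x y') : Sie Q M x (y + y') := by
  refine ⟨by rw [Orth.pol_add_right C.hQ, h.1, h'.1, add_zero], fun t => ?_⟩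
  obtain ⟨a, ha, has⟩ := h.2 t
  obtain ⟨b, hb, hbs⟩ := h'.2 t
  refine ⟨a * b, M.mul_mem ha hb, ?_⟩
  rw [smul_add]
  exact Orth.isSiegel_mul C.hQ hx (by rw [Orth.pol_smul_right C.hQ, h.1, mul_zero])
    (by rw [Orth.pol_smul_right C.hQ, h'.1, mul_zero]) has hbs

theorem Sie.smul (C : Ctx Q q₁ q₂ M) {x y : α × β → F} (h : Sie Q M x y) (a : F) :
    Sie Q M x (a • y) :=
  ⟨by rw [Orth.pol_smul_right C.hQ, h.1, mul_zero], fun t => by rw [smul_smul]; exact h.2 (t * a)⟩

theorem Sie.smul_left (C : Ctx Q q₁ q₂ M) {x y : α × β → F} (h : Sie Q M x y) (a : F) :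
    Sie Q M (a • x) y := by
  refine ⟨by rw [Orth.pol_smul_left C.hQ, h.1, mul_zero], fun t => ?_⟩
  obtain ⟨e, he, hes⟩ := h.2 (t * a)
  refine ⟨e, he, fun z => ?_⟩
  rw [hes]
  simp only [Orth.q_smul C.hQ, Orth.pol_smul_right C.hQ, smul_smul]
  module

theorem Sie.zero (C : Ctx Q q₁ q₂ M) (x : α × β → F) : Sie Q M x 0 :=
  ⟨Orth.pol_zero_right C.hQ x, fun t => ⟨1, M.one_mem, by rw [smul_zero]; exact Orth.isSiegel_zero C.hQ x⟩⟩

theorem Sie.self (C : Ctx Q q₁ q₂ M) {x : α × β → F} (hx : Q x = 0) : Sie Q M x x :=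
  ⟨by rw [Orth.pol_self C.hQ, hx, mul_zero], fun t => ⟨1, M.one_mem, by
    have h := Orth.isSiegel_add_self C.hQ hx (Orth.pol_zero_right C.hQ x) t (Orth.isSiegel_zero C.hQ x)
    rwa [zero_add] at h⟩⟩

theorem Sie.sub (C : Ctx Q q₁ q₂ M) {x y y' : α × β → F} (hx : Q x = 0) (h : Sie Q M x y)
    (h' : Sie Q M x y') : Sie Q M x (y - y') := by
  have := h.add C hx (h'.smul C (-1))
  rwa [neg_one_smul, ← sub_eq_add_neg] at this

/-- A root element at two tensors on one singular line. -/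
def Root (Q : (α × β → F) → F) (q₁ : (α → F) → F) (q₂ : (β → F) → F) (M : Subgroup (GL (α × β) F)) : Prop :=
  ∃ (e R : α → F) (c : β → F), e ≠ 0 ∧ q₁ e = 0 ∧ c ≠ 0 ∧ q₂ c = 0 ∧ pol q₁ e R = 0 ∧
    R ∉ Submodule.span F {e} ∧ Sie Q M (ten e c) (ten R c)

end Cfsg.Agent.OrthTensorMirror
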