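/-
A four-space of minus type in odd characteristic: its commutator group is simple with trivial centre.
-/
import Cfsg.Agent.Lib.OrthTensorMirror.Base
import Cfsg.Agent.Lib.Orthogonal.LowFourMinus
import Cfsg.Agent.Lib.Orthogonal.NegOne
import Cfsg.Agent.Lib.OrthEvenMax.Base
import Cfsg.Agent.Lib.OrthTensor.Main
import Cfsg.Agent.Lib.Transvec.OrthWreathTools

set_option autoImplicit false
set_option linter.unusedSectionVars false

namespace Cfsg.Agent.OrthTensorMirror

open scoped Matrix commutatorElement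
open Matrix Cfsg.Agent.Transvec
open Cfsg.Agent.Transvec.Orth (pol IsSiegel)

/-- A group with a non-abelian simple source and commuting image has trivial map. -/
theorem hom_trivial {G A : Type*} [Group G] [Group A] [IsSimpleGroup G] (hG : ∃ x y : G, x * y ≠ y * x)
    (f : G →* A) (hf : ∀ x y, f x * f y = f y * f x) (x : G) : f x = 1 := by
  rcases f.normal_ker.eq_bot_or_eq_top with h | h
  · obtain ⟨a, b, hab⟩ := hG
    exact absurd ((MonoidHom.ker_eq_bot_iff f).1 h (by rw [map_mul, map_mul, hf])) hab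
  · exact MonoidHom.mem_ker.1 (h ▸ Subgroup.mem_top x)

variable {κ : Type} [Fintype κ] [DecidableEq κ] {F : Type*} [Field F] {q : (κ → F) → F}

theorem omegaGL_eq_comm (q : (κ → F) → F) :
    Geo.omegaGL q = ⁅isometryGroup F q, isometryGroup F q⁆ := by
  rw [Geo.omegaGL, Omega, commutator_def, Subgroup.map_commutator, ← MonoidHom.range_eq_map, Subgroup.range_subtype]

theorem omega_le (q : (κ → F) → F) : Geo.omegaGL q ≤ isometryGroup F q := by
  rintro _ ⟨x, -, rfl⟩
  exact x.2

theorem comm_mem_omega {x y : GL κ F} (hx : x ∈ isometryGroup F q) (hy : y ∈ isometryGroup F q) :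
    x * y * x⁻¹ * y⁻¹ ∈ Geo.omegaGL q := by
  rw [omegaGL_eq_comm]
  exact Subgroup.commutator_mem_commutator hx hy

/-- Elements normalising the isometry group normalise its commutator subgroup. -/
theorem conj_mem_omega {G : GL κ F} (hG : ∀ x ∈ isometryGroup F q, G * x * G⁻¹ ∈ isometryGroup F q)
    {b : GL κ F} (hb : b ∈ Geo.omegaGL q) : G * b * G⁻¹ ∈ Geo.omegaGL q := by
  rw [omegaGL_eq_comm] at hb ⊢
  refine (show ⁅isometryGroup F q, isometryGroup F q⁆ ≤
    Subgroup.comap (MulAut.conj G).toMonoidHom ⁅isometryGroup F q, isometryGroup F q⁆ from ?_) hb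
  rw [Subgroup.commutator_le]
  intro x hx y hy
  show MulAut.conj G ⁅x, y⁆ ∈ (⁅isometryGroup F q, isometryGroup F q⁆ : Subgroup (GL κ F))
  rw [map_commutatorElement]
  exact Subgroup.commutator_mem_commutator (hG x hx) (hG y hy)

variable (hq : Geo.IsNondegenerateQuadraticForm q) (hκ : Fintype.card κ = 4)
variable (hmin : ∀ U : Submodule F (κ → F), (∀ x ∈ U, q x = 0) → Module.finrank F U ≤ 1)
include hq hκ hmin

/-- The space orthogonal to a hyperbolic pair is anisotropic. -/
theorem perp_aniso {c d y : κ → F} (hc : q c = 0) (hcd : pol q c d = 1)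
    (hyc : pol q y c = 0) (hyd : pol q y d = 0) (hy : y ≠ 0) : q y ≠ 0 := by
  intro hqy
  have hli : LinearIndependent F ![c, y] := LinearIndependent.pair_iff.2 fun s t hst => by
    have h1 := congrArg (fun v => pol q v d) hst
    simp only [Transvec.Orth.pol_add_left hq, Transvec.Orth.pol_smul_left hq, hcd, hyd, mul_one, mul_zero, add_zero,
      Transvec.Orth.pol_zero_left hq] at h1
    rw [h1, zero_smul, zero_add, smul_eq_zero] at hst
    exact ⟨h1, hst.resolve_right hy⟩
  have h := hmin (Submodule.span F (Set.range ![c, y])) fun x hx => by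
    obtain ⟨a, rfl⟩ := (Submodule.mem_span_range_iff_exists_fun F).1 hx
    simp only [Fin.sum_univ_two, Matrix.cons_val_zero, Matrix.cons_val_one]
    rw [Transvec.Orth.q_add hq, Transvec.Orth.q_smul hq, Transvec.Orth.q_smul hq, Transvec.Orth.pol_smul_left hq, Transvec.Orth.pol_smul_right hq, hc, hqy,
      Transvec.Orth.pol_comm c y, hyc]
    ring
  rw [finrank_span_eq_card hli, Fintype.card_fin] at h
  omega

/-- Frames: a pair, a unit vector and a last vector whose value is not minus a square. -/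
theorem exists_pair_frame [Fintype F] (h2 : (2 : F) ≠ 0) : ∃ c d w₁ w₂ : κ → F, q c = 0 ∧ q d = 0 ∧
    pol q c d = 1 ∧ q w₁ = 1 ∧ ¬ IsSquare (-q w₂) ∧ pol q w₁ c = 0 ∧ pol q w₁ d = 0 ∧ pol q w₂ c = 0 ∧
    pol q w₂ d = 0 ∧ pol q w₁ w₂ = 0 ∧
    ∀ z, z = pol q z d • c + pol q z c • d + (pol q z w₁ / 2) • w₁ + (pol q z w₂ / (2 * q w₂)) • w₂ := by
  obtain ⟨c, -, hc0, hc⟩ := Transvec.Orth.exists_singular hq (X := ⊤) (by rw [finrank_top, Module.finrank_pi]; omega)
  obtain ⟨d, hd, hcd⟩ := exists_pair hq hc0 hc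
  obtain ⟨hXn, hXf, hXm⟩ := pair_perp hq hc hd hcd
  obtain ⟨w₁, hw₁X, hw₁⟩ := Transvec.Orth.exists_value_plane hq h2 hXn (by omega) 1
  obtain ⟨h1c, h1d⟩ := (hXm w₁).1 hw₁X
  obtain ⟨hYn, hYf⟩ := Transvec.Orth.nondeg_perp hq h2 hXn hw₁X (by rw [hw₁]; exact one_ne_zero)
  obtain ⟨w₂, hw₂Y, hw₂⟩ := Transvec.Orth.exists_anisotropic hq hYn fun h => by
    rw [h, finrank_bot] at hYf; omega
  obtain ⟨h2c, h2d⟩ := (hXm w₂).1 hw₂Y.1
  have h12 : pol q w₁ w₂ = 0 := hw₂Y.2 w₁ (Submodule.mem_span_singleton_self w₁)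
  have hdc : pol q d c = 1 := by rw [Transvec.Orth.pol_comm, hcd]
  have hcc := pol_self_zero hq hc
  have hdd := pol_self_zero hq hd
  refine ⟨c, d, w₁, w₂, hc, hd, hcd, hw₁, ?_, h1c, h1d, h2c, h2d, h12, fun z => ?_⟩
  · rintro ⟨s, hs⟩
    refine perp_aniso hq hκ hmin hc hcd (y := s • w₁ + w₂) ?_ ?_ (fun h => ?_) ?_
    · rw [Transvec.Orth.pol_add_left hq, Transvec.Orth.pol_smul_left hq, h1c, h2c]; ring
    · rw [Transvec.Orth.pol_add_left hq, Transvec.Orth.pol_smul_left hq, h1d, h2d]; ring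
    · have h' := congrArg (fun v => pol q v w₂) h
      simp only [Transvec.Orth.pol_add_left hq, Transvec.Orth.pol_smul_left hq, h12, Transvec.Orth.pol_zero_left hq,
        Transvec.Orth.pol_self hq, mul_zero, zero_add] at h'
      exact mul_ne_zero h2 hw₂ h'
    · rw [Transvec.Orth.q_add hq, Transvec.Orth.q_smul hq, Transvec.Orth.pol_smul_left hq, h12, hw₁]
      linear_combination -hs
  · obtain ⟨e1, e2⟩ := pair_decomp hq hc hd hcd z
    set z' := z - pol q z d • c - pol q z c • d with hz'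
    have hzX : z' ∈ (⊤ : Submodule F (κ → F)) ⊓ Transvec.Orth.orth hq (Submodule.span F {c, d}) := (hXm z').2 ⟨e1, e2⟩
    set r := z' - (pol q z' w₁ / 2) • w₁ - (pol q z' w₂ / (2 * q w₂)) • w₂ with hr
    have hr1 : pol q r w₁ = 0 := by
      rw [hr, Transvec.Orth.pol_sub_left hq, Transvec.Orth.pol_sub_left hq, Transvec.Orth.pol_smul_left hq, Transvec.Orth.pol_smul_left hq,
        Transvec.Orth.pol_self hq, hw₁, Transvec.Orth.pol_comm w₂ w₁, h12]
      field_simp
      ring
    have hr2 : pol q r w₂ = 0 := by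
      rw [hr, Transvec.Orth.pol_sub_left hq, Transvec.Orth.pol_sub_left hq, Transvec.Orth.pol_smul_left hq, Transvec.Orth.pol_smul_left hq,
        Transvec.Orth.pol_self hq, h12]
      field_simp
      ring
    have hrc : pol q r c = 0 := by
      rw [hr, Transvec.Orth.pol_sub_left hq, Transvec.Orth.pol_sub_left hq, Transvec.Orth.pol_smul_left hq, Transvec.Orth.pol_smul_left hq, h1c,
        h2c, e1]
      ring
    have hrd : pol q r d = 0 := by
      rw [hr, Transvec.Orth.pol_sub_left hq, Transvec.Orth.pol_sub_left hq, Transvec.Orth.pol_smul_left hq, Transvec.Orth.pol_smul_left hq, h1d,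
        h2d, e2]
      ring
    have hr0 : r = 0 := by
      by_contra hr0
      have hli : LinearIndependent F ![w₁, w₂, r] := by
        rw [Fintype.linearIndependent_iff]
        intro a ha i
        simp only [Fin.sum_univ_three, Matrix.cons_val_zero, Matrix.cons_val_one, Matrix.cons_val] at ha
        have k1 := congrArg (fun v => pol q v w₁) ha
        have k2 := congrArg (fun v => pol q v w₂) ha
        simp only [Transvec.Orth.pol_add_left hq, Transvec.Orth.pol_smul_left hq, Transvec.Orth.pol_self hq, hw₁, Transvec.Orth.pol_comm w₂ w₁, h12,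
          hr1, hr2, Transvec.Orth.pol_zero_left hq, mul_zero, add_zero, zero_add, mul_one] at k1 k2
        have a0 : a 0 = 0 := (mul_eq_zero.1 k1).resolve_right h2
        have a1 : a 1 = 0 := (mul_eq_zero.1 k2).resolve_right (mul_ne_zero h2 hw₂)
        rw [a0, a1, zero_smul, zero_smul, zero_add, zero_add, smul_eq_zero] at ha
        fin_cases i
        exacts [a0, a1, ha.resolve_right hr0]
      have hle : Submodule.span F (Set.range ![w₁, w₂, r]) ≤
          (⊤ : Submodule F (κ → F)) ⊓ Transvec.Orth.orth hq (Submodule.span F {c, d}) := by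
        rw [Submodule.span_le]
        rintro _ ⟨i, rfl⟩
        fin_cases i
        exacts [hw₁X, hw₂Y.1, (hXm r).2 ⟨hrc, hrd⟩]
      have h := Submodule.finrank_mono hle
      rw [finrank_span_eq_card hli, Fintype.card_fin] at h
      omega
    have hzw : ∀ w, pol q w c = 0 → pol q w d = 0 → pol q z' w = pol q z w := fun w wc wd => by
      rw [hz', Transvec.Orth.pol_sub_left hq, Transvec.Orth.pol_sub_left hq, Transvec.Orth.pol_smul_left hq, Transvec.Orth.pol_smul_left hq,
        Transvec.Orth.pol_comm c w, Transvec.Orth.pol_comm d w, wc, wd]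
      ring
    rw [hzw w₁ h1c h1d, hzw w₂ h2c h2d] at hr
    rw [hr, hz'] at hr0
    linear_combination (norm := module) hr0

/-- The orthogonal basis of a pair frame. -/
theorem exists_orth_frame [Fintype F] (h2 : (2 : F) ≠ 0) : ∃ f : Fin 4 → κ → F,
    (∀ i j, i ≠ j → pol q (f i) (f j) = 0) ∧ (∀ i, q (f i) ≠ 0) ∧ ¬ IsSquare (∏ i, q (f i)) := by
  obtain ⟨c, d, w₁, w₂, hc, hd, hcd, hw₁, hns, h1c, h1d, h2c, h2d, h12, -⟩ := exists_pair_frame hq hκ hmin h2
  have hcc := pol_self_zero hq hc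
  have hdd := pol_self_zero hq hd
  have hdc : pol q d c = 1 := by rw [Transvec.Orth.pol_comm, hcd]
  have hqp : q (c + d) = 1 := by rw [Transvec.Orth.q_add hq, hc, hd, hcd]; ring
  have hqm : q (c - d) = -1 := by rw [Transvec.Orth.q_sub hq, hc, hd, hcd]; ring
  have hw₂ : q w₂ ≠ 0 := fun h => hns (by rw [h, neg_zero]; exact ⟨0, (mul_zero _).symm⟩)
  refine ⟨![c + d, c - d, w₁, w₂], fun i j hij => ?_, fun i => ?_, ?_⟩
  · have hc1 : pol q c w₁ = 0 := by rw [Transvec.Orth.pol_comm, h1c]
    have hd1 : pol q d w₁ = 0 := by rw [Transvec.Orth.pol_comm, h1d]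
    have hc2 : pol q c w₂ = 0 := by rw [Transvec.Orth.pol_comm, h2c]
    have hd2 : pol q d w₂ = 0 := by rw [Transvec.Orth.pol_comm, h2d]
    have h21 : pol q w₂ w₁ = 0 := by rw [Transvec.Orth.pol_comm, h12]
    fin_cases i <;> fin_cases j <;> simp_all [Transvec.Orth.pol_add_left hq, Transvec.Orth.pol_add_right hq, Transvec.Orth.pol_sub_left hq,
      Transvec.Orth.pol_sub_right hq]
  · fin_cases i <;> simp_all
  · intro h
    refine hns ?_
    simpa [Fin.prod_univ_four, hqp, hqm, hw₁] using h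

/-- The negative of the identity is not in the commutator group. -/
theorem neg_not_mem [Fintype F] (h2 : (2 : F) ≠ 0) {z : GL κ F} (hz : z ∈ Geo.omegaGL q) :
    ∃ x, mv z x ≠ -x := by
  by_contra hcon
  push Not at hcon
  obtain ⟨f, hfo, hfn, hns⟩ := exists_orth_frame hq hκ hmin h2
  obtain ⟨x, hx, rfl⟩ := hz
  refine hns ?_
  refine (Cfsg.Agent.Orth.neg_one_mem_iff (OrthEvenMax.qMap hq) (OrthEvenMax.qMap_nondeg hq) h2
    (by omega) (by rw [hκ]; exact ⟨2, rfl⟩) f hfo hfn (by rw [hκ, Fintype.card_fin])).1 ⟨x, hx, ?_⟩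
  refine Matrix.ext_iff_mulVec.2 fun v => ?_
  rw [Matrix.neg_mulVec, Matrix.one_mulVec]
  exact hcon v

/-- Siegel elements of the four-space lie in its commutator group. -/
theorem siegel_mem_factor [Fintype F] (h2 : (2 : F) ≠ 0) {g : GL κ F} {u y : κ → F} (hu : q u = 0)
    (hy : pol q u y = 0) (h : IsSiegel q g u y) : g ∈ Geo.omegaGL q := by
  obtain ⟨g', hg', hg''⟩ := Transvec.Orth.exists_siegel hq hu hy
  rw [Transvec.Orth.isSiegel_unique h hg'']
  exact OrthTensor.omega_of_odd hq h2 (by omega) hg' (siegel_odd hq h2 hu hy hg'')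

/-- The centre of the commutator group is trivial. -/
theorem center_trivial [Fintype F] (h2 : (2 : F) ≠ 0) {z : GL κ F} (hz : z ∈ Geo.omegaGL q)
    (hcomm : ∀ x ∈ Geo.omegaGL q, z * x = x * z) : z = 1 := by
  obtain ⟨c, d, w₁, w₂, hc, hd, hcd, hw₁, -, h1c, h1d, h2c, h2d, -, hdec⟩ := exists_pair_frame hq hκ hmin h2
  have hzI : z ∈ isometryGroup F q := omega_le q hz
  -- singular vectors are eigenvectors
  have heig : ∀ e, e ≠ 0 → q e = 0 → ∃ l : F, mv z e = l • e := by
    intro e he0 he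
    obtain ⟨f, hf, hef⟩ := exists_pair hq he0 he
    obtain ⟨v, hv, hqv⟩ := exists_aniso_perp hq (P := Submodule.span F {e}) (by
      rw [finrank_span_singleton he0]; omega)
    have hev : pol q e v = 0 := hv e (Submodule.mem_span_singleton_self e)
    obtain ⟨E, -, hEs⟩ := Transvec.Orth.exists_siegel hq he hev
    have hE : E ∈ Geo.omegaGL q := siegel_mem_factor hq hκ hmin h2 he hev hEs
    have hN : ∀ x, mv E (mv E x) - (2 : F) • mv E x + x = (-(2 * q v) * pol q x e) • e := by
      intro x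
      have hee := pol_self_zero hq he
      have hve : pol q v e = 0 := by rw [Transvec.Orth.pol_comm, hev]
      simp only [hEs _, Transvec.Orth.pol_add_left hq, Transvec.Orth.pol_sub_left hq, Transvec.Orth.pol_smul_left hq, hee, hve, hev,
        Transvec.Orth.pol_self hq]
      module
    have hzE : ∀ x, mv z (mv E x) = mv E (mv z x) := fun x => by rw [← mv_mul, ← mv_mul, hcomm E hE]
    have h1 := hN (mv z f)
    rw [← hzE, ← hzE, ← mv_smul, ← mv_sub, ← mv_add, hN, mv_smul, Transvec.Orth.pol_comm f e, hef, mul_one] at h1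
    refine ⟨pol q (mv z f) e, ?_⟩
    have h2' := congrArg (fun w => (-(2 * q v))⁻¹ • w) h1
    simp only [smul_smul] at h2'
    rwa [inv_mul_cancel₀ (neg_ne_zero.2 (mul_ne_zero h2 hqv)), one_smul, ← mul_assoc,
      inv_mul_cancel₀ (neg_ne_zero.2 (mul_ne_zero h2 hqv)), one_mul] at h2'
  have hc0 : c ≠ 0 := fun h => zero_ne_one (by rw [h, Transvec.Orth.pol_zero_left hq] at hcd; exact hcd)
  have hd0 : d ≠ 0 := fun h => zero_ne_one (by rw [h, Transvec.Orth.pol_zero_right hq] at hcd; exact hcd)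
  obtain ⟨l, hl⟩ := heig c hc0 hc
  obtain ⟨m, hm⟩ := heig d hd0 hd
  have hcc := pol_self_zero hq hc
  have hdd := pol_self_zero hq hd
  have hdc : pol q d c = 1 := by rw [Transvec.Orth.pol_comm, hcd]
  -- orthogonal vectors have the same eigenvalue
  have hy : ∀ y, pol q y c = 0 → pol q y d = 0 → y ≠ 0 → mv z y = m • y ∧ l = m := by
    intro y hyc hyd hy0
    have hqy := perp_aniso hq hκ hmin hc hcd hyc hyd hy0
    have hsing : ∀ y', pol q y' c = 0 → pol q y' d = 0 → ∃ k : F,
        mv z y' = k • y' + (k - m) • d + (q y' * l - k * q y') • c := by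
      intro y' h1 h2'
      set e := d + y' - q y' • c with he
      have heq : q e = 0 := by
        rw [he, Transvec.Orth.q_sub hq, Transvec.Orth.q_add hq, Transvec.Orth.q_smul hq, hc, hd, Transvec.Orth.pol_smul_right hq,
          Transvec.Orth.pol_add_left hq, hdc, Transvec.Orth.pol_comm d y', h2', h1]
        ring
      have hec : pol q e c = 1 := by
        rw [he, Transvec.Orth.pol_sub_left hq, Transvec.Orth.pol_add_left hq, Transvec.Orth.pol_smul_left hq, hdc, h1, hcc]; ring
      obtain ⟨k, hk⟩ := heig e (fun h => zero_ne_one (by rw [h, Transvec.Orth.pol_zero_left hq] at hec; exact hec)) heq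
      refine ⟨k, ?_⟩
      rw [he, mv_sub, mv_add, mv_smul, hm, hl] at hk
      linear_combination (norm := module) hk
    obtain ⟨k, hk⟩ := hsing y hyc hyd
    obtain ⟨k', hk'⟩ := hsing (-y) (by rw [Transvec.Orth.pol_neg_left hq, hyc, neg_zero])
      (by rw [Transvec.Orth.pol_neg_left hq, hyd, neg_zero])
    rw [Transvec.Orth.q_neg hq, mv_neg, hk] at hk'
    have e1 := congrArg (fun v => pol q v c) hk'
    have e2 := congrArg (fun v => pol q v d) hk'
    have e3 := congrArg (fun v => pol q v y) hk'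
    simp only [Transvec.Orth.pol_add_left hq, Transvec.Orth.pol_smul_left hq, Transvec.Orth.pol_neg_left hq, hyc, hyd, hcc, hdd, hdc, hcd,
      Transvec.Orth.pol_comm c y, Transvec.Orth.pol_comm d y, Transvec.Orth.pol_self hq] at e1 e2 e3
    have hkk : k = k' := by
      refine mul_right_cancel₀ (mul_ne_zero h2 hqy) ?_
      linear_combination -e3
    subst hkk
    have hkm : k = m := mul_left_cancel₀ h2 (by linear_combination -e1)
    subst hkm
    have hlm : l = k := mul_left_cancel₀ (mul_ne_zero h2 hqy) (by linear_combination -e2)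
    subst hlm
    refine ⟨?_, rfl⟩
    rw [hk]
    module
  have h10 : w₁ ≠ 0 := fun h => zero_ne_one (by rw [h, Transvec.Orth.q_zero hq] at hw₁; exact hw₁)
  obtain ⟨hzw₁, hlm⟩ := hy w₁ h1c h1d h10
  subst hlm
  have hw₂z : mv z w₂ = l • w₂ := by
    by_cases h : w₂ = 0
    · rw [h, mv_zero, smul_zero]
    · exact (hy w₂ h2c h2d h).1
  have hall : ∀ x, mv z x = l • x := fun x => by
    rw [hdec x, mv_add, mv_add, mv_add, mv_smul, mv_smul, mv_smul, mv_smul, hl, hm, hzw₁, hw₂z]
    module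
  have hl1 : l * l = 1 := by
    have h := Transvec.Orth.mem_isometry.1 hzI w₁
    rw [hzw₁, Transvec.Orth.q_smul hq, hw₁] at h
    linear_combination h
  rcases mul_self_eq_one_iff.1 hl1 with h | h
  · exact ext_mv fun x => by rw [hall, h, one_smul, mv_one]
  · obtain ⟨x, hx⟩ := neg_not_mem hq hκ hmin h2 hz
    exact absurd (by rw [hall, h, neg_one_smul]) hx

/-- The commutator group is simple and not commutative. -/
theorem factor_simple [Fintype F] (h2 : (2 : F) ≠ 0) :
    IsSimpleGroup ↥(Geo.omegaGL q) ∧ ∃ x y : ↥(Geo.omegaGL q), x * y ≠ y * x := by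
  classical
  obtain ⟨c, d, w₁, w₂, hc, hd, hcd, hw₁, hns, h1c, h1d, h2c, h2d, h12, hdec⟩ := exists_pair_frame hq hκ hmin h2
  have hab : ∀ z₁ z₂ : F, z₁ ^ 2 + 0 * z₁ * z₂ + q w₂ * z₂ ^ 2 = 0 → z₁ = 0 ∧ z₂ = 0 := by
    intro z₁ z₂ h
    by_cases h0 : z₂ = 0
    · refine ⟨?_, h0⟩
      rw [h0] at h
      simpa using h
    · refine absurd ⟨z₁ / z₂, ?_⟩ hns
      field_simp
      linear_combination -h
  -- coordinates
  let φ : (((Fin 1 ⊕ Fin 1) ⊕ Fin 2) → F) ≃ₗ[F] (κ → F) :=
    { toFun := fun v => v (.inl (.inl 0)) • c + v (.inl (.inr 0)) • d + v (.inr 0) • w₁ + v (.inr 1) • w₂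
      map_add' := fun v w => by simp only [Pi.add_apply]; module
      map_smul' := fun a v => by simp only [Pi.smul_apply, smul_eq_mul, RingHom.id_apply]; module
      invFun := fun z => Sum.elim (Sum.elim (fun _ => pol q z d) (fun _ => pol q z c))
        ![pol q z w₁ / 2, pol q z w₂ / (2 * q w₂)]
      left_inv := fun v => by
        have hw₂ : q w₂ ≠ 0 := fun h => hns (by rw [h, neg_zero]; exact ⟨0, (mul_zero _).symm⟩)
        funext i
        rcases i with (i | i) | i <;> fin_cases i <;>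
          simp [Transvec.Orth.pol_add_left hq, Transvec.Orth.pol_smul_left hq, hcd, Transvec.Orth.pol_comm d c, h1c, h1d, h2c, h2d, h12,
            Transvec.Orth.pol_comm c w₁, Transvec.Orth.pol_comm d w₁, Transvec.Orth.pol_comm c w₂, Transvec.Orth.pol_comm d w₂, Transvec.Orth.pol_comm w₂ w₁,
            pol_self_zero hq hc, pol_self_zero hq hd, Transvec.Orth.pol_self hq, hw₁, h2, hw₂]
      right_inv := fun z => by simpa using (hdec z).symm }
  set qm := Cfsg.Agent.Orth.qMinus F 1 0 (q w₂) with hqm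
  have hφ : ∀ v, q (φ v) = qm v := fun v => by
    show q (v (.inl (.inl 0)) • c + v (.inl (.inr 0)) • d + v (.inr 0) • w₁ + v (.inr 1) • w₂) = _
    rw [hqm, Cfsg.Agent.Orth.coe_qMinus, Cfsg.quadFormMinus, Fin.sum_univ_one]
    simp only [Transvec.Orth.q_add hq, Transvec.Orth.q_smul hq, Transvec.Orth.pol_add_left hq, Transvec.Orth.pol_smul_left hq, Transvec.Orth.pol_smul_right hq,
      hc, hd, hcd, hw₁, h12, Transvec.Orth.pol_comm c w₁, Transvec.Orth.pol_comm d w₁, Transvec.Orth.pol_comm c w₂, Transvec.Orth.pol_comm d w₂,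
      h1c, h1d, h2c, h2d]
    ring
  let e : GL κ F ≃* GL ((Fin 1 ⊕ Fin 1) ⊕ Fin 2) F := Matrix.GeneralLinearGroup.toLin.trans
    ((LinearMap.GeneralLinearGroup.congrLinearEquiv φ.symm).trans Matrix.GeneralLinearGroup.toLin.symm)
  have he : ∀ g v, mv (e g) v = φ.symm (mv g (φ v)) := fun g v => by
    have h0 : ∀ (m : Type) [Fintype m] [DecidableEq m] (A : GL m F) (w : m → F),
        ((Matrix.GeneralLinearGroup.toLin A : LinearMap.GeneralLinearGroup F (m → F)) :
          (m → F) →ₗ[F] m → F) w = mv A w := fun m _ _ A w => Matrix.toLinAlgEquiv'_apply _ _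
    rw [← h0, ← h0]
    simp only [e, MulEquiv.trans_apply, MulEquiv.apply_symm_apply]
    rfl
  have hmap : (isometryGroup F q).map e.toMonoidHom = isometryGroup F ⇑qm := by
    ext x
    constructor
    · rintro ⟨g, hg, rfl⟩
      refine Transvec.Orth.mem_isometry.2 fun v => ?_
      show qm (mv (e g) v) = qm v
      rw [he, ← hφ, ← hφ, LinearEquiv.apply_symm_apply, Transvec.Orth.mem_isometry.1 hg]
    · intro hx
      obtain ⟨g, rfl⟩ := e.surjective x
      refine ⟨g, Transvec.Orth.mem_isometry.2 fun z => ?_, rfl⟩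
      have h := Transvec.Orth.mem_isometry.1 hx (φ.symm z)
      rw [he, ← hφ, ← hφ, LinearEquiv.apply_symm_apply, LinearEquiv.apply_symm_apply] at h
      exact h
  have hmapΩ : (Geo.omegaGL q).map e.toMonoidHom = Geo.omegaGL ⇑qm := by
    rw [omegaGL_eq_comm, omegaGL_eq_comm, Subgroup.map_commutator, hmap]
  let eΩ : ↥(Geo.omegaGL q) ≃* ↥(Omega F ⇑qm) :=
    ((e.subgroupMap (Geo.omegaGL q)).trans (MulEquiv.subgroupCongr hmapΩ)).trans
      ((Omega F ⇑qm).equivMapOfInjective _ (isometryGroup F ⇑qm).subtype_injective).symm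
  have hcen : Subgroup.center ↥(Omega F ⇑qm) = ⊥ := by
    rw [Subgroup.eq_bot_iff_forall]
    intro z hz
    obtain ⟨y, rfl⟩ := eΩ.surjective z
    have h1 := center_trivial hq hκ hmin h2 y.2 fun x hx => by
      have h := Subgroup.mem_center_iff.1 hz (eΩ ⟨x, hx⟩)
      rw [← map_mul, ← map_mul] at h
      exact (congrArg Subtype.val (eΩ.injective h)).symm
    rw [show y = 1 from Subtype.ext h1, map_one]
  obtain ⟨p, hp⟩ := CharP.exists F
  haveI := hp
  obtain ⟨n, hpp, hcard⟩ := FiniteField.card F p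
  haveI : Fact p.Prime := ⟨hpp⟩
  have hK : Nat.card (GaloisField p (2 * n)) = Fintype.card F ^ 2 := by
    rw [GaloisField.card p _ (by have := n.pos; omega), hcard, ← pow_mul, mul_comm]
  obtain ⟨iso⟩ := Cfsg.Agent.OrthLow.pomega_four_minus (K := GaloisField p (2 * n)) hK hab
  haveI : IsSimpleGroup (Matrix.ProjectiveSpecialLinearGroup (Fin 2) (GaloisField p (2 * n))) :=
    Matrix.ProjectiveSpecialLinearGroup.rank_two_simple (by
      rw [hK]; exact Nat.pow_le_pow_left (Fintype.one_lt_card (α := F)) 2)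
  haveI : Nontrivial (POmega F ⇑qm) := iso.toEquiv.nontrivial
  haveI : IsSimpleGroup (POmega F ⇑qm) :=
    IsSimpleGroup.isSimpleGroup_of_surjective iso.symm.toMonoidHom iso.symm.surjective
  let k : POmega F ⇑qm ≃* ↥(Omega F ⇑qm) :=
    (QuotientGroup.quotientMulEquivOfEq hcen).trans QuotientGroup.quotientBot
  haveI : Nontrivial ↥(Geo.omegaGL q) := (eΩ.trans k.symm).toEquiv.nontrivial
  have hs : IsSimpleGroup ↥(Geo.omegaGL q) :=
    IsSimpleGroup.isSimpleGroup_of_surjective (k.trans eΩ.symm).toMonoidHom (k.trans eΩ.symm).surjective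
  refine ⟨hs, ?_⟩
  by_contra hcon
  push Not at hcon
  obtain ⟨x, hx⟩ := exists_ne (1 : ↥(Geo.omegaGL q))
  exact hx (Subtype.ext (center_trivial hq hκ hmin h2 x.2 fun y hy => congrArg Subtype.val (hcon x ⟨y, hy⟩)))

end Cfsg.Agent.OrthTensorMirror
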