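/-
Mirrors and frames of the three-dimensional factor, and the maps commuting with the other factor.
-/
import Cfsg.Agent.Lib.OrthTensorMirror.Factor

set_option autoImplicit false
set_option linter.unusedSectionVars false

namespace Cfsg.Agent.OrthTensorMirror

open scoped Matrix Kronecker
open Matrix Cfsg.Agent.Transvec Cfsg.Agent.TensorMax
open Cfsg.Agent.TensorMax.U (kr mv_kr_ten isKron_kr isKron_mul isKron_inv mv_kron_ten ext_ten_mv)
open Cfsg.Agent.Transvec.Orth (pol IsSiegel)

variable {α β : Type} [Fintype α] [DecidableEq α] [Fintype β] [DecidableEq β] {F : Type*} [Field F]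
variable {Q : (α × β → F) → F} {q₁ : (α → F) → F} {q₂ : (β → F) → F}
variable {M : Subgroup (GL (α × β) F)}

/-- An injective endomorphism is given by an invertible matrix. -/
theorem exists_gl {κ : Type} [Fintype κ] [DecidableEq κ] (f : (κ → F) →ₗ[F] κ → F)
    (hf : Function.Injective f) : ∃ A : GL κ F, ∀ x, mv A x = f x := by
  refine ⟨Matrix.GeneralLinearGroup.toLin.symm
    (LinearMap.GeneralLinearGroup.ofLinearEquiv (LinearEquiv.ofInjectiveEndo f hf)), fun x => ?_⟩
  rw [show ∀ A : GL κ F, mv A x = ((Matrix.GeneralLinearGroup.toLin A :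
      LinearMap.GeneralLinearGroup F (κ → F)) : (κ → F) →ₗ[F] κ → F) x from
    fun A => (Matrix.toLinAlgEquiv'_apply _ _).symm, MulEquiv.apply_symm_apply]
  rfl

theorem ten_left_cancel {u : α → F} (hu : u ≠ 0) {w w' : β → F} (h : ten u w = ten u w') : w = w' := by
  obtain ⟨θ, hθ⟩ := exists_dot_one hu
  have := congrArg (ctrL θ) h
  rwa [ctrL_ten, ctrL_ten, hθ, one_smul, one_smul] at this

theorem ten_right_cancel {w : β → F} (hw : w ≠ 0) {u u' : α → F} (h : ten u w = ten u' w) : u = u' := by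
  obtain ⟨θ, hθ⟩ := exists_dot_one hw
  have := congrArg (ctr θ) h
  rwa [ctr_ten, ctr_ten, hθ, one_smul, one_smul] at this

theorem kr_mul (A A' : GL α F) (B B' : GL β F) : kr A B * kr A' B' = kr (A * A') (B * B') :=
  ext_ten_mv fun u w => by rw [mv_mul, mv_kr_ten, mv_kr_ten, mv_kr_ten, mv_mul, mv_mul]

theorem kr_one : kr (1 : GL α F) (1 : GL β F) = 1 :=
  ext_ten_mv fun u w => by simp [mv_kr_ten, mv_one]

theorem kr_inv (A : GL α F) (B : GL β F) : (kr A B)⁻¹ = kr A⁻¹ B⁻¹ :=
  inv_eq_of_mul_eq_one_right (by rw [kr_mul, mul_inv_cancel, mul_inv_cancel, kr_one])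

/-- The component along a vector of the first factor. -/
def pl (q₁ : (α → F) → F) (a : α → F) : (α × β → F) →ₗ[F] β → F := ctrL (row q₁ a)

/-- The element negating the reflection of the first factor at a. -/
def IsMirror (q₁ : (α → F) → F) (m : GL (α × β) F) (a : α → F) : Prop :=
  q₁ a ≠ 0 ∧ ∀ u w, mv m (ten u w) = ten ((pol q₁ u a / q₁ a) • a - u) w

/-- Commuting with the commutator group of the second factor. -/
def CommB (q₂ : (β → F) → F) (g : GL (α × β) F) : Prop :=
  ∀ B ∈ Geo.omegaGL q₂, g * kr 1 B = kr 1 B * g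

/-- An orthogonal frame of the first factor. -/
structure Frame (q₁ : (α → F) → F) (a b c : α → F) : Prop where
  ha : q₁ a ≠ 0
  hb : q₁ b ≠ 0
  hc : q₁ c ≠ 0
  hab : pol q₁ a b = 0
  hac : pol q₁ a c = 0
  hbc : pol q₁ b c = 0
  dec : ∀ z, z = (pol q₁ z a / (2 * q₁ a)) • a + (pol q₁ z b / (2 * q₁ b)) • b + (pol q₁ z c / (2 * q₁ c)) • c

section Forms

variable (h₁ : Geo.IsNondegenerateQuadraticForm q₁) (h2 : (2 : F) ≠ 0)
include h₁ h2

theorem pl_ten (a u : α → F) (w : β → F) : pl q₁ a (ten u w) = pol q₁ u a • w := by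
  rw [pl, ctrL_ten, row_dot h₁]

theorem ne_zero_of_aniso {a : α → F} (ha : q₁ a ≠ 0) : a ≠ 0 := fun h => ha (by rw [h, Transvec.Orth.q_zero h₁])

theorem Frame.rot {a b c : α → F} (h : Frame q₁ a b c) : Frame q₁ b c a :=
  ⟨h.hb, h.hc, h.ha, h.hbc, by rw [Transvec.Orth.pol_comm, h.hab], by rw [Transvec.Orth.pol_comm, h.hac],
    fun z => by conv_lhs => rw [h.dec z]
                abel⟩

theorem Frame.swap {a b c : α → F} (h : Frame q₁ a b c) : Frame q₁ a c b :=
  ⟨h.ha, h.hc, h.hb, h.hac, h.hab, by rw [Transvec.Orth.pol_comm, h.hbc],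
    fun z => by conv_lhs => rw [h.dec z]
                abel⟩

/-- Three orthogonal anisotropic vectors form a frame. -/
theorem frame_of_orth (hα : Fintype.card α = 3) {a b c : α → F} (ha : q₁ a ≠ 0) (hb : q₁ b ≠ 0)
    (hc : q₁ c ≠ 0) (hab : pol q₁ a b = 0) (hac : pol q₁ a c = 0) (hbc : pol q₁ b c = 0) : Frame q₁ a b c := by
  refine ⟨ha, hb, hc, hab, hac, hbc, fun z => ?_⟩
  set r := z - (pol q₁ z a / (2 * q₁ a)) • a - (pol q₁ z b / (2 * q₁ b)) • b - (pol q₁ z c / (2 * q₁ c)) • c with hr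
  have hba : pol q₁ b a = 0 := by rw [Transvec.Orth.pol_comm, hab]
  have hca : pol q₁ c a = 0 := by rw [Transvec.Orth.pol_comm, hac]
  have hcb : pol q₁ c b = 0 := by rw [Transvec.Orth.pol_comm, hbc]
  have hra : pol q₁ r a = 0 := by
    simp only [hr, Transvec.Orth.pol_sub_left h₁, Transvec.Orth.pol_smul_left h₁, Transvec.Orth.pol_self h₁, hba, hca]
    field_simp
    ring
  have hrb : pol q₁ r b = 0 := by
    simp only [hr, Transvec.Orth.pol_sub_left h₁, Transvec.Orth.pol_smul_left h₁, Transvec.Orth.pol_self h₁, hab, hcb]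
    field_simp
    ring
  have hrc : pol q₁ r c = 0 := by
    simp only [hr, Transvec.Orth.pol_sub_left h₁, Transvec.Orth.pol_smul_left h₁, Transvec.Orth.pol_self h₁, hac, hbc]
    field_simp
    ring
  by_contra hne
  have hr0 : r ≠ 0 := fun h => hne (by rw [hr] at h; linear_combination (norm := module) h)
  have hli : LinearIndependent F ![a, b, c, r] := by
    rw [Fintype.linearIndependent_iff]
    intro t ht i
    simp only [Fin.sum_univ_four, Matrix.cons_val_zero, Matrix.cons_val_one, Matrix.cons_val] at ht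
    have k0 := congrArg (fun v => pol q₁ v a) ht
    have k1 := congrArg (fun v => pol q₁ v b) ht
    have k2 := congrArg (fun v => pol q₁ v c) ht
    simp only [Transvec.Orth.pol_add_left h₁, Transvec.Orth.pol_smul_left h₁, Transvec.Orth.pol_self h₁, Transvec.Orth.pol_zero_left h₁,
      hab, hba, hac, hca, hbc, hcb, hra, hrb, hrc, mul_zero, add_zero, zero_add] at k0 k1 k2
    have e0 : t 0 = 0 := (mul_eq_zero.1 k0).resolve_right (mul_ne_zero h2 ha)
    have e1 : t 1 = 0 := (mul_eq_zero.1 k1).resolve_right (mul_ne_zero h2 hb)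
    have e2 : t 2 = 0 := (mul_eq_zero.1 k2).resolve_right (mul_ne_zero h2 hc)
    rw [e0, e1, e2, zero_smul, zero_smul, zero_smul, zero_add, zero_add, zero_add, smul_eq_zero] at ht
    fin_cases i
    exacts [e0, e1, e2, ht.resolve_right hr0]
  have h := hli.fintype_card_le_finrank
  rw [Module.finrank_pi, hα, Fintype.card_fin] at h
  omega

/-- An anisotropic vector extends to a frame. -/
theorem exists_frame (hα : Fintype.card α = 3) {a : α → F} (ha : q₁ a ≠ 0) : ∃ b c, Frame q₁ a b c := by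
  obtain ⟨hn, hd⟩ := Transvec.Orth.nondeg_perp h₁ h2 (Transvec.Orth.nondeg_top h₁) (Submodule.mem_top (x := a)) ha
  rw [finrank_top, Module.finrank_pi, hα] at hd
  obtain ⟨b, hb, hbq⟩ := Transvec.Orth.exists_anisotropic h₁ hn fun h => by rw [h, finrank_bot] at hd; omega
  obtain ⟨hn', hd'⟩ := Transvec.Orth.nondeg_perp h₁ h2 hn hb hbq
  obtain ⟨c, hc, hcq⟩ := Transvec.Orth.exists_anisotropic h₁ hn' fun h => by rw [h, finrank_bot] at hd'; omega
  exact ⟨b, c, frame_of_orth h₁ h2 hα ha hbq hcq (hb.2 a (Submodule.mem_span_singleton_self a))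
    (hc.1.2 a (Submodule.mem_span_singleton_self a)) (hc.2 b (Submodule.mem_span_singleton_self b))⟩

/-- The components along a frame. -/
theorem Frame.decV {a b c : α → F} (h : Frame q₁ a b c) (x : α × β → F) :
    x = ten a ((2 * q₁ a)⁻¹ • pl q₁ a x) + ten b ((2 * q₁ b)⁻¹ • pl q₁ b x) +
      ten c ((2 * q₁ c)⁻¹ • pl q₁ c x) := by
  have e : (LinearMap.id : (α × β → F) →ₗ[F] α × β → F) = (lam a).comp ((2 * q₁ a)⁻¹ • pl q₁ a) +
      (lam b).comp ((2 * q₁ b)⁻¹ • pl q₁ b) + (lam c).comp ((2 * q₁ c)⁻¹ • pl q₁ c) := ext_ten fun u w => by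
    simp only [LinearMap.id_apply, LinearMap.add_apply, LinearMap.comp_apply, LinearMap.smul_apply, lam_apply,
      pl_ten h₁ h2, smul_smul, ten_smul_right]
    rw [← ten_smul_left, ← ten_smul_left, ← ten_smul_left, ← ten_add_left, ← ten_add_left]
    congr 1
    simp only [← div_eq_inv_mul]
    exact h.dec u
  have := LinearMap.congr_fun e x
  simpa only [LinearMap.id_apply, LinearMap.add_apply, LinearMap.comp_apply, LinearMap.smul_apply,
    lam_apply] using this

/-- Maps agreeing on a frame agree. -/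
theorem Frame.ext {a b c : α → F} (h : Frame q₁ a b c) {g k : GL (α × β) F}
    (ea : ∀ w, mv g (ten a w) = mv k (ten a w)) (eb : ∀ w, mv g (ten b w) = mv k (ten b w))
    (ec : ∀ w, mv g (ten c w) = mv k (ten c w)) : g = k := ext_mv fun x => by
  rw [h.decV h₁ h2 x, mv_add, mv_add, mv_add, mv_add, ea, eb, ec]

theorem mirror_unique {m m' : GL (α × β) F} {a : α → F} (h : IsMirror q₁ m a) (h' : IsMirror q₁ m' a) :
    m = m' := ext_ten_mv fun u w => by rw [h.2, h'.2]

theorem mirror_self {m : GL (α × β) F} {a : α → F} (h : IsMirror q₁ m a) (w : β → F) :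
    mv m (ten a w) = ten a w := by
  rw [h.2, Transvec.Orth.pol_self h₁, mul_div_cancel_right₀ _ h.1]
  congr 1
  module

theorem mirror_perp {m : GL (α × β) F} {a u : α → F} (h : IsMirror q₁ m a) (hu : pol q₁ u a = 0) (w : β → F) :
    mv m (ten u w) = -ten u w := by
  rw [h.2, hu, zero_div, zero_smul, zero_sub, ten_neg_left]

theorem mirror_sq {m : GL (α × β) F} {a : α → F} (h : IsMirror q₁ m a) : m * m = 1 :=
  ext_ten_mv fun u w => by
    rw [mv_mul, h.2, h.2, mv_one]
    congr 1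
    rw [Transvec.Orth.pol_sub_left h₁, Transvec.Orth.pol_smul_left h₁, Transvec.Orth.pol_self h₁]
    have := h.1
    match_scalars <;> field_simp <;> ring

/-- The fixed vectors of a mirror. -/
theorem mirror_fixed (hα : Fintype.card α = 3) {m : GL (α × β) F} {a : α → F} (h : IsMirror q₁ m a)
    {x : α × β → F} (hx : mv m x = x) : ∃ w, x = ten a w := by
  obtain ⟨b, c, hf⟩ := exists_frame h₁ h2 hα h.1
  have hd := hf.decV h₁ h2 x
  set xa := (2 * q₁ a)⁻¹ • pl q₁ a x with hxa
  set xb := (2 * q₁ b)⁻¹ • pl q₁ b x with hxb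
  set xc := (2 * q₁ c)⁻¹ • pl q₁ c x with hxc
  refine ⟨xa, ?_⟩
  rw [hd, mv_add, mv_add, mirror_self h₁ h2 h, mirror_perp h₁ h2 h (by rw [Transvec.Orth.pol_comm, hf.hab]),
    mirror_perp h₁ h2 h (by rw [Transvec.Orth.pol_comm, hf.hac])] at hx
  have h0 : (2 : F) • (ten b xb + ten c xc) = 0 := by linear_combination (norm := module) -hx
  rw [smul_eq_zero, or_iff_right h2] at h0
  rw [hd, add_assoc, h0, add_zero]

end Forms

/-- The hypotheses: an overgroup of the stabiliser of a product of a three-space and a minus four-space. -/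
structure Hyp (Q : (α × β → F) → F) (q₁ : (α → F) → F) (q₂ : (β → F) → F)
    (M : Subgroup (GL (α × β) F)) : Prop extends Ctx Q q₁ q₂ M where
  hα3 : Fintype.card α = 3
  hβ4 : Fintype.card β = 4
  minus : ∀ U : Submodule F (β → F), (∀ x ∈ U, q₂ x = 0) → Module.finrank F U ≤ 1
  q5 : 5 ≤ Nat.card F
  memB : ∀ B ∈ Geo.omegaGL q₂, kr 1 B ∈ M
  mirror : ∀ a, q₁ a ≠ 0 → ∃ m ∈ M, IsMirror q₁ m a
  negnot : ∀ g ∈ M, ∃ x, mv g x ≠ -x

/-- A map sending every singular line into itself acts on the first factor alone. -/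
theorem eq_kr_of_lines [Fintype F] (H : Hyp Q q₁ q₂ M) {g : GL (α × β) F}
    (h : ∀ c, c ≠ 0 → q₂ c = 0 → ∀ u, ∃ v, mv g (ten u c) = ten v c) : ∃ A : GL α F, g = kr A 1 := by
  classical
  obtain ⟨c, d, w₁, w₂, hc, hd, hcd, -, -, h1c, h1d, h2c, h2d, -, hdec⟩ :=
    exists_pair_frame H.h₂ H.hβ4 H.minus H.two
  have hc0 : c ≠ 0 := fun h => zero_ne_one (by rw [h, Transvec.Orth.pol_zero_left H.h₂] at hcd; exact hcd)
  have hd0 : d ≠ 0 := fun h => zero_ne_one (by rw [h, Transvec.Orth.pol_zero_right H.h₂] at hcd; exact hcd)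
  have hcc := pol_self_zero H.h₂ hc
  have hdd := pol_self_zero H.h₂ hd
  have hdc : pol q₂ d c = 1 := by rw [Transvec.Orth.pol_comm, hcd]
  choose vd hvd using h d hd0 hd
  have hlin : ∃ A : (α → F) →ₗ[F] α → F, ∀ u, mv g (ten u d) = ten (A u) d := by
    refine ⟨{ toFun := vd, map_add' := fun u v => ten_right_cancel hd0 ?_,
              map_smul' := fun t u => ten_right_cancel hd0 ?_ }, hvd⟩
    · rw [← hvd, ten_add_left, mv_add, hvd, hvd, ten_add_left]
    · rw [RingHom.id_apply, ← hvd, ten_smul_left, mv_smul, hvd, ten_smul_left]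
  obtain ⟨A, hA⟩ := hlin
  have key : ∀ y, pol q₂ y c = 0 → pol q₂ y d = 0 → y ≠ 0 → ∀ u,
      mv g (ten u y) = ten (A u) y ∧ mv g (ten u c) = ten (A u) c := by
    intro y hyc hyd hy0 u
    have hqy := perp_aniso H.h₂ H.hβ4 H.minus hc hcd hyc hyd hy0
    obtain ⟨vc, hvc⟩ := h c hc0 hc u
    have hsing : ∀ y', pol q₂ y' c = 0 → pol q₂ y' d = 0 → ∃ k : α → F,
        mv g (ten u y') = ten k y' + ten (k - A u) d + q₂ y' • ten (vc - k) c := by
      intro y' e1 e2
      set e := d + y' - q₂ y' • c with he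
      have heq : q₂ e = 0 := by
        rw [he, Transvec.Orth.q_sub H.h₂, Transvec.Orth.q_add H.h₂, Transvec.Orth.q_smul H.h₂, hc, hd, Transvec.Orth.pol_smul_right H.h₂,
          Transvec.Orth.pol_add_left H.h₂, hdc, Transvec.Orth.pol_comm d y', e2, e1]
        ring
      have hec : pol q₂ e c = 1 := by
        rw [he, Transvec.Orth.pol_sub_left H.h₂, Transvec.Orth.pol_add_left H.h₂, Transvec.Orth.pol_smul_left H.h₂, hdc, e1, hcc]; ring
      obtain ⟨k, hk⟩ := h e (fun h => zero_ne_one (by rw [h, Transvec.Orth.pol_zero_left H.h₂] at hec; exact hec)) heq u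
      refine ⟨k, ?_⟩
      have hy' : ten u y' = ten u e - ten u d + q₂ y' • ten u c := by
        rw [he]; funext p; simp [ten]; ring
      rw [hy', mv_add, mv_sub, mv_smul, hk, hA, hvc, he]
      funext p
      simp [ten]
      ring
    obtain ⟨k, hk⟩ := hsing y hyc hyd
    obtain ⟨k', hk'⟩ := hsing (-y) (by rw [Transvec.Orth.pol_neg_left H.h₂, hyc, neg_zero])
      (by rw [Transvec.Orth.pol_neg_left H.h₂, hyd, neg_zero])
    have hneg : ten u (-y) = -ten u y := by funext p; simp [ten]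
    rw [Transvec.Orth.q_neg H.h₂, hneg, mv_neg, hk] at hk'
    have e1 := congrArg (fun x => pc q₂ c x) hk'
    have e2 := congrArg (fun x => pc q₂ d x) hk'
    have e3 := congrArg (fun x => pc q₂ y x) hk'
    simp only [map_add, map_neg, map_smul, pc_ten H.toCtx, Transvec.Orth.pol_neg_left H.h₂, hyc, hyd, hcc, hdd, hdc, hcd,
      Transvec.Orth.pol_comm c y, Transvec.Orth.pol_comm d y, Transvec.Orth.pol_self H.h₂, neg_zero, zero_smul, one_smul, smul_zero,
      add_zero, zero_add, neg_smul] at e1 e2 e3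
    have hkk : k = k' := by
      refine sub_eq_zero.1 ((smul_eq_zero.1 (?_ : (2 * q₂ y) • (k - k') = 0)).resolve_left (mul_ne_zero H.two hqy))
      linear_combination (norm := module) -e3
    subst hkk
    have hkA : k = A u := by
      refine sub_eq_zero.1 ((smul_eq_zero.1 (?_ : (2 : F) • (k - A u) = 0)).resolve_left H.two)
      linear_combination (norm := module) -e1
    subst hkA
    have hcA : vc = A u := by
      refine sub_eq_zero.1 ((smul_eq_zero.1 (?_ : (2 * q₂ y) • (vc - A u) = 0)).resolve_left (mul_ne_zero H.two hqy))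
      linear_combination (norm := module) -e2
    subst hcA
    refine ⟨?_, hvc⟩
    simp [hk, ten_zero_left]
  have h10 : w₁ ≠ 0 ∨ w₂ ≠ 0 := by
    by_contra hcon
    push Not at hcon
    obtain ⟨v, hv, hqv⟩ := exists_aniso_perp H.h₂ (P := Submodule.span F {c}) (by
      rw [finrank_span_singleton hc0, H.hβ4]; omega)
    have hvc : pol q₂ v c = 0 := by rw [Transvec.Orth.pol_comm]; exact hv c (Submodule.mem_span_singleton_self c)
    have hv' := hdec v
    rw [hvc, hcon.1, hcon.2, smul_zero, smul_zero, zero_smul, add_zero, add_zero, add_zero] at hv'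
    exact hqv (by rw [hv', Transvec.Orth.q_smul H.h₂, hc, mul_zero])
  have hAc : ∀ u, mv g (ten u c) = ten (A u) c := fun u => by
    rcases h10 with h | h
    exacts [(key w₁ h1c h1d h u).2, (key w₂ h2c h2d h u).2]
  have hAy : ∀ y, pol q₂ y c = 0 → pol q₂ y d = 0 → ∀ u, mv g (ten u y) = ten (A u) y := fun y e1 e2 u => by
    by_cases hy0 : y = 0
    · rw [hy0, ten_zero_right, ten_zero_right, mv_zero]
    · exact (key y e1 e2 hy0 u).1
  have hall : ∀ u w, mv g (ten u w) = ten (A u) w := fun u w => by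
    rw [hdec w]
    simp only [ten_add_right, ten_smul_right, mv_add, mv_smul, hAc, hA, hAy _ h1c h1d, hAy _ h2c h2d]
  have hAi : Function.Injective A := by
    rw [← LinearMap.ker_eq_bot, LinearMap.ker_eq_bot']
    intro u hu
    by_contra hu0
    refine ten_ne_zero hu0 hd0 (mv_inj g ?_)
    rw [hA, hu, ten_zero_left, mv_zero]
  obtain ⟨A', hA'⟩ := exists_gl A hAi
  exact ⟨A', ext_ten_mv fun u w => by rw [hall, mv_kr_ten, mv_one, hA']⟩

/-- A map commuting with a shear keeps its singular line. -/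
theorem line_of_comm [Fintype F] (H : Hyp Q q₁ q₂ M) {g : GL (α × β) F} {c v : β → F} (hc : q₂ c = 0)
    (hcv : pol q₂ c v = 0) (hqv : q₂ v ≠ 0) (hc0 : c ≠ 0) {E : GL β F} (hE : IsSiegel q₂ E c v)
    (hg : g * kr 1 E = kr 1 E * g) (u : α → F) : ∃ u', mv g (ten u c) = ten u' c := by
  obtain ⟨d, hd, hcd⟩ := exists_pair H.h₂ hc0 hc
  have hcc := pol_self_zero H.h₂ hc
  have hvc : pol q₂ v c = 0 := by rw [Transvec.Orth.pol_comm, hcv]
  have hN : ∀ x : α × β → F, mv (kr 1 E) (mv (kr 1 E) x) - (2 : F) • mv (kr 1 E) x + x =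
      ten ((-(2 * q₂ v)) • pc q₂ c x) c := by
    intro x
    let L : (α × β → F) →ₗ[F] α × β → F := (mvLin (kr 1 E)).comp (mvLin (kr 1 E)) -
      (2 : F) • mvLin (kr (1 : GL α F) E) + LinearMap.id
    have e : L = (rho c).comp ((-(2 * q₂ v)) • pc q₂ c) := ext_ten fun a w => by
      simp only [L, LinearMap.add_apply, LinearMap.sub_apply, LinearMap.smul_apply, LinearMap.comp_apply,
        LinearMap.id_apply, Matrix.toLin'_apply, rho_apply, pc_ten H.toCtx]
      show mv (kr 1 E) (mv (kr 1 E) (ten a w)) - (2 : F) • mv (kr 1 E) (ten a w) + ten a w = _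
      simp only [mv_kr_ten, mv_one, hE _, Transvec.Orth.pol_add_left H.h₂, Transvec.Orth.pol_sub_left H.h₂, Transvec.Orth.pol_smul_left H.h₂,
        hcc, hvc, hcv, Transvec.Orth.pol_self H.h₂]
      funext p
      simp [ten]
      ring
    have h' := LinearMap.congr_fun e x
    simp only [L, LinearMap.add_apply, LinearMap.sub_apply, LinearMap.smul_apply, LinearMap.comp_apply,
      LinearMap.id_apply, Matrix.toLin'_apply, rho_apply] at h'
    exact h'
  have hgE : ∀ x, mv g (mv (kr 1 E) x) = mv (kr 1 E) (mv g x) := fun x => by rw [← mv_mul, ← mv_mul, hg]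
  have h1 := hN (mv g (ten u d))
  rw [← hgE, ← hgE, ← mv_smul, ← mv_sub, ← mv_add, hN, pc_ten H.toCtx, Transvec.Orth.pol_comm d c, hcd, one_smul] at h1
  rw [ten_smul_left, mv_smul] at h1
  refine ⟨(-(2 * q₂ v))⁻¹ • ((-(2 * q₂ v)) • pc q₂ c (mv g (ten u d))), ?_⟩
  rw [ten_smul_left, ← h1, smul_smul, inv_mul_cancel₀ (neg_ne_zero.2 (mul_ne_zero H.two hqv)), one_smul]

/-- A map commuting with the second factor's group acts on the first factor alone. -/
theorem eq_kr_of_comm [Fintype F] (H : Hyp Q q₁ q₂ M) {g : GL (α × β) F} (hg : CommB q₂ g) :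
    ∃ A : GL α F, g = kr A 1 := by
  refine eq_kr_of_lines H fun c hc0 hc u => ?_
  obtain ⟨v, hv, hqv⟩ := exists_aniso_perp H.h₂ (P := Submodule.span F {c}) (by
    rw [finrank_span_singleton hc0, H.hβ4]; omega)
  have hcv := hv c (Submodule.mem_span_singleton_self c)
  obtain ⟨E, -, hE⟩ := Transvec.Orth.exists_siegel H.h₂ hc hcv
  exact line_of_comm H hc hcv hqv hc0 hE (hg E (siegel_mem_factor H.h₂ H.hβ4 H.minus H.two hc hcv hE)) u

theorem commB_kr (A : GL α F) : CommB q₂ (kr A (1 : GL β F)) := fun B _ => by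
  rw [kr_mul, kr_mul, one_mul, mul_one, one_mul, mul_one]

end Cfsg.Agent.OrthTensorMirror
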