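/-
Members fixing the tensors over one frame vector and keeping those over another commute with the second factor.
-/
import Cfsg.Agent.Lib.OrthTensorMirror.Basic

set_option autoImplicit false
set_option linter.unusedSectionVars false

namespace Cfsg.Agent.OrthTensorMirror

open scoped Matrix Kronecker
open Matrix Cfsg.Agent.Transvec Cfsg.Agent.TensorMax
open Cfsg.Agent.TensorMax.U (kr mv_kr_ten isKron_kr isKron_mul isKron_inv mv_kron_ten ext_ten_mv)
open Cfsg.Agent.Transvec.Orth (pol IsSiegel)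

/-- A non-trivial subgroup of a square normalised by the diagonal. -/
theorem goursat {G : Type*} [Group G] [IsSimpleGroup G] (hc : ∀ z : G, (∀ x, z * x = x * z) → z = 1)
    (T : Subgroup (G × G)) (hd : ∀ (z : G) (p : G × G), p ∈ T → (z * p.1 * z⁻¹, z * p.2 * z⁻¹) ∈ T)
    (hne : ∃ p ∈ T, p ≠ 1) :
    (∀ x, (x, 1) ∈ T) ∨ (∀ x, (1, x) ∈ T) ∨ (∀ x, (x, x) ∈ T) := by
  let N₁ := T.comap (MonoidHom.inl G G)
  let N₂ := T.comap (MonoidHom.inr G G)
  have n₁ : N₁.Normal := ⟨fun n hn z => by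
    show (z * n * z⁻¹, (1 : G)) ∈ T
    simpa using hd z (n, 1) hn⟩
  have n₂ : N₂.Normal := ⟨fun n hn z => by
    show ((1 : G), z * n * z⁻¹) ∈ T
    simpa using hd z (1, n) hn⟩
  rcases n₁.eq_bot_or_eq_top with h₁ | h₁
  swap
  · exact Or.inl fun x => show x ∈ N₁ from h₁ ▸ Subgroup.mem_top x
  rcases n₂.eq_bot_or_eq_top with h₂ | h₂
  swap
  · exact Or.inr (Or.inl fun x => show x ∈ N₂ from h₂ ▸ Subgroup.mem_top x)
  let P₁ := T.map (MonoidHom.fst G G)
  let P₂ := T.map (MonoidHom.snd G G)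
  have hk₁ : ∀ x, (x, (1 : G)) ∈ T → x = 1 := fun x h => (Subgroup.eq_bot_iff_forall _).1 h₁ x h
  have hk₂ : ∀ x, ((1 : G), x) ∈ T → x = 1 := fun x h => (Subgroup.eq_bot_iff_forall _).1 h₂ x h
  obtain ⟨⟨a, b⟩, hp, hp1⟩ := hne
  have q₁ : P₁ = ⊤ := by
    have hn : P₁.Normal := ⟨by
      rintro _ ⟨p, hp, rfl⟩ z
      exact ⟨_, hd z p hp, rfl⟩⟩
    refine hn.eq_bot_or_eq_top.resolve_left fun h => hp1 ?_
    have ha : a = 1 := (Subgroup.eq_bot_iff_forall _).1 h a ⟨(a, b), hp, rfl⟩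
    subst ha
    rw [hk₂ b hp]; rfl
  have q₂ : P₂ = ⊤ := by
    have hn : P₂.Normal := ⟨by
      rintro _ ⟨p, hp, rfl⟩ z
      exact ⟨_, hd z p hp, rfl⟩⟩
    refine hn.eq_bot_or_eq_top.resolve_left fun h => hp1 ?_
    have hb : b = 1 := (Subgroup.eq_bot_iff_forall _).1 h b ⟨(a, b), hp, rfl⟩
    subst hb
    rw [hk₁ a hp]; rfl
  refine Or.inr (Or.inr fun z => ?_)
  obtain ⟨⟨z', w⟩, hzw, rfl⟩ : z ∈ P₁ := q₁ ▸ Subgroup.mem_top z
  suffices z' = w by rw [← this] at hzw; exact hzw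
  refine (inv_mul_eq_one.1 (hc (w⁻¹ * z') fun y => ?_)).symm
  obtain ⟨⟨x, y'⟩, hxy, rfl⟩ : y ∈ P₂ := q₂ ▸ Subgroup.mem_top y
  show w⁻¹ * z' * y' = y' * (w⁻¹ * z')
  have h1 := T.mul_mem (T.mul_mem hzw hxy) (T.inv_mem hzw)
  have h2 := T.mul_mem (T.inv_mem (hd z' (x, y') hxy)) h1
  simp only [Prod.mk_mul_mk, Prod.inv_mk, inv_mul_cancel] at h2
  have h3 : w * y' * w⁻¹ = z' * y' * z'⁻¹ := (inv_mul_eq_one.1 (hk₂ _ h2)).symm
  calc w⁻¹ * z' * y' = w⁻¹ * (z' * y' * z'⁻¹) * z' := by group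
    _ = w⁻¹ * (w * y' * w⁻¹) * z' := by rw [h3]
    _ = y' * (w⁻¹ * z') := by group

variable {α β : Type} [Fintype α] [DecidableEq α] [Fintype β] [DecidableEq β] {F : Type*} [Field F]
variable {Q : (α × β → F) → F} {q₁ : (α → F) → F} {q₂ : (β → F) → F}
variable {M : Subgroup (GL (α × β) F)}

/-- A member keeps the orthogonal complement of the tensors over two frame vectors. -/
theorem third_line (H : Hyp Q q₁ q₂ M) {g : GL (α × β) F} (hg : g ∈ M) {a b c : α → F}
    (hf : Frame q₁ a b c) {G₁ G₂ : GL β F} (ha : ∀ w, mv g (ten a w) = ten a (mv G₁ w))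
    (hb : ∀ w, mv g (ten b w) = ten b (mv G₂ w)) (w : β → F) :
    ∃ w', mv g (ten c w) = ten c w' := by
  have hzero : ∀ (e : α → F) (G : GL β F), (∀ w, mv g (ten e w) = ten e (mv G w)) → pol q₁ c e = 0 →
      pl q₁ e (mv g (ten c w)) = 0 := fun e G he hce => by
    refine eq_zero_of_orth H.h₂ fun z => ?_
    have h1 := H.toCtx.iso hg (ten c w) (ten e (mv G⁻¹ z))
    rw [he, mv_mv_inv, H.hpol, hce, zero_mul] at h1
    have e1 : ∀ x : α × β → F, pol q₂ (pl q₁ e x) z = pol Q x (ten e z) := fun x => by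
      have e2 : (Transvec.Orth.formQ H.h₂ z).comp (pl q₁ e) = Transvec.Orth.formQ H.hQ (ten e z) := ext_ten fun u v => by
        rw [LinearMap.comp_apply, Transvec.Orth.formQ_apply, Transvec.Orth.formQ_apply, pl_ten H.h₁ H.two, Transvec.Orth.pol_smul_left H.h₂,
          H.hpol]
      exact LinearMap.congr_fun e2 x
    rw [e1, h1]
  refine ⟨(2 * q₁ c)⁻¹ • pl q₁ c (mv g (ten c w)), ?_⟩
  conv_lhs => rw [hf.decV H.h₁ H.two (mv g (ten c w))]
  rw [hzero a G₁ ha (by rw [Transvec.Orth.pol_comm]; exact hf.hac), hzero b G₂ hb (by rw [Transvec.Orth.pol_comm]; exact hf.hbc)]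
  simp [ten_zero_right]

/-- The action on one line as an isometry of the second factor. -/
theorem line_map (H : Hyp Q q₁ q₂ M) {g : GL (α × β) F} (hg : g ∈ M) {a b : α → F}
    (ha : q₁ a ≠ 0) (hab : q₁ a = q₁ b) (h : ∀ w, ∃ w', mv g (ten a w) = ten b w') :
    ∃ G ∈ isometryGroup F q₂, ∀ w, mv g (ten a w) = ten b (mv G w) := by
  choose G hG using h
  have hb0 : b ≠ 0 := ne_zero_of_aniso H.h₁ H.two (hab ▸ ha)
  let L : (β → F) →ₗ[F] β → F :=
    { toFun := G
      map_add' := fun w z => ten_left_cancel hb0 (by rw [← hG, ten_add_right, mv_add, hG, hG, ten_add_right])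
      map_smul' := fun t w => ten_left_cancel hb0 (by
        rw [RingHom.id_apply, ← hG, ten_smul_right, mv_smul, hG, ten_smul_right]) }
  have hinj : Function.Injective L := fun w z hwz => ten_left_cancel (ne_zero_of_aniso H.h₁ H.two ha)
    (mv_inj g (by rw [hG, hG]; exact congrArg (ten b) hwz))
  obtain ⟨A, hA⟩ := exists_gl L hinj
  refine ⟨A, Transvec.Orth.mem_isometry.2 fun w => ?_, fun w => by rw [hA]; exact hG w⟩
  have h1 := Transvec.Orth.mem_isometry.1 (H.le hg) (ten a w)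
  rw [hG, H.toCtx.q_ten, H.toCtx.q_ten, hab] at h1
  rw [hA]
  exact mul_left_cancel₀ (mul_ne_zero H.two (hab ▸ ha)) h1

/-- Realised actions on the tensors over one frame vector alone cannot be non-trivial. -/
theorem one_coordinate [Fintype F] (H : Hyp Q q₁ q₂ M) (hC : CentreTriv q₂ M) {e : α → F} (he : q₁ e ≠ 0)
    (h : ∀ x ∈ Geo.omegaGL q₂, ∃ g ∈ M, (∀ w, mv g (ten e w) = ten e (mv x w)) ∧
      ∀ u w, pol q₁ u e = 0 → mv g (ten u w) = ten u w) : False := by
  classical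
  obtain ⟨c, -, hc0, hc⟩ := Transvec.Orth.exists_singular H.h₂ (X := ⊤)
    (by rw [finrank_top, Module.finrank_pi, H.hβ4]; omega)
  obtain ⟨v, hv, hqv⟩ := exists_aniso_perp H.h₂ (P := Submodule.span F {c}) (by
    rw [finrank_span_singleton hc0, H.hβ4]; omega)
  have hcv := hv c (Submodule.mem_span_singleton_self c)
  have hvc : pol q₂ v c = 0 := by rw [Transvec.Orth.pol_comm, hcv]
  have hcc := pol_self_zero H.h₂ hc
  obtain ⟨E, -, hE⟩ := Transvec.Orth.exists_siegel H.h₂ hc hcv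
  obtain ⟨g, hg, hge, hgo⟩ := h E (siegel_mem_factor H.h₂ H.hβ4 H.minus H.two hc hcv hE)
  have hee : (2 : F) * q₁ e ≠ 0 := mul_ne_zero H.two he
  -- the formula
  have hgf : ∀ u w, mv g (ten u w) = ten u w + (pol q₁ u e / (2 * q₁ e)) • ten e (mv E w - w) := by
    intro u w
    have hperp : pol q₁ (u - (pol q₁ u e / (2 * q₁ e)) • e) e = 0 := by
      rw [Transvec.Orth.pol_sub_left H.h₁, Transvec.Orth.pol_smul_left H.h₁, Transvec.Orth.pol_self H.h₁, div_mul_cancel₀ _ hee, sub_self]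
    have hu : u = (u - (pol q₁ u e / (2 * q₁ e)) • e) + (pol q₁ u e / (2 * q₁ e)) • e := by abel
    conv_lhs => rw [hu, ten_add_left, mv_add, hgo _ w hperp, ten_smul_left, mv_smul, hge]
    funext i
    simp [ten]
    ring
  -- a conjugate at another vector
  obtain ⟨e₀, -, he₀0, he₀⟩ := Transvec.Orth.exists_singular H.h₁ (X := ⊤)
    (by rw [finrank_top, Module.finrank_pi, H.hα3])
  obtain ⟨u, hu, hue⟩ : ∃ u, q₁ u = 0 ∧ pol q₁ u e ≠ 0 := by
    by_contra hcon
    push Not at hcon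
    refine hee ?_
    rw [← Transvec.Orth.pol_self H.h₁]
    let S : Submodule F (α → F) :=
      { carrier := {x | pol q₁ x e = 0}
        add_mem' := fun {x y} hx hy => by
          show pol q₁ (x + y) e = 0
          rw [Transvec.Orth.pol_add_left H.h₁, show pol q₁ x e = 0 from hx, show pol q₁ y e = 0 from hy, add_zero]
        zero_mem' := Transvec.Orth.pol_zero_left H.h₁ e
        smul_mem' := fun t x hx => by
          show pol q₁ (t • x) e = 0
          rw [Transvec.Orth.pol_smul_left H.h₁, show pol q₁ x e = 0 from hx, mul_zero] }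
    exact eq_top_of_singular H.h₁ (S := S) H.hα (fun x _ hx => hcon x hx) e
  -- a vector orthogonal to e and u
  have hue' : pol q₁ e u ≠ 0 := by rwa [Transvec.Orth.pol_comm]
  set f := u - (pol q₁ u e / (2 * q₁ e)) • e with hf
  have hfe : pol q₁ f e = 0 := by
    rw [hf, Transvec.Orth.pol_sub_left H.h₁, Transvec.Orth.pol_smul_left H.h₁, Transvec.Orth.pol_self H.h₁, div_mul_cancel₀ _ hee, sub_self]
  have hff : q₁ f ≠ 0 := by
    have : q₁ f = -(pol q₁ u e ^ 2 / (4 * q₁ e)) := by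
      rw [hf, Transvec.Orth.q_sub H.h₁, Transvec.Orth.q_smul H.h₁, Transvec.Orth.pol_smul_right H.h₁, hu]
      have := he
      have := H.two
      have h4 : (4 : F) ≠ 0 := by
        rw [show (4 : F) = 2 * 2 by norm_num]; exact mul_ne_zero H.two H.two
      field_simp
      ring
    rw [this, neg_ne_zero, div_ne_zero_iff]
    refine ⟨pow_ne_zero _ hue, mul_ne_zero ?_ he⟩
    rw [show (4 : F) = 2 * 2 by norm_num]; exact mul_ne_zero H.two H.two
  obtain ⟨hn, hd⟩ := Transvec.Orth.nondeg_perp H.h₁ H.two (Transvec.Orth.nondeg_top H.h₁) (Submodule.mem_top (x := e)) he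
  rw [finrank_top, Module.finrank_pi, H.hα3] at hd
  have hfmem : f ∈ (⊤ : Submodule F (α → F)) ⊓ Transvec.Orth.orth H.h₁ (Submodule.span F {e}) := by
    refine ⟨Submodule.mem_top, (Transvec.Orth.mem_orth_span H.h₁).2 ?_⟩
    simp [Transvec.Orth.pol_comm e f, hfe]
  obtain ⟨hn', hd'⟩ := Transvec.Orth.nondeg_perp H.h₁ H.two hn hfmem hff
  obtain ⟨y, hy, hyq⟩ := Transvec.Orth.exists_anisotropic H.h₁ hn' fun h => by rw [h, finrank_bot] at hd'; omega
  have hey : pol q₁ e y = 0 := hy.1.2 e (Submodule.mem_span_singleton_self e)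
  have huy : pol q₁ u y = 0 := by
    have h1 : pol q₁ f y = 0 := hy.2 f (Submodule.mem_span_singleton_self f)
    rw [hf, Transvec.Orth.pol_sub_left H.h₁, Transvec.Orth.pol_smul_left H.h₁, hey, mul_zero, sub_zero] at h1
    exact h1
  haveI : Finite F := Finite.of_fintype F
  obtain ⟨l, hl0, hl⟩ : ∃ l : F, l ≠ 0 ∧ 2 * q₁ e - q₁ y * l ^ 2 * pol q₁ e u ^ 2 ≠ 0 := by
    by_contra hcon
    push Not at hcon
    obtain ⟨r, hr0, hr⟩ := Transvec.Orth.exists_sq_ne_one (F := F) (by rw [← Nat.card_eq_fintype_card]; exact H.q5)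
    have e1 := hcon 1 one_ne_zero
    have e2 := hcon r hr0
    refine hr (mul_left_cancel₀ (mul_ne_zero hyq (pow_ne_zero 2 hue')) ?_)
    linear_combination e1 - e2
  have huly : pol q₁ u (l • y) = 0 := by rw [Transvec.Orth.pol_smul_right H.h₁, huy, mul_zero]
  obtain ⟨A, hA, hAs, hAM⟩ := memU_siegel H.toCtx hu huly
  set e' := mv A e with he'
  have he'q : q₁ e' = q₁ e := Transvec.Orth.mem_isometry.1 hA e
  have he'v : e' = e + pol q₁ e u • (l • y) - (q₁ y * l ^ 2 * pol q₁ e u) • u := by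
    rw [he', hAs e, Transvec.Orth.pol_smul_right H.h₁, hey, Transvec.Orth.q_smul H.h₁, mul_zero, zero_add]
    congr 2
    ring
  have hee' : pol q₁ e e' ≠ 0 := by
    rw [he'v, Transvec.Orth.pol_sub_right H.h₁, Transvec.Orth.pol_add_right H.h₁, Transvec.Orth.pol_self H.h₁, Transvec.Orth.pol_smul_right H.h₁,
      Transvec.Orth.pol_smul_right H.h₁, Transvec.Orth.pol_smul_right H.h₁, hey, mul_zero, mul_zero, add_zero]
    intro h0
    exact hl (by linear_combination h0)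
  have hnotin : ∀ r : F, e' ≠ r • e := fun r hr => by
    have h1 := congrArg (fun x => pol q₁ x y) hr
    simp only [he'v, Transvec.Orth.pol_sub_left H.h₁, Transvec.Orth.pol_add_left H.h₁, Transvec.Orth.pol_smul_left H.h₁, hey, huy,
      Transvec.Orth.pol_self H.h₁, mul_zero, zero_add, sub_zero] at h1
    exact mul_ne_zero hue' (mul_ne_zero hl0 (mul_ne_zero H.two hyq)) h1
  set g' := kr A (1 : GL β F) * g * (kr A 1)⁻¹ with hg'
  have hg'M : g' ∈ M := M.mul_mem (M.mul_mem hAM hg) (M.inv_mem hAM)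
  have hgf' : ∀ u w, mv g' (ten u w) = ten u w + (pol q₁ u e' / (2 * q₁ e)) • ten e' (mv E w - w) := by
    intro u w
    rw [hg', mv_mul, mv_mul, kr_inv, mv_kr_ten, inv_one, mv_one, hgf, mv_add, mv_smul, mv_kr_ten, mv_kr_ten,
      mv_one, mv_mv_inv, mv_one]
    congr 2
    rw [← Transvec.Orth.pol_mv H.h₁ hA, mv_mv_inv]
  -- the commutator fixes the orthogonal of the line of c
  have hline : ∀ (k : GL (α × β) F) (r : α → F), (∀ u w, mv k (ten u w) = ten u w + (pol q₁ u r / (2 * q₁ e)) •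
      ten r (mv E w - w)) → ∀ x, pc q₂ c x = 0 → ∃ z, mv k x = x + ten z c := by
    intro k r hk x hx
    let L : (α × β → F) →ₗ[F] α × β → F := mvLin k - LinearMap.id
    let R : (α × β → F) →ₗ[F] α × β → F := (2 * q₁ e)⁻¹ • ((rho v).comp ((LinearMap.smulRight
      (Transvec.Orth.formQ H.h₁ r) r).comp (pc q₂ c)) -
      (rho c).comp ((LinearMap.smulRight (Transvec.Orth.formQ H.h₁ r) r).comp (pc q₂ v + q₂ v • pc q₂ c)))
    have e1 : L = R := ext_ten fun a w => by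
      simp only [L, R, LinearMap.sub_apply, LinearMap.id_apply, LinearMap.smul_apply, LinearMap.comp_apply,
        Matrix.toLin'_apply, rho_apply, LinearMap.smulRight_apply, Transvec.Orth.formQ_apply, LinearMap.add_apply,
        pc_ten H.toCtx]
      show mv k (ten a w) - ten a w = _
      rw [hk, hE w]
      simp only [Transvec.Orth.pol_add_left H.h₁, Transvec.Orth.pol_smul_left H.h₁]
      funext i
      simp [ten]
      ring
    have e2 := LinearMap.congr_fun e1 x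
    simp only [L, R, LinearMap.sub_apply, LinearMap.id_apply, LinearMap.smul_apply, LinearMap.comp_apply,
      Matrix.toLin'_apply, rho_apply, LinearMap.add_apply, hx, map_zero, ten_zero_left, zero_sub,
      smul_zero, add_zero] at e2
    refine ⟨-((2 * q₁ e)⁻¹ • (LinearMap.smulRight (Transvec.Orth.formQ H.h₁ r) r) (pc q₂ v x)), ?_⟩
    rw [ten_neg_left, ten_smul_left, ← sub_eq_iff_eq_add'.1 (e2.trans (smul_neg _ _))]
  have hfixc : ∀ (k : GL (α × β) F) (r : α → F), (∀ u w, mv k (ten u w) = ten u w + (pol q₁ u r / (2 * q₁ e)) •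
      ten r (mv E w - w)) → ∀ z, mv k (ten z c) = ten z c := fun k r hk z => by
    rw [hk, hE c, hcc, hcv]
    simp [ten_zero_right]
  set k := g * g' * g⁻¹ * g'⁻¹ with hk
  have hk1 : k = 1 := hC c hc0 hc k (M.mul_mem (M.mul_mem (M.mul_mem hg hg'M) (M.inv_mem hg)) (M.inv_mem hg'M))
    fun x hx => by
    have hinv : ∀ (k : GL (α × β) F) (r : α → F), (∀ u w, mv k (ten u w) = ten u w + (pol q₁ u r / (2 * q₁ e)) •
        ten r (mv E w - w)) → ∀ x, pc q₂ c x = 0 → ∃ z, mv k⁻¹ x = x - ten z c ∧ mv k x = x + ten z c := by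
      intro k r hr x hx
      obtain ⟨z, hz⟩ := hline k r hr x hx
      refine ⟨z, mv_inj k ?_, hz⟩
      rw [mv_mv_inv, mv_sub, hz, hfixc k r hr, add_sub_cancel_right]
    obtain ⟨z, hz, hz'⟩ := hinv g e hgf x hx
    obtain ⟨z', hz1, hz2⟩ := hinv g' e' hgf' x hx
    rw [hk, mv_mul, mv_mul, mv_mul, hz1, mv_sub, hz]
    have hinvc : mv g⁻¹ (ten z' c) = ten z' c := mv_inj g (by rw [mv_mv_inv, hfixc g e hgf])


    simp only [hinvc, mv_sub, mv_add, hz2, hz', hfixc g e hgf, hfixc g' e' hgf']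
    abel
  have hcomm : g * g' = g' * g := by
    have := congrArg (fun t => t * (g' * g)) hk1
    rw [hk, one_mul] at this
    simpa [mul_assoc] using this
  obtain ⟨d, hd, hcd⟩ := exists_pair H.h₂ hc0 hc
  have hdc : pol q₂ d c = 1 := by rw [Transvec.Orth.pol_comm, hcd]
  have h1 : mv (g * g') (ten e d) = mv (g' * g) (ten e d) := by rw [hcomm]
  simp only [mv_mul, hgf, hgf', mv_add, mv_smul] at h1
  have h2 := congrArg (pc q₂ d) h1
  have hEd : mv E d - d = v - (pol q₂ d v + q₂ v) • c := by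
    rw [hE d, hdc]; module
  have hEv : mv E (v - (pol q₂ d v + q₂ v) • c) - (v - (pol q₂ d v + q₂ v) • c) = (-(2 * q₂ v)) • c := by
    rw [hE]
    simp only [Transvec.Orth.pol_sub_left H.h₂, Transvec.Orth.pol_smul_left H.h₂, hvc, hcc, hcv, Transvec.Orth.pol_self H.h₂]
    module
  rw [hEd, hEv] at h2
  simp only [map_add, map_smul, pc_ten H.toCtx, Transvec.Orth.pol_sub_left H.h₂, Transvec.Orth.pol_smul_left H.h₂, hcd,
    Transvec.Orth.pol_comm e' e, Transvec.Orth.pol_self H.h₁, hee, div_self, ne_eq, not_false_eq_true, smul_smul, smul_add,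
    one_smul] at h2
  refine hnotin ((pol q₁ e e') / (2 * q₁ e)) ?_
  have h3 : (pol q₁ e e' / (2 * q₁ e) * (-(2 * q₂ v))) • ((pol q₁ e e' / (2 * q₁ e)) • e - e') = 0 := by
    linear_combination (norm := module) h2
  rcases smul_eq_zero.1 h3 with h | h
  · exact absurd h (mul_ne_zero (div_ne_zero hee' hee) (neg_ne_zero.2 (mul_ne_zero H.two hqv)))
  · exact (sub_eq_zero.1 h).symm

/-- The triple lemma. -/
theorem triple [Fintype F] (H : Hyp Q q₁ q₂ M) (hC : CentreTriv q₂ M) {g : GL (α × β) F} (hg : g ∈ M)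
    {a b c : α → F} (hf : Frame q₁ a b c) (ha : ∀ w, mv g (ten a w) = ten a w)
    (hb : ∀ w, ∃ w', mv g (ten b w) = ten b w') : CommB q₂ g := by
  classical
  obtain ⟨hS, -⟩ := factor_simple H.h₂ H.hβ4 H.minus H.two
  obtain ⟨G₂, hG₂, hGb⟩ := line_map H hg hf.hb rfl hb
  obtain ⟨G₃, hG₃, hGc⟩ := line_map H hg hf.hc rfl
    (fun w => third_line H hg hf (G₁ := 1) (G₂ := G₂) (fun w => by rw [mv_one]; exact ha w) hGb w)
  by_contra hne
  let Act : GL (α × β) F → GL β F → GL β F → GL β F → Prop := fun k X Y Z =>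
    (∀ w, mv k (ten a w) = ten a (mv X w)) ∧ (∀ w, mv k (ten b w) = ten b (mv Y w)) ∧
      ∀ w, mv k (ten c w) = ten c (mv Z w)
  have act_mul : ∀ {k k' X Y Z X' Y' Z'}, Act k X Y Z → Act k' X' Y' Z' →
      Act (k * k') (X * X') (Y * Y') (Z * Z') := fun h h' =>
    ⟨fun w => by rw [mv_mul, h'.1, h.1, mv_mul], fun w => by rw [mv_mul, h'.2.1, h.2.1, mv_mul],
      fun w => by rw [mv_mul, h'.2.2, h.2.2, mv_mul]⟩
  have act_inv : ∀ {k X Y Z}, Act k X Y Z → Act k⁻¹ X⁻¹ Y⁻¹ Z⁻¹ := fun {k X Y Z} h =>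
    ⟨fun w => mv_inj k (by rw [mv_mv_inv, h.1, mv_mv_inv]), fun w => mv_inj k (by rw [mv_mv_inv, h.2.1, mv_mv_inv]),
      fun w => mv_inj k (by rw [mv_mv_inv, h.2.2, mv_mv_inv])⟩
  have act_kr : ∀ B : GL β F, Act (kr 1 B) B B B := fun B =>
    ⟨fun w => by rw [mv_kr_ten, mv_one], fun w => by rw [mv_kr_ten, mv_one], fun w => by rw [mv_kr_ten, mv_one]⟩
  let T : Subgroup (↥(Geo.omegaGL q₂) × ↥(Geo.omegaGL q₂)) :=
    { carrier := {p | ∃ k ∈ M, Act k 1 p.1 p.2}
      one_mem' := ⟨1, M.one_mem, by simp [Act, mv_one]⟩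
      mul_mem' := fun {p p'} ⟨k, hk, h⟩ ⟨k', hk', h'⟩ =>
        ⟨k * k', M.mul_mem hk hk', by simpa using act_mul h h'⟩
      inv_mem' := fun {p} ⟨k, hk, h⟩ => ⟨k⁻¹, M.inv_mem hk, by simpa using act_inv h⟩ }
  have hd : ∀ (z : ↥(Geo.omegaGL q₂)) p, p ∈ T → (z * p.1 * z⁻¹, z * p.2 * z⁻¹) ∈ T := by
    rintro z p ⟨k, hk, h⟩
    refine ⟨kr 1 (z : GL β F) * k * (kr 1 (z : GL β F))⁻¹,
      M.mul_mem (M.mul_mem (H.memB _ z.2) hk) (M.inv_mem (H.memB _ z.2)), ?_⟩
    simpa using act_mul (act_mul (act_kr (z : GL β F)) h) (act_inv (act_kr (z : GL β F)))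
  have hgA : Act g 1 G₂ G₃ := ⟨fun w => by rw [mv_one]; exact ha w, hGb, hGc⟩
  have hT : ∃ p ∈ T, p ≠ 1 := by
    by_contra hcon
    push Not at hcon
    refine hne fun B hB => ?_
    have hBI := omega_le q₂ hB
    have hmem : (⟨B * G₂ * B⁻¹ * G₂⁻¹, comm_mem_omega hBI hG₂⟩, ⟨B * G₃ * B⁻¹ * G₃⁻¹, comm_mem_omega hBI hG₃⟩) ∈ T := by
      refine ⟨kr 1 B * g * (kr 1 B)⁻¹ * g⁻¹,
        M.mul_mem (M.mul_mem (M.mul_mem (H.memB _ hB) hg) (M.inv_mem (H.memB _ hB))) (M.inv_mem hg), ?_⟩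
      simpa using act_mul (act_mul (act_mul (act_kr B) hgA) (act_inv (act_kr B))) (act_inv hgA)
    have h1 := hcon _ hmem
    have k2 : B * G₂ = G₂ * B := by
      have := congrArg (fun t => t * G₂ * B) (congrArg Subtype.val (congrArg Prod.fst h1))
      simpa [mul_assoc] using this
    have k3 : B * G₃ = G₃ * B := by
      have := congrArg (fun t => t * G₃ * B) (congrArg Subtype.val (congrArg Prod.snd h1))
      simpa [mul_assoc] using this
    have hl := act_mul hgA (act_kr B)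
    have hr := act_mul (act_kr B) hgA
    rw [k2, k3, mul_one] at hr
    rw [one_mul] at hl
    exact hf.ext H.h₁ H.two (fun w => by rw [hl.1, hr.1]) (fun w => by rw [hl.2.1, hr.2.1])
      (fun w => by rw [hl.2.2, hr.2.2])
  haveI := hS
  have single : ∀ {e u v : α → F}, Frame q₁ e u v → (∀ x ∈ Geo.omegaGL q₂, ∃ k ∈ M,
      (∀ w, mv k (ten e w) = ten e (mv x w)) ∧ (∀ w, mv k (ten u w) = ten u w) ∧
        ∀ w, mv k (ten v w) = ten v w) → False := by
    intro e u v hF h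
    refine one_coordinate H hC hF.ha fun x hx => ?_
    obtain ⟨k, hk, he, hu, hv⟩ := h x hx
    refine ⟨k, hk, he, fun z w hz => ?_⟩
    rw [hF.dec z, hz, zero_div, zero_smul, zero_add, ten_add_left, ten_smul_left, ten_smul_left, mv_add, mv_smul,
      mv_smul, hu, hv]
  rcases goursat (fun z hz => Subtype.ext (center_trivial H.h₂ H.hβ4 H.minus H.two z.2 fun x hx =>
      congrArg Subtype.val (hz ⟨x, hx⟩))) T hd hT with h | h | h
  · refine single (hf.rot H.h₁ H.two) fun x hx => ?_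
    obtain ⟨k, hk, h1, h2, h3⟩ := h ⟨x, hx⟩
    exact ⟨k, hk, h2, fun w => (h3 w).trans (by simp [mv_one]), fun w => (h1 w).trans (by simp [mv_one])⟩
  · refine single ((hf.rot H.h₁ H.two).rot H.h₁ H.two) fun x hx => ?_
    obtain ⟨k, hk, h1, h2, h3⟩ := h ⟨x, hx⟩
    exact ⟨k, hk, h3, fun w => (h1 w).trans (by simp [mv_one]), fun w => (h2 w).trans (by simp [mv_one])⟩
  · refine single hf fun x hx => ?_
    obtain ⟨k, hk, hA⟩ := h ⟨x⁻¹, inv_mem hx⟩
    have hA' := act_mul hA (act_kr x)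
    simp only [one_mul, inv_mul_cancel] at hA'
    exact ⟨k * kr 1 x, M.mul_mem hk (H.memB _ hx), hA'.1, fun w => (hA'.2.1 w).trans (by simp [mv_one]),
      fun w => (hA'.2.2 w).trans (by simp [mv_one])⟩

end Cfsg.Agent.OrthTensorMirror
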