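/-
Isometries of the three-space fixing a vector, and members acting on the first factor alone.
-/
import Cfsg.Agent.Lib.OrthTensorMirror.Triple

set_option autoImplicit false
set_option linter.unusedSectionVars false

namespace Cfsg.Agent.OrthTensorMirror

open scoped Matrix Kronecker
open Matrix Cfsg.Agent.Transvec Cfsg.Agent.TensorMax
open Cfsg.Agent.TensorMax.U (kr mv_kr_ten isKron_kr isKron_mul isKron_inv mv_kron_ten ext_ten_mv)
open Cfsg.Agent.Transvec.Orth (pol IsSiegel IsRefl)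

variable {α β : Type} [Fintype α] [DecidableEq α] [Fintype β] [DecidableEq β] {F : Type*} [Field F]
variable {Q : (α × β → F) → F} {q₁ : (α → F) → F} {q₂ : (β → F) → F}
variable {M : Subgroup (GL (α × β) F)}

/-- A rotation of the plane orthogonal to u. -/
def IsRot (q₁ : (α → F) → F) (A : GL α F) (b c : α → F) (x y : F) : Prop :=
  mv A b = x • b + y • c ∧ mv A c = (-(y * q₁ c / q₁ b)) • b + x • c ∧ x ^ 2 * q₁ b + y ^ 2 * q₁ c = q₁ b

/-- An isometry fixing u rotates the orthogonal plane or is a reflection. -/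
theorem plane_form (h₁ : Geo.IsNondegenerateQuadraticForm q₁) (h2 : (2 : F) ≠ 0) {A : GL α F}
    (hA : A ∈ isometryGroup F q₁) {u b c : α → F} (hf : Frame q₁ u b c) (hu : mv A u = u) :
    (∃ x y, IsRot q₁ A b c x y) ∨ ∃ z, IsRefl q₁ A z := by
  have hbu : pol q₁ b u = 0 := by rw [Transvec.Orth.pol_comm, hf.hab]
  have hcu : pol q₁ c u = 0 := by rw [Transvec.Orth.pol_comm, hf.hac]
  have hcb : pol q₁ c b = 0 := by rw [Transvec.Orth.pol_comm, hf.hbc]
  have h2b : (2 : F) * q₁ b ≠ 0 := mul_ne_zero h2 hf.hb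
  have h2c : (2 : F) * q₁ c ≠ 0 := mul_ne_zero h2 hf.hc
  have hperp : ∀ v, pol q₁ v u = 0 → pol q₁ (mv A v) u = 0 := fun v hv => by
    conv_lhs => rw [← hu]
    rw [Transvec.Orth.pol_mv h₁ hA, hv]
  obtain ⟨x, y, hAb⟩ : ∃ x y : F, mv A b = x • b + y • c := ⟨_, _, by
    conv_lhs => rw [hf.dec (mv A b)]
    rw [hperp b hbu, zero_div, zero_smul, zero_add]⟩
  obtain ⟨r, s, hAc⟩ : ∃ r s : F, mv A c = r • b + s • c := ⟨_, _, by
    conv_lhs => rw [hf.dec (mv A c)]
    rw [hperp c hcu, zero_div, zero_smul, zero_add]⟩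
  have e1 : x ^ 2 * q₁ b + y ^ 2 * q₁ c = q₁ b := by
    have h := Transvec.Orth.mem_isometry.1 hA b
    rw [hAb, Transvec.Orth.q_add h₁, Transvec.Orth.q_smul h₁, Transvec.Orth.q_smul h₁, Transvec.Orth.pol_smul_left h₁, Transvec.Orth.pol_smul_right h₁,
      hf.hbc] at h
    linear_combination h
  have e2 : r ^ 2 * q₁ b + s ^ 2 * q₁ c = q₁ c := by
    have h := Transvec.Orth.mem_isometry.1 hA c
    rw [hAc, Transvec.Orth.q_add h₁, Transvec.Orth.q_smul h₁, Transvec.Orth.q_smul h₁, Transvec.Orth.pol_smul_left h₁, Transvec.Orth.pol_smul_right h₁,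
      hf.hbc] at h
    linear_combination h
  have e3 : x * r * q₁ b + y * s * q₁ c = 0 := by
    have h := Transvec.Orth.pol_mv h₁ hA b c
    rw [hAb, hAc, hf.hbc] at h
    simp only [Transvec.Orth.pol_add_left h₁, Transvec.Orth.pol_add_right h₁, Transvec.Orth.pol_smul_left h₁, Transvec.Orth.pol_smul_right h₁,
      Transvec.Orth.pol_self h₁, hf.hbc, hcb, mul_zero, add_zero, zero_add] at h
    exact mul_left_cancel₀ h2 (by linear_combination h)
  have hdet : (x * s - y * r) ^ 2 = 1 := by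
    refine mul_right_cancel₀ (mul_ne_zero hf.hb hf.hc) ?_
    linear_combination (r ^ 2 * q₁ b + s ^ 2 * q₁ c) * e1 + q₁ b * e2 -
      (x * r * q₁ b + y * s * q₁ c) * e3
  rcases sq_eq_one_iff.1 hdet with hd | hd
  · refine Or.inl ⟨x, y, hAb, ?_, e1⟩
    have hs : s = x := mul_right_cancel₀ hf.hb (by linear_combination x * q₁ b * hd + y * e3 - s * e1)
    have hr : r = -(y * q₁ c / q₁ b) := by
      rw [← neg_div, eq_div_iff hf.hb]
      linear_combination (-(y * q₁ c)) * hd + x * e3 - r * e1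
    rw [hAc, hr, hs]
  · have hs : s = -x := mul_right_cancel₀ hf.hb (by linear_combination x * q₁ b * hd + y * e3 - s * e1)
    have hr : r = y * q₁ c / q₁ b := by
      rw [eq_div_iff hf.hb]
      linear_combination (-(y * q₁ c)) * hd + x * e3 - r * e1
    refine Or.inr ?_
    have hext : ∀ {z : α → F}, q₁ z ≠ 0 → pol q₁ u z = 0 →
        mv A b = b - (pol q₁ b z / q₁ z) • z → mv A c = c - (pol q₁ c z / q₁ z) • z → IsRefl q₁ A z := by
      intro z hz huz hb hc
      refine ⟨hz, fun v => ?_⟩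
      conv_lhs => rw [hf.dec v, mv_add, mv_add, mv_smul, mv_smul, mv_smul, hu, hb, hc]
      conv_rhs => rw [hf.dec v]
      simp only [Transvec.Orth.pol_add_left h₁, Transvec.Orth.pol_smul_left h₁, huz, mul_zero, zero_add]
      module
    by_cases hx : x = 1
    · have hy : y = 0 := by
        subst hx
        exact pow_eq_zero_iff two_ne_zero |>.1 ((mul_eq_zero.1 (show y ^ 2 * q₁ c = 0 by
          linear_combination e1)).resolve_right hf.hc)
      subst hx hy
      refine ⟨c, hext hf.hc hf.hac ?_ ?_⟩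
      · rw [hAb, hf.hbc]; simp
      · rw [hAc, hr, hs, Transvec.Orth.pol_self h₁, mul_div_cancel_right₀ _ hf.hc]
        simp only [zero_mul, zero_div, zero_smul, zero_add]
        module
    · have hzq : q₁ ((1 - x) • b - y • c) = 2 * (1 - x) * q₁ b := by
        rw [Transvec.Orth.q_sub h₁, Transvec.Orth.q_smul h₁, Transvec.Orth.q_smul h₁, Transvec.Orth.pol_smul_left h₁, Transvec.Orth.pol_smul_right h₁, hf.hbc]
        linear_combination e1
      have hx1 : (1 : F) - x ≠ 0 := sub_ne_zero.2 (Ne.symm hx)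
      have hz0 : q₁ ((1 - x) • b - y • c) ≠ 0 := by
        rw [hzq]; exact mul_ne_zero (mul_ne_zero h2 hx1) hf.hb
      refine ⟨(1 - x) • b - y • c, hext hz0 ?_ ?_ ?_⟩
      · rw [Transvec.Orth.pol_sub_right h₁, Transvec.Orth.pol_smul_right h₁, Transvec.Orth.pol_smul_right h₁, hf.hab, hf.hac]; ring
      · rw [hAb, hzq, Transvec.Orth.pol_sub_right h₁, Transvec.Orth.pol_smul_right h₁, Transvec.Orth.pol_smul_right h₁, Transvec.Orth.pol_self h₁,
          hf.hbc]
        have := hf.hb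
        match_scalars <;> field_simp <;> ring
      · rw [hAc, hzq, hr, hs, Transvec.Orth.pol_sub_right h₁, Transvec.Orth.pol_smul_right h₁, Transvec.Orth.pol_smul_right h₁,
          Transvec.Orth.pol_self h₁, hcb]
        have := hf.hb
        match_scalars
        · field_simp
          first | ring1 | linear_combination e1 | linear_combination -e1 | linear_combination (2 : F) * e1 | linear_combination (-2 : F) * e1
        · field_simp
          first | ring1 | linear_combination e1 | linear_combination -e1 | linear_combination (2 : F) * e1 | linear_combination (-2 : F) * e1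

/-- Members commuting with the second factor's group form a subgroup. -/
def commSub (q₂ : (β → F) → F) : Subgroup (GL (α × β) F) where
  carrier := {g | CommB q₂ g}
  one_mem' := fun B _ => by rw [one_mul, mul_one]
  mul_mem' := fun {g h} hg hh B hB => by rw [mul_assoc, hh B hB, ← mul_assoc, hg B hB, mul_assoc]
  inv_mem' := fun {g} hg B hB => by
    rw [inv_mul_eq_iff_eq_mul, ← mul_assoc, hg B hB, mul_assoc, mul_inv_cancel, mul_one]

theorem mem_commSub {g : GL (α × β) F} : g ∈ commSub q₂ ↔ CommB q₂ g := Iff.rfl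

theorem mirror_comm (H : Hyp Q q₁ q₂ M) {m : GL (α × β) F} {a : α → F} (h : IsMirror q₁ m a) :
    CommB q₂ m := fun B _ => ext_ten_mv fun u w => by
  rw [mv_mul, mv_mul, mv_kr_ten, mv_one, h.2, h.2, mv_kr_ten, mv_one]

theorem mirror_inv (H : Hyp Q q₁ q₂ M) {m : GL (α × β) F} {a : α → F} (h : IsMirror q₁ m a) : m⁻¹ = m :=
  inv_eq_of_mul_eq_one_right (mirror_sq H.h₁ H.two h)

/-- The members fixing the tensors over a vector. -/
def fixGroup (M : Subgroup (GL (α × β) F)) (u : α → F) : Subgroup (GL (α × β) F) where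
  carrier := {g | g ∈ M ∧ ∀ w, mv g (ten u w) = ten u w}
  one_mem' := ⟨M.one_mem, fun w => mv_one _⟩
  mul_mem' := fun {g h} hg hh => ⟨M.mul_mem hg.1 hh.1, fun w => by rw [mv_mul, hh.2, hg.2]⟩
  inv_mem' := fun {g} hg => ⟨M.inv_mem hg.1, fun w => mv_inj g (by rw [mv_mv_inv, hg.2])⟩

theorem mem_fixGroup {g : GL (α × β) F} {u : α → F} :
    g ∈ fixGroup M u ↔ g ∈ M ∧ ∀ w, mv g (ten u w) = ten u w := Iff.rfl

/-- Fixed members commuting with the second factor's group rotate the plane. -/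
theorem comm_rot [Fintype F] (H : Hyp Q q₁ q₂ M) {g : GL (α × β) F} {u b c : α → F} (hf : Frame q₁ u b c)
    (hg : g ∈ fixGroup M u) (hB : CommB q₂ g) :
    ∃ (A : GL α F) (x y : F), g = kr A 1 ∧ mv A u = u ∧ IsRot q₁ A b c x y := by
  obtain ⟨A, rfl⟩ := eq_kr_of_comm H hB
  obtain ⟨c₀, d₀, w₁, w₂, -, -, hcd, hw₁, -⟩ := exists_pair_frame H.h₂ H.hβ4 H.minus H.two
  have hw0 : w₁ ≠ 0 := fun h => zero_ne_one (by rw [h, Transvec.Orth.q_zero H.h₂] at hw₁; exact hw₁)
  have hu : mv A u = u := ten_right_cancel hw0 (by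
    have h := hg.2 w₁
    rwa [mv_kr_ten, mv_one] at h)
  have hA : A ∈ isometryGroup F q₁ := Transvec.Orth.mem_isometry.2 fun v => by
    have h := Transvec.Orth.mem_isometry.1 (H.le hg.1) (ten v w₁)
    rw [mv_kr_ten, mv_one, H.toCtx.q_ten, H.toCtx.q_ten, hw₁, mul_one, mul_one] at h
    exact mul_left_cancel₀ H.two h
  rcases plane_form H.h₁ H.two hA hf hu with ⟨x, y, h⟩ | ⟨z, hz⟩
  · exact ⟨A, x, y, rfl, hu, h⟩
  · exfalso
    obtain ⟨m, hm, hmz⟩ := H.mirror z hz.1
    obtain ⟨x, hx⟩ := H.negnot _ (M.mul_mem hg.1 hm)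
    refine hx ?_
    have e : mvLin (kr A 1 * m) = -(LinearMap.id : (α × β → F) →ₗ[F] α × β → F) := ext_ten fun v w => by
      rw [Matrix.toLin'_apply]
      show mv (kr A 1 * m) (ten v w) = -ten v w
      rw [mv_mul, hmz.2, mv_kr_ten, mv_one, hz.2, Transvec.Orth.pol_sub_left H.h₁, Transvec.Orth.pol_smul_left H.h₁,
        Transvec.Orth.pol_self H.h₁, ← ten_neg_left]
      congr 1
      have := hz.1
      match_scalars <;> field_simp <;> ring
    have h := LinearMap.congr_fun e x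
    rw [Matrix.toLin'_apply] at h
    exact h

/-- Such members are determined by the two coefficients. -/
theorem rot_ext (H : Hyp Q q₁ q₂ M) {u b c : α → F} (hf : Frame q₁ u b c) {A A' : GL α F} {x y : F}
    (hu : mv A u = u) (hu' : mv A' u = u) (h : IsRot q₁ A b c x y) (h' : IsRot q₁ A' b c x y) : A = A' :=
  ext_mv fun z => by
    rw [hf.dec z, mv_add, mv_add, mv_add, mv_add, mv_smul, mv_smul, mv_smul, mv_smul, mv_smul, mv_smul, hu, hu',
      h.1, h'.1, h.2.1, h'.2.1]

/-- Fixed members commuting with the second factor's group commute with each other. -/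
theorem comm_comm [Fintype F] (H : Hyp Q q₁ q₂ M) {g g' : GL (α × β) F} {u b c : α → F}
    (hf : Frame q₁ u b c) (hg : g ∈ fixGroup M u) (hB : CommB q₂ g) (hg' : g' ∈ fixGroup M u)
    (hB' : CommB q₂ g') : g * g' = g' * g := by
  obtain ⟨A, x, y, rfl, hu, hb, hc, -⟩ := comm_rot H hf hg hB
  obtain ⟨A', x', y', rfl, hu', hb', hc', -⟩ := comm_rot H hf hg' hB'
  rw [kr_mul, kr_mul]
  congr 1
  refine ext_mv fun z => ?_
  rw [hf.dec z]
  simp only [mv_mul, mv_add, mv_smul, hu, hu', hb, hb', hc, hc']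
  module

/-- The involutions among them. -/
theorem comm_invol [Fintype F] (H : Hyp Q q₁ q₂ M) {g t : GL (α × β) F} {u : α → F} (ht : IsMirror q₁ t u)
    (hg : g ∈ fixGroup M u) (hB : CommB q₂ g) (h2 : g * g = 1) : g = 1 ∨ g = t := by
  obtain ⟨b, c, hf⟩ := exists_frame H.h₁ H.two H.hα3 ht.1
  obtain ⟨A, x, y, rfl, hu, hb, hc, hrel⟩ := comm_rot H hf hg hB
  obtain ⟨c₀, d₀, w₁, w₂, -, -, -, hw₁, -⟩ := exists_pair_frame H.h₂ H.hβ4 H.minus H.two
  have hw0 : w₁ ≠ 0 := fun h => zero_ne_one (by rw [h, Transvec.Orth.q_zero H.h₂] at hw₁; exact hw₁)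
  have h1 : mv A (mv A b) = b := ten_right_cancel hw0 (by
    have h := congrArg (fun k => mv k (ten b w₁)) h2
    simpa [mv_mul, mv_kr_ten, mv_one] using h)
  rw [hb, mv_add, mv_smul, mv_smul, hb, hc] at h1
  have k := congrArg (fun v => pol q₁ v b) h1
  have hcb : pol q₁ c b = 0 := by rw [Transvec.Orth.pol_comm, hf.hbc]
  simp only [Transvec.Orth.pol_add_left H.h₁, Transvec.Orth.pol_smul_left H.h₁, Transvec.Orth.pol_self H.h₁, hcb] at k
  have hxx : x ^ 2 * q₁ b - y ^ 2 * q₁ c = q₁ b := mul_left_cancel₀ H.two (by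
    have := hf.hb
    field_simp at k
    linear_combination k)
  have hy : y = 0 := by
    refine pow_eq_zero_iff two_ne_zero |>.1 ((mul_eq_zero.1 (show y ^ 2 * q₁ c = 0 from
      mul_left_cancel₀ H.two ?_)).resolve_right hf.hc)
    linear_combination hrel - hxx
  subst hy
  have hx : x ^ 2 = 1 := mul_right_cancel₀ hf.hb (by linear_combination hrel)
  have hbu : pol q₁ b u = 0 := by rw [Transvec.Orth.pol_comm, hf.hab]
  have hcu : pol q₁ c u = 0 := by rw [Transvec.Orth.pol_comm, hf.hac]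
  simp only [zero_smul, add_zero, zero_mul, zero_div, neg_zero, zero_add] at hb hc
  rcases sq_eq_one_iff.1 hx with rfl | rfl
  · exact Or.inl (hf.ext H.h₁ H.two (fun w => by rw [mv_kr_ten, mv_one, hu, mv_one])
      (fun w => by rw [mv_kr_ten, mv_one, hb, one_smul, mv_one])
      (fun w => by rw [mv_kr_ten, mv_one, hc, one_smul, mv_one]))
  · exact Or.inr (hf.ext H.h₁ H.two (fun w => by rw [mv_kr_ten, mv_one, hu, mirror_self H.h₁ H.two ht])
      (fun w => by rw [mv_kr_ten, mv_one, hb, mirror_perp H.h₁ H.two ht hbu, neg_one_smul, ten_neg_left])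
      (fun w => by rw [mv_kr_ten, mv_one, hc, mirror_perp H.h₁ H.two ht hcu, neg_one_smul, ten_neg_left]))

/-- The ones commuting with a mirror at an orthogonal vector. -/
theorem comm_centralises [Fintype F] (H : Hyp Q q₁ q₂ M) {g t t' : GL (α × β) F} {u b : α → F}
    (ht : IsMirror q₁ t u) (ht' : IsMirror q₁ t' b) (hub : pol q₁ u b = 0) (hg : g ∈ fixGroup M u)
    (hB : CommB q₂ g) (hc : g * t' = t' * g) : g = 1 ∨ g = t := by
  obtain ⟨hn, hd⟩ := Transvec.Orth.nondeg_perp H.h₁ H.two (Transvec.Orth.nondeg_top H.h₁) (Submodule.mem_top (x := u)) ht.1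
  rw [finrank_top, Module.finrank_pi, H.hα3] at hd
  have hbmem : b ∈ (⊤ : Submodule F (α → F)) ⊓ Transvec.Orth.orth H.h₁ (Submodule.span F {u}) :=
    ⟨Submodule.mem_top, (Transvec.Orth.mem_orth_span H.h₁).2 (by simpa using hub)⟩
  obtain ⟨hn', hd'⟩ := Transvec.Orth.nondeg_perp H.h₁ H.two hn hbmem ht'.1
  obtain ⟨c, hc', hcq⟩ := Transvec.Orth.exists_anisotropic H.h₁ hn' fun h => by rw [h, finrank_bot] at hd'; omega
  have hf := frame_of_orth H.h₁ H.two H.hα3 ht.1 ht'.1 hcq hub (hc'.1.2 u (Submodule.mem_span_singleton_self u))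
    (hc'.2 b (Submodule.mem_span_singleton_self b))
  refine comm_invol H ht hg hB ?_
  obtain ⟨A, x, y, rfl, hu, hb, hcc, hrel⟩ := comm_rot H hf hg hB
  obtain ⟨c₀, d₀, w₁, w₂, -, -, -, hw₁, -⟩ := exists_pair_frame H.h₂ H.hβ4 H.minus H.two
  have hw0 : w₁ ≠ 0 := fun h => zero_ne_one (by rw [h, Transvec.Orth.q_zero H.h₂] at hw₁; exact hw₁)
  have h := congrArg (fun k => mv k (ten b w₁)) hc
  simp only [mv_mul, mirror_self H.h₁ H.two ht', mv_kr_ten, mv_one, ht'.2] at h
  have h' := congrArg (fun v => pol q₁ v c) (ten_right_cancel hw0 h)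
  simp only [hb, Transvec.Orth.pol_add_left H.h₁, Transvec.Orth.pol_sub_left H.h₁, Transvec.Orth.pol_smul_left H.h₁, Transvec.Orth.pol_self H.h₁,
    hf.hbc, mul_zero, zero_add, zero_sub] at h'
  have hy : y = 0 := (mul_eq_zero.1 (show y * (2 * q₁ c) = 0 from
    mul_left_cancel₀ H.two (by linear_combination h'))).resolve_right (mul_ne_zero H.two hf.hc)
  subst hy
  rw [kr_mul, one_mul, ← kr_one]
  congr 1
  have hx : x * x = 1 := mul_right_cancel₀ hf.hb (by linear_combination hrel)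
  simp only [zero_smul, add_zero, zero_mul, zero_div, neg_zero, zero_add] at hb hcc
  refine ext_mv fun z => ?_
  rw [hf.dec z]
  simp only [mv_mul, mv_add, mv_smul, mv_one, hu, hb, hcc, smul_smul, mul_assoc, hx, mul_one]

end Cfsg.Agent.OrthTensorMirror
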