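/-
An odd-order group of fixed members inverted by the mirrors of the orthogonal plane acts on the first factor alone.
-/
import Cfsg.Agent.Lib.OrthTensorMirror.Plane
import Mathlib.GroupTheory.PGroup
import Mathlib.GroupTheory.Perm.Cycle.Type

set_option autoImplicit false
set_option linter.unusedSectionVars false

namespace Cfsg.Agent.OrthTensorMirror

open scoped Matrix Kronecker
open Matrix Cfsg.Agent.Transvec Cfsg.Agent.TensorMax
open Cfsg.Agent.TensorMax.U (kr mv_kr_ten isKron_kr isKron_mul isKron_inv mv_kron_ten ext_ten_mv)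
open Cfsg.Agent.Transvec.Orth (pol IsSiegel IsRefl)

variable {α β : Type} [Fintype α] [DecidableEq α] [Fintype β] [DecidableEq β] {F : Type*} [Field F]
variable {Q : (α × β → F) → F} {q₁ : (α → F) → F} {q₂ : (β → F) → F}
variable {M : Subgroup (GL (α × β) F)}

/-- The shear of the second factor at a singular vector. -/
theorem shear_apply (H : Hyp Q q₁ q₂ M) {c v : β → F} {E : GL β F} (hE : IsSiegel q₂ E c v) (a : α → F)
    (w : β → F) : mv (kr 1 E) (ten a w) = ten a (w + pol q₂ w c • v - (pol q₂ w v + q₂ v * pol q₂ w c) • c) := by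
  rw [mv_kr_ten, mv_one, hE]

theorem shear_eq (H : Hyp Q q₁ q₂ M) {c v : β → F} {E : GL β F} (hE : IsSiegel q₂ E c v) (x : α × β → F) :
    mv (kr 1 E) x = x + ten (pc q₂ c x) v - ten (pc q₂ v x + q₂ v • pc q₂ c x) c := by
  let R : (α × β → F) →ₗ[F] α × β → F := LinearMap.id + (rho v).comp (pc q₂ c) -
    (rho c).comp (pc q₂ v + q₂ v • pc q₂ c)
  have e : mvLin (kr (1 : GL α F) E) = R := ext_ten fun a w => by
    rw [Matrix.toLin'_apply]
    show mv (kr 1 E) (ten a w) = _
    rw [shear_apply H hE]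
    simp only [R, LinearMap.sub_apply, LinearMap.add_apply, LinearMap.id_apply, LinearMap.comp_apply,
      rho_apply, LinearMap.smul_apply, pc_ten H.toCtx]
    funext i
    simp [ten]
    ring
  have := LinearMap.congr_fun e x
  rw [Matrix.toLin'_apply] at this
  exact this

/-- A fixed element of prime power order commuting with all shears at c is trivial. -/
theorem central_trivial [Fintype F] (H : Hyp Q q₁ q₂ M) (hC : CentreTriv q₂ M) {u : α → F} (hu : q₁ u ≠ 0)
    {p : ℕ} [CharP F p] {c : β → F} (hc0 : c ≠ 0) (hc : q₂ c = 0) {z : GL (α × β) F}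
    (hz : z ∈ fixGroup M u) (hzp : z ^ p = 1)
    (hzX : ∀ (v : β → F) (E : GL β F), pol q₂ c v = 0 → IsSiegel q₂ E c v → z * kr 1 E = kr 1 E * z)
    (hinv : ∀ (b : α → F) (m : GL (α × β) F), pol q₁ b u = 0 → IsMirror q₁ m b → m * z * m = z⁻¹) : z = 1 := by
  classical
  have hp : p.Prime := (CharP.char_is_prime_or_zero F p).resolve_right fun h0 => by
    subst h0
    haveI := CharP.charP_to_charZero F
    exact not_finite F
  haveI : Fact p.Prime := ⟨hp⟩
  obtain ⟨d, hd, hcd⟩ := exists_pair H.h₂ hc0 hc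
  have hdc : pol q₂ d c = 1 := by rw [Transvec.Orth.pol_comm, hcd]
  have hcc := pol_self_zero H.h₂ hc
  have hdd := pol_self_zero H.h₂ hd
  have hMO : z ∈ isometryGroup F Q := H.le hz.1
  obtain ⟨A₀, hA₀⟩ : ∃ A : (α → F) →ₗ[F] α → F, ∀ a, A a = pc q₂ c (mv z (ten a d)) :=
    ⟨(pc q₂ c).comp ((mvLin z).comp (rho d)), fun a => by
      simp only [LinearMap.comp_apply, Matrix.toLin'_apply, rho_apply]⟩
  -- the action on the line and on the middle
  have key : ∀ v, pol q₂ v c = 0 → pol q₂ v d = 0 → q₂ v ≠ 0 → ∀ a,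
      mv z (ten a v) = ten (A₀ a) v - ten (pc q₂ v (mv z (ten a d))) c ∧
        mv z (ten a c) = ten (A₀ a) c := by
    intro v hvc hvd hqv a
    have hbase : ∀ v', pol q₂ v' c = 0 → pol q₂ v' d = 0 →
        mv z (ten a v') - q₂ v' • mv z (ten a c) =
          ten (A₀ a) v' - ten (pc q₂ v' (mv z (ten a d)) + q₂ v' • A₀ a) c := by
      intro v' e1 e2
      have hcv : pol q₂ c v' = 0 := by rw [Transvec.Orth.pol_comm, e1]
      obtain ⟨E, -, hE⟩ := Transvec.Orth.exists_siegel H.h₂ hc hcv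
      have h := congrArg (fun k => mv k (ten a d)) (hzX v' E hcv hE)
      simp only [mv_mul, shear_eq H hE, pc_ten H.toCtx, hdc, Transvec.Orth.pol_comm d v', e2, one_smul, zero_smul,
        zero_add, mv_add, mv_sub, ten_smul_left, mv_smul] at h
      rw [hA₀]
      linear_combination (norm := module) h
    have h1 := hbase v hvc hvd
    have h2' := hbase (-v) (by rw [Transvec.Orth.pol_neg_left H.h₂, hvc, neg_zero])
      (by rw [Transvec.Orth.pol_neg_left H.h₂, hvd, neg_zero])
    have hpn : (pc q₂ (-v) : (α × β → F) →ₗ[F] α → F) = -pc q₂ v := by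
      rw [← neg_one_smul F v, pc_smul_vec H.toCtx]; exact LinearMap.ext fun x => by simp
    have hneg : ∀ b : α → F, ten b (-v) = -ten b v := fun b => by funext i; simp [ten]
    rw [Transvec.Orth.q_neg H.h₂, hneg, hneg, mv_neg, hpn, LinearMap.neg_apply, ten_add_left, ten_neg_left] at h2'
    rw [ten_add_left] at h1
    have hzc : mv z (ten a c) = ten (A₀ a) c := by
      refine sub_eq_zero.1 ((smul_eq_zero.1 (?_ : (2 * q₂ v) • (mv z (ten a c) - ten (A₀ a) c) = 0)).resolve_left
        (mul_ne_zero H.two hqv))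
      simp only [ten_smul_left] at h1 h2'
      linear_combination (norm := module) -h1 - h2'
    refine ⟨?_, hzc⟩
    rw [hzc] at h1
    simp only [ten_smul_left] at h1
    linear_combination (norm := module) h1
  obtain ⟨v₀, hv₀, hqv₀⟩ := exists_aniso_perp H.h₂ (P := Submodule.span F {c}) (by
    rw [finrank_span_singleton hc0, H.hβ4]; omega)
  obtain ⟨hXn, hXf, hXm⟩ := pair_perp H.h₂ hc hd hcd
  obtain ⟨v₁, hv₁X, hqv₁⟩ := Transvec.Orth.exists_anisotropic H.h₂ hXn fun h => by
    rw [h, finrank_bot, H.hβ4] at hXf; omega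
  obtain ⟨h1c, h1d⟩ := (hXm v₁).1 hv₁X
  have hline : ∀ a, mv z (ten a c) = ten (A₀ a) c := fun a => (key v₁ h1c h1d hqv₁ a).2
  have hd0 : d ≠ 0 := fun h => zero_ne_one (by rw [h, Transvec.Orth.pol_zero_left H.h₂] at hdc; exact hdc)
  -- the middle map is an isometry fixing u, of order p
  have hAu : A₀ u = u := ten_right_cancel hc0 (by rw [← hline, hz.2])
  have hAinj : Function.Injective A₀ := fun a b hab => ten_right_cancel hc0 (mv_inj z (by rw [hline, hline, hab]))
  obtain ⟨A, hA⟩ := exists_gl A₀ hAinj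
  have hAI : A ∈ isometryGroup F q₁ := Transvec.Orth.mem_isometry.2 fun a => mul_left_cancel₀ H.two (by
    have h := Transvec.Orth.pol_mv H.hQ hMO (ten a c) (ten a d)
    rw [hline, H.hpol, hcd, mul_one, H.toCtx.pol_pc_left, ← hA₀, ← hA, Transvec.Orth.pol_self H.h₁,
      Transvec.Orth.pol_self H.h₁] at h
    exact h)
  have hzn : ∀ (n : ℕ) a, mv (z ^ n) (ten a c) = ten (mv (A ^ n) a) c := by
    intro n
    induction n with
    | zero => intro a; simp [mv_one]
    | succ n ih => intro a; rw [pow_succ, mv_mul, hline, ← hA, ih, pow_succ, mv_mul]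
  have hAp : A ^ p = 1 := ext_mv fun a => ten_right_cancel hc0 (by rw [← hzn, hzp, mv_one, mv_one])
  obtain ⟨b, e, hf⟩ := exists_frame H.h₁ H.two H.hα3 hu
  have hAu' : mv A u = u := by rw [hA, hAu]
  have hA1 : A = 1 := by
    rcases plane_form H.h₁ H.two hAI hf hAu' with ⟨x, y, hb, he, hrel⟩ | ⟨w, hw⟩
    · by_cases hx : x = 1
      · subst hx
        have hy : y = 0 := pow_eq_zero_iff two_ne_zero |>.1 ((mul_eq_zero.1 (show y ^ 2 * q₁ e = 0 by
          linear_combination hrel)).resolve_right hf.hc)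
        subst hy
        simp only [zero_smul, add_zero, zero_mul, zero_div, neg_zero, zero_add, one_smul] at hb he
        exact ext_mv fun v => by rw [hf.dec v, mv_add, mv_add, mv_smul, mv_smul, mv_smul, hAu', hb, he, mv_one]
      exfalso
      have heb : pol q₁ e b = 0 := by rw [Transvec.Orth.pol_comm, hf.hbc]
      haveI : Nonempty α := Fintype.card_pos_iff.1 (by rw [H.hα3]; norm_num)
      set N : Matrix α α F := (A : Matrix α α F) - 1 with hN
      have hNv : ∀ v, N *ᵥ v = mv A v - v := fun v => by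
        rw [hN, Matrix.sub_mulVec, Matrix.one_mulVec]
      have hNp : N ^ p = 0 := by
        rw [hN, sub_pow_char_of_commute p (Commute.one_right _), one_pow, ← Units.val_pow_eq_pow_val, hAp,
          Units.val_one, sub_self]
      have hinj : ∀ v, (∃ s t : F, v = s • b + t • e) → N *ᵥ v = 0 → v = 0 := by
        rintro v ⟨s, t, rfl⟩ h0
        rw [hNv, mv_add, mv_smul, mv_smul, hb, he] at h0
        have kb := congrArg (fun v => pol q₁ v b) h0
        have ke := congrArg (fun v => pol q₁ v e) h0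
        simp only [Transvec.Orth.pol_add_left H.h₁, Transvec.Orth.pol_sub_left H.h₁, Transvec.Orth.pol_smul_left H.h₁, Transvec.Orth.pol_self H.h₁,
          Transvec.Orth.pol_zero_left H.h₁, hf.hbc, heb, mul_zero, zero_add, add_zero] at kb ke
        have h2b : (2 : F) * q₁ b ≠ 0 := mul_ne_zero H.two hf.hb
        have := hf.hb
        field_simp at kb
        have kb' : s * (x - 1) * q₁ b - t * y * q₁ e = 0 := mul_left_cancel₀ H.two (by linear_combination kb)
        have ke' : s * y + t * (x - 1) = 0 :=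
          mul_left_cancel₀ (mul_ne_zero H.two hf.hc) (by linear_combination ke)
        have hs : s * (2 * (1 - x)) * q₁ b = 0 := by
          linear_combination (x - 1) * kb' + y * q₁ e * ke' - s * hrel
        have hs0 : s = 0 := (mul_eq_zero.1 ((mul_eq_zero.1 hs).resolve_right hf.hb)).resolve_right
          (mul_ne_zero H.two (sub_ne_zero.2 (Ne.symm hx)))
        subst hs0
        have ht0 : t = 0 := (mul_eq_zero.1 (show t * (x - 1) = 0 by linear_combination ke')).resolve_right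
          (sub_ne_zero.2 hx)
        rw [ht0, zero_smul, zero_smul, add_zero]
      have hstab : ∀ v, (∃ s t : F, v = s • b + t • e) → ∃ s t : F, N *ᵥ v = s • b + t • e := by
        rintro v ⟨s, t, rfl⟩
        refine ⟨s * x - t * (y * q₁ e / q₁ b) - s, s * y + t * x - t, ?_⟩
        rw [hNv, mv_add, mv_smul, mv_smul, hb, he]
        module
      have hind : ∀ (n : ℕ) v, (∃ s t : F, v = s • b + t • e) → (N ^ n) *ᵥ v = 0 → v = 0 := by
        intro n
        induction n with
        | zero => intro v _ h0; simpa using h0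
        | succ n ih =>
          intro v hv h0
          rw [pow_succ, ← Matrix.mulVec_mulVec] at h0
          exact hinj v hv (ih _ (hstab v hv) h0)
      have hb0 : b = 0 := hind p b ⟨1, 0, by rw [one_smul, zero_smul, add_zero]⟩ (by rw [hNp, Matrix.zero_mulVec])
      exact hf.hb (by rw [hb0, Transvec.Orth.q_zero H.h₁])
    · have h2' : A ^ 2 = 1 := by rw [pow_two]; exact Transvec.Orth.isRefl_sq H.h₁ hw
      have hodd : Odd p := hp.odd_of_ne_two fun h' => H.two (by subst h'; exact_mod_cast CharP.cast_eq_zero F 2)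
      obtain ⟨k, hk⟩ := hodd
      rwa [hk, pow_succ, pow_mul, h2', one_pow, one_mul] at hAp
  have hA0 : ∀ a, A₀ a = a := fun a => by rw [← hA, hA1, mv_one]
  -- the shears vanish
  have hmid : ∀ v, pol q₂ v c = 0 → pol q₂ v d = 0 → q₂ v ≠ 0 → ∀ a, mv z (ten a v) = ten a v := by
    intro v hvc hvd hqv a
    obtain ⟨L, hL⟩ : ∃ L : (α → F) →ₗ[F] α → F, ∀ a, L a = pc q₂ v (mv z (ten a d)) :=
      ⟨(pc q₂ v).comp ((mvLin z).comp (rho d)), fun a => by
        simp only [LinearMap.comp_apply, Matrix.toLin'_apply, rho_apply]⟩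
    have hzv : ∀ a, mv z (ten a v) = ten a v - ten (L a) c := fun a => by
      rw [(key v hvc hvd hqv a).1, hA0, hL]
    have hLu : L u = 0 := ten_right_cancel hc0 (by
      have h := hzv u
      rw [hz.2, eq_sub_iff_add_eq, add_eq_left] at h
      rw [h, ten_zero_left])
    have hsym : ∀ a b, pol q₁ (L b) a = pol q₁ b (L a) := fun a b => by
      have h := Transvec.Orth.pol_mv H.hQ hMO (ten a v) (ten b d)
      rw [hzv, Transvec.Orth.pol_sub_left H.hQ, H.toCtx.pol_pc_left, H.toCtx.pol_pc_left, ← hL, ← hA₀, hA0, H.hpol, hvd,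
        mul_zero, sub_eq_zero] at h
      exact h
    have hperp : ∀ b', pol q₁ b' u = 0 → q₁ b' ≠ 0 → pol q₁ (L b') b' = 0 := by
      intro b' hb'u hb'
      obtain ⟨m, hm, hmb⟩ := H.mirror b' hb'
      have hz' : ∀ a, mv z⁻¹ (ten a v) = ten a v + ten (L a) c := fun a => mv_inj z (by
        rw [mv_mv_inv, mv_add, hzv, hline, hA0, sub_add_cancel])
      have hmz : m * z = z⁻¹ * m := by
        rw [← hinv b' m hb'u hmb, mul_assoc, mirror_sq H.h₁ H.two hmb, mul_one]
      have h := congrArg (fun k => mv k (ten b' v)) hmz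
      simp only [mv_mul, mirror_self H.h₁ H.two hmb, hzv, hz', mv_sub, hmb.2 (L b') c] at h
      have h' : (pol q₁ (L b') b' / q₁ b') • b' - L b' = -L b' := ten_right_cancel hc0 (by
        rw [ten_neg_left]
        linear_combination (norm := module) -h)
      have h'' := congrArg (fun v => pol q₁ v b') h'
      simp only [Transvec.Orth.pol_sub_left H.h₁, Transvec.Orth.pol_smul_left H.h₁, Transvec.Orth.pol_neg_left H.h₁, Transvec.Orth.pol_self H.h₁] at h''
      have := hb'
      field_simp at h''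
      exact mul_left_cancel₀ H.two (by linear_combination h'')
    have hbu : pol q₁ b u = 0 := by rw [Transvec.Orth.pol_comm, hf.hab]
    have heu : pol q₁ e u = 0 := by rw [Transvec.Orth.pol_comm, hf.hac]
    have hbb := hperp b hbu hf.hb
    have hee := hperp e heu hf.hc
    obtain ⟨r, hr0, hr⟩ : ∃ r : F, r ≠ 0 ∧ q₁ b + r ^ 2 * q₁ e ≠ 0 := by
      by_contra hcon
      push Not at hcon
      obtain ⟨r, hr0, hr⟩ := Transvec.Orth.exists_sq_ne_one (F := F) (by rw [← Nat.card_eq_fintype_card]; exact H.q5)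
      exact hr (mul_right_cancel₀ hf.hc (by linear_combination hcon r hr0 - hcon 1 one_ne_zero))
    have hbe : pol q₁ (L b) e = 0 := by
      have h := hperp (b + r • e) (by rw [Transvec.Orth.pol_add_left H.h₁, Transvec.Orth.pol_smul_left H.h₁, hbu, heu]; ring) (by
        rw [Transvec.Orth.q_add H.h₁, Transvec.Orth.q_smul H.h₁, Transvec.Orth.pol_smul_right H.h₁, hf.hbc, mul_zero, add_zero]; exact hr)
      simp only [map_add, map_smul, Transvec.Orth.pol_add_left H.h₁, Transvec.Orth.pol_add_right H.h₁, Transvec.Orth.pol_smul_left H.h₁,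
        Transvec.Orth.pol_smul_right H.h₁, hbb, hee] at h
      have e2 : pol q₁ (L e) b = pol q₁ (L b) e := by rw [hsym, Transvec.Orth.pol_comm]
      rw [e2] at h
      exact mul_left_cancel₀ (mul_ne_zero H.two hr0) (by linear_combination h)
    have heb : pol q₁ (L e) b = 0 := by rw [hsym, Transvec.Orth.pol_comm, hbe]
    have hall : ∀ w, pol q₁ w u = 0 → pol q₁ w b = 0 → pol q₁ w e = 0 → w = 0 := fun w k1 k2 k3 => by
      rw [hf.dec w, k1, k2, k3]; simp
    have hLb : L b = 0 := hall _ (by rw [hsym, hLu, Transvec.Orth.pol_zero_right H.h₁]) hbb hbe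
    have hLe : L e = 0 := hall _ (by rw [hsym, hLu, Transvec.Orth.pol_zero_right H.h₁]) heb hee
    rw [hzv, hf.dec a, map_add, map_add, map_smul, map_smul, map_smul, hLu, hLb, hLe]
    simp [ten_zero_left]
  have hfix : ∀ x, pc q₂ c x = 0 → mv z x = x := by
    intro x hx
    let D : (α × β → F) →ₗ[F] α × β → F := LinearMap.id - (rho d).comp (pc q₂ c)
    have e0 : (mvLin z).comp D = D := ext_ten fun a w => by
      simp only [LinearMap.comp_apply, D, LinearMap.sub_apply, LinearMap.id_apply, Matrix.toLin'_apply, rho_apply,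
        pc_ten H.toCtx]
      show mv z _ = _
      obtain ⟨k1, k2⟩ := pair_decomp H.h₂ hc hd hcd w
      set y := w - pol q₂ w d • c - pol q₂ w c • d with hy
      have hzy : mv z (ten a y) = ten a y := by
        by_cases hy0 : y = 0
        · rw [hy0, ten_zero_right, mv_zero]
        · exact hmid y k1 k2 (perp_aniso H.h₂ H.hβ4 H.minus hc hcd k1 k2 hy0) a
      have hw : ten a w - ten (pol q₂ w c • a) d = ten a y + pol q₂ w d • ten a c := by
        rw [hy]; funext i; simp [ten]; ring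
      rw [hw, mv_add, mv_smul, hzy, hline, hA0]
    have h := LinearMap.congr_fun e0 x
    simp only [LinearMap.comp_apply, D, LinearMap.sub_apply, LinearMap.id_apply, Matrix.toLin'_apply, rho_apply,
      hx, ten_zero_left, sub_zero] at h
    exact h
  exact hC c hc0 hc z hz.1 hfix

/-- The order of the odd group is prime to the characteristic. -/
theorem odd_coprime [Fintype F] (H : Hyp Q q₁ q₂ M) (hC : CentreTriv q₂ M) {u : α → F} (hu : q₁ u ≠ 0)
    {O : Subgroup (GL (α × β) F)} (hO : O ≤ fixGroup M u)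
    (hB : ∀ B ∈ Geo.omegaGL q₂, ∀ o ∈ O, kr 1 B * o * (kr 1 B)⁻¹ ∈ O)
    (hcomm : ∀ a ∈ O, ∀ b ∈ O, a * b = b * a)
    (hinv : ∀ (b : α → F) (m : GL (α × β) F), pol q₁ b u = 0 → IsMirror q₁ m b → ∀ o ∈ O, m * o * m = o⁻¹)
    {p : ℕ} [CharP F p] : ¬ p ∣ Nat.card O := by
  classical
  have hp : p.Prime := (CharP.char_is_prime_or_zero F p).resolve_right fun h0 => by
    subst h0
    haveI := CharP.charP_to_charZero F
    exact not_finite F
  haveI : Fact p.Prime := ⟨hp⟩
  intro hdvd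
  obtain ⟨c, -, hc0, hc⟩ := Transvec.Orth.exists_singular H.h₂ (X := ⊤)
    (by rw [finrank_top, Module.finrank_pi, H.hβ4]; omega)
  let X : Subgroup (GL (α × β) F) :=
    { carrier := {g | ∃ (v : β → F) (E : GL β F), pol q₂ c v = 0 ∧ IsSiegel q₂ E c v ∧ g = kr 1 E}
      one_mem' := ⟨0, 1, Transvec.Orth.pol_zero_right H.h₂ c, Transvec.Orth.isSiegel_zero H.h₂ c, kr_one.symm⟩
      mul_mem' := fun {g g'} ⟨v, E, hv, hE, hg⟩ ⟨v', E', hv', hE', hg'⟩ =>
        ⟨v + v', E * E', by rw [Transvec.Orth.pol_add_right H.h₂, hv, hv', add_zero],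
          Transvec.Orth.isSiegel_mul H.h₂ hc hv hv' hE hE', by rw [hg, hg', kr_mul, one_mul]⟩
      inv_mem' := fun {g} ⟨v, E, hv, hE, hg⟩ => by
        obtain ⟨E', -, hE'⟩ := Transvec.Orth.exists_siegel H.h₂ hc (show pol q₂ c (-v) = 0 by
          rw [Transvec.Orth.pol_neg_right H.h₂, hv, neg_zero])
        refine ⟨-v, E', by rw [Transvec.Orth.pol_neg_right H.h₂, hv, neg_zero], hE', ?_⟩
        rw [hg, kr_inv, inv_one]
        congr 1
        refine inv_eq_of_mul_eq_one_right (Transvec.Orth.isSiegel_unique (Transvec.Orth.isSiegel_mul H.h₂ hc hv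
          (by rw [Transvec.Orth.pol_neg_right H.h₂, hv, neg_zero]) hE hE') ?_)
        rw [add_neg_cancel]; exact Transvec.Orth.isSiegel_zero H.h₂ c }
  have hXp : IsPGroup p X := by
    rintro ⟨g, v, E, hv, hE, rfl⟩
    refine ⟨1, Subtype.ext ?_⟩
    have hE1 : E ^ p = 1 := Transvec.Orth.isSiegel_unique (isSiegel_pow H.h₂ hc hv hE p) (by
      rw [CharP.cast_eq_zero, zero_smul]; exact Transvec.Orth.isSiegel_zero H.h₂ c)
    have hpow : ∀ n : ℕ, (kr (1 : GL α F) E) ^ n = kr (1 : GL α F) (E ^ n) := fun n => by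
      induction n with
      | zero => simp [kr_one]
      | succ n ih => rw [pow_succ, pow_succ, ih, kr_mul, one_mul]
    show kr 1 E ^ p ^ 1 = 1
    rw [pow_one, hpow, hE1, kr_one]
  have hXB : ∀ g ∈ X, ∃ B ∈ Geo.omegaGL q₂, g = kr 1 B := fun g ⟨v, E, hv, hE, hg⟩ =>
    ⟨E, siegel_mem_factor H.h₂ H.hβ4 H.minus H.two hc hv hE, hg⟩
  let P : Subgroup (GL (α × β) F) :=
    { carrier := {o | o ∈ O ∧ o ^ p = 1}
      one_mem' := ⟨O.one_mem, one_pow p⟩
      mul_mem' := fun {a b} ha hb => ⟨O.mul_mem ha.1 hb.1, by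
        rw [Commute.mul_pow (hcomm a ha.1 b hb.1), ha.2, hb.2, one_mul]⟩
      inv_mem' := fun {a} ha => ⟨O.inv_mem ha.1, by rw [inv_pow, ha.2, inv_one]⟩ }
  have hPinv : ∀ g ∈ X, ∀ o ∈ P, g * o * g⁻¹ ∈ P := fun g hg o ho => by
    obtain ⟨B, hBm, rfl⟩ := hXB g hg
    exact ⟨hB B hBm o ho.1, by rw [conj_pow, ho.2, mul_one, mul_inv_cancel]⟩
  letI : MulAction X P :=
    { smul := fun g o => ⟨(g : GL (α × β) F) * o * (g : GL (α × β) F)⁻¹, hPinv g g.2 o o.2⟩
      one_smul := fun o => Subtype.ext (by show (1 : GL (α × β) F) * o * 1⁻¹ = _; simp)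
      mul_smul := fun g h o => Subtype.ext (by
        show (g * h : GL (α × β) F) * o * (g * h : GL (α × β) F)⁻¹ = g * (h * o * (h : GL (α × β) F)⁻¹) * (g : GL (α × β) F)⁻¹
        group) }
  obtain ⟨o, ho⟩ := exists_prime_orderOf_dvd_card' p hdvd
  have hoP : (o : GL (α × β) F) ∈ P := ⟨o.2, by rw [← SubmonoidClass.coe_pow, ← ho, pow_orderOf_eq_one]; rfl⟩
  have hpP : IsPGroup p P := fun x => ⟨1, Subtype.ext (by rw [pow_one]; exact x.2.2)⟩
  have hPdvd : p ∣ Nat.card P := by
    have := orderOf_dvd_natCard (⟨o, hoP⟩ : P)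
    rwa [Subgroup.orderOf_mk, Subgroup.orderOf_coe, ho] at this
  obtain ⟨z, hz, hz1⟩ := hXp.exists_fixed_point_of_prime_dvd_card_of_fixed_point P
    hPdvd (a := (1 : P)) (fun g => Subtype.ext (by
      show (g : GL (α × β) F) * 1 * (g : GL (α × β) F)⁻¹ = 1
      simp))
  refine hz1 (Subtype.ext (central_trivial H hC hu hc0 hc (hO z.2.1) z.2.2 (fun v E hv hE => ?_)
    fun b m hb hm => hinv b m hb hm z z.2.1).symm)
  have h : kr (1 : GL α F) E * z * (kr (1 : GL α F) E)⁻¹ = z :=
    congrArg Subtype.val (hz ⟨kr 1 E, v, E, hv, hE, rfl⟩)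
  conv_lhs => rw [← h]
  group

/-- The odd group acts on the first factor alone. -/
theorem odd_comm [Fintype F] (H : Hyp Q q₁ q₂ M) (hC : CentreTriv q₂ M) {u : α → F} (hu : q₁ u ≠ 0)
    {O : Subgroup (GL (α × β) F)} (hO : O ≤ fixGroup M u)
    (hB : ∀ B ∈ Geo.omegaGL q₂, ∀ o ∈ O, kr 1 B * o * (kr 1 B)⁻¹ ∈ O)
    (hcomm : ∀ a ∈ O, ∀ b ∈ O, a * b = b * a)
    (hinv : ∀ (b : α → F) (m : GL (α × β) F), pol q₁ b u = 0 → IsMirror q₁ m b → ∀ o ∈ O, m * o * m = o⁻¹) :
    ∀ o ∈ O, CommB q₂ o := by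
  classical
  obtain ⟨p, hpF⟩ := CharP.exists F
  haveI := hpF
  have hp : p.Prime := (CharP.char_is_prime_or_zero F p).resolve_right fun h0 => by
    subst h0
    haveI := CharP.charP_to_charZero F
    exact not_finite F
  haveI : Fact p.Prime := ⟨hp⟩
  haveI : NeZero p := ⟨hp.ne_zero⟩
  letI : CommGroup O := { (inferInstance : Group O) with
    mul_comm := fun a b => Subtype.ext (hcomm a a.2 b b.2) }
  have hcop : (Nat.card O).Coprime p :=
    ((Nat.Prime.coprime_iff_not_dvd hp).2 (odd_coprime H hC hu hO hB hcomm hinv)).symm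
  intro o ho
  suffices h : ∀ c, c ≠ 0 → q₂ c = 0 → ∀ a, ∃ a', mv o (ten a c) = ten a' c by
    obtain ⟨A, rfl⟩ := eq_kr_of_lines H h
    exact commB_kr A
  intro c hc0 hc
  obtain ⟨d, hd, hcd⟩ := exists_pair H.h₂ hc0 hc
  obtain ⟨hXn, hXf, hXm⟩ := pair_perp H.h₂ hc hd hcd
  rw [H.hβ4] at hXf
  obtain ⟨w₁, hw₁X, hw₁⟩ := Transvec.Orth.exists_anisotropic H.h₂ hXn fun h => by rw [h, finrank_bot] at hXf; omega
  obtain ⟨hYn, hYd⟩ := Transvec.Orth.nondeg_perp H.h₂ H.two hXn hw₁X hw₁
  obtain ⟨w₂, hw₂Y, hw₂⟩ := Transvec.Orth.exists_anisotropic H.h₂ hYn fun h => by rw [h, finrank_bot] at hYd; omega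
  obtain ⟨h1c, h1d⟩ := (hXm w₁).1 hw₁X
  obtain ⟨h2c, h2d⟩ := (hXm w₂).1 hw₂Y.1
  have h12 : pol q₂ w₁ w₂ = 0 := hw₂Y.2 w₁ (Submodule.mem_span_singleton_self w₁)
  set ι := ZMod.castHom (dvd_refl p) F
  -- the shears
  let V : ZMod p × ZMod p → β → F := fun i => ι i.1 • w₁ + ι i.2 • w₂
  have hVc : ∀ i, pol q₂ c (V i) = 0 := fun i => by
    rw [Transvec.Orth.pol_add_right H.h₂, Transvec.Orth.pol_smul_right H.h₂, Transvec.Orth.pol_smul_right H.h₂, Transvec.Orth.pol_comm c w₁, h1c,
      Transvec.Orth.pol_comm c w₂, h2c]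
    ring
  choose E hE hEs using fun i => Transvec.Orth.exists_siegel H.h₂ hc (hVc i)
  have hEmul : ∀ i j, E i * E j = E (i + j) := fun i j => by
    refine Transvec.Orth.isSiegel_unique (Transvec.Orth.isSiegel_mul H.h₂ hc (hVc i) (hVc j) (hEs i) (hEs j)) ?_
    rw [show V i + V j = V (i + j) by simp only [V, Prod.fst_add, Prod.snd_add, map_add]; module]
    exact hEs _
  have hE0 : E 0 = 1 := Transvec.Orth.isSiegel_unique (hEs 0) (by
    rw [show V 0 = 0 by simp [V]]; exact Transvec.Orth.isSiegel_zero H.h₂ c)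
  let φ : ZMod p × ZMod p → O → O := fun i x =>
    ⟨kr (1 : GL α F) (E i) * (x : GL (α × β) F) * (kr (1 : GL α F) (E i))⁻¹,
      hB _ (siegel_mem_factor H.h₂ H.hβ4 H.minus H.two hc (hVc i) (hEs i)) x x.2⟩
  have hφ : ∀ i j x, φ i (φ j x) = φ (i + j) x := fun i j x => Subtype.ext (by
    show kr (1 : GL α F) (E i) * (kr (1 : GL α F) (E j) * (x : GL (α × β) F) * (kr (1 : GL α F) (E j))⁻¹) * (kr (1 : GL α F) (E i))⁻¹ =
      kr (1 : GL α F) (E (i + j)) * (x : GL (α × β) F) * (kr (1 : GL α F) (E (i + j)))⁻¹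
    rw [← hEmul, show kr (1 : GL α F) (E i * E j) = kr (1 : GL α F) (E i) * kr (1 : GL α F) (E j) by rw [kr_mul, one_mul]]
    group)
  have hφ0 : ∀ x, φ 0 x = x := fun x => Subtype.ext (by
    show kr (1 : GL α F) (E 0) * (x : GL (α × β) F) * (kr (1 : GL α F) (E 0))⁻¹ = x
    rw [hE0, kr_one, one_mul, inv_one, mul_one])
  have hφmul : ∀ i x y, φ i (x * y) = φ i x * φ i y := fun i x y => Subtype.ext (by
    show kr (1 : GL α F) (E i) * ((x : GL (α × β) F) * (y : GL (α × β) F)) * (kr (1 : GL α F) (E i))⁻¹ =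
      kr (1 : GL α F) (E i) * (x : GL (α × β) F) * (kr (1 : GL α F) (E i))⁻¹ * (kr (1 : GL α F) (E i) * (y : GL (α × β) F) * (kr (1 : GL α F) (E i))⁻¹)
    group)
  let f : ZMod p × ZMod p → O →* O := fun i => MonoidHom.mk' (φ i) (hφmul i)
  -- elements keeping the line
  let S : Subgroup O :=
    { carrier := {x | ∀ a, (∃ a', mv (x : GL (α × β) F) (ten a c) = ten a' c) ∧
        ∃ a', mv (x : GL (α × β) F)⁻¹ (ten a c) = ten a' c}
      one_mem' := fun a => ⟨⟨a, by simp [mv_one]⟩, ⟨a, by simp [mv_one]⟩⟩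
      mul_mem' := fun {x y} hx hy a => by
        obtain ⟨⟨a₁, h1⟩, -⟩ := hy a
        obtain ⟨⟨a₂, h2⟩, -⟩ := hx a₁
        obtain ⟨-, a₃, h3⟩ := hx a
        obtain ⟨-, a₄, h4⟩ := hy a₃
        refine ⟨⟨a₂, by rw [Subgroup.coe_mul, mv_mul, h1, h2]⟩, ⟨a₄, ?_⟩⟩
        rw [Subgroup.coe_mul, _root_.mul_inv_rev, mv_mul, h3, h4]
      inv_mem' := fun {x} hx a => ⟨by rw [Subgroup.coe_inv]; exact (hx a).2,
        by rw [Subgroup.coe_inv, inv_inv]; exact (hx a).1⟩ }
  have hfixS : ∀ (l : ZMod p × ZMod p), q₂ (V l) ≠ 0 → ∀ x : O, φ l x = x → x ∈ S := by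
    intro l hl x hx a
    have h : kr (1 : GL α F) (E l) * (x : GL (α × β) F) = (x : GL (α × β) F) * kr (1 : GL α F) (E l) := by
      have := congrArg Subtype.val hx
      exact mul_inv_eq_iff_eq_mul.1 this
    refine ⟨line_of_comm H hc (hVc l) hl hc0 (hEs l) h.symm a, line_of_comm H hc (hVc l) hl hc0 (hEs l) ?_ a⟩
    rw [inv_mul_eq_iff_eq_mul, ← mul_assoc, ← h, mul_assoc, mul_inv_cancel, mul_one]
  have hVq : ∀ l, l ≠ 0 → q₂ (V l) ≠ 0 := fun l hl h0 => by
    refine perp_aniso H.h₂ H.hβ4 H.minus hc hcd (y := V l) ?_ ?_ (fun hV0 => hl ?_) h0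
    · rw [Transvec.Orth.pol_comm]; exact hVc l
    · simp only [V, Transvec.Orth.pol_add_left H.h₂, Transvec.Orth.pol_smul_left H.h₂, h1d, h2d]; ring
    · have k1 := congrArg (fun v => pol q₂ v w₁) hV0
      have k2 := congrArg (fun v => pol q₂ v w₂) hV0
      simp only [V, Transvec.Orth.pol_add_left H.h₂, Transvec.Orth.pol_smul_left H.h₂, Transvec.Orth.pol_self H.h₂, Transvec.Orth.pol_zero_left H.h₂,
        h12, Transvec.Orth.pol_comm w₂ w₁, mul_zero, add_zero, zero_add] at k1 k2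
      refine Prod.ext (ι.injective ?_) (ι.injective ?_)
      · rw [Prod.fst_zero, map_zero]; exact (mul_eq_zero.1 k1).resolve_right (mul_ne_zero H.two hw₁)
      · rw [Prod.snd_zero, map_zero]; exact (mul_eq_zero.1 k2).resolve_right (mul_ne_zero H.two hw₂)
  -- the product over a line
  let N : ZMod p × ZMod p → O → O := fun l x => ∏ i : ZMod p, φ (i * l.1, i * l.2) x
  have hN : ∀ l, l ≠ 0 → ∀ x, N l x ∈ S := by
    intro l hl x
    refine hfixS l (hVq l hl) _ ?_
    show f l (∏ i : ZMod p, φ (i * l.1, i * l.2) x) = _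
    rw [map_prod]
    refine (Finset.prod_congr rfl fun i _ => ?_).trans
      (Equiv.prod_comp (Equiv.addRight (1 : ZMod p)) fun i : ZMod p => φ (i * l.1, i * l.2) x)
    show φ l (φ (i * l.1, i * l.2) x) = φ ((i + 1) * l.1, (i + 1) * l.2) x
    rw [hφ]
    congr 1
    ext <;> simp [add_mul, add_comm]
  have hall : ∀ x, (∏ i : ZMod p × ZMod p, φ i x) ∈ S := fun x => by
    rw [Fintype.prod_prod_type]
    rw [Finset.prod_comm]
    refine S.prod_mem fun j _ => ?_
    have e : (∏ i : ZMod p, φ (i, j) x) = N (1, 0) (φ (0, j) x) := by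
      refine Finset.prod_congr rfl fun i _ => ?_
      rw [hφ]
      congr 1
      ext <;> simp
    rw [e]
    exact hN _ (by simp) _
  have hpow : ∀ x : O, x ^ p ∈ S := by
    intro x
    have e : (∏ j : ZMod p, N (1, j) x) = x ^ p * ∏ i ∈ Finset.univ.erase (0 : ZMod p), ∏ j : ZMod p, φ (i, j) x := by
      show (∏ j : ZMod p, ∏ i : ZMod p, φ (i * 1, i * j) x) = _
      rw [Finset.prod_comm, ← Finset.mul_prod_erase _ _ (Finset.mem_univ (0 : ZMod p))]
      congr 1
      · simp only [zero_mul, Prod.mk_zero_zero, hφ0, Finset.prod_const, Finset.card_univ, ZMod.card]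
      · refine Finset.prod_congr rfl fun i hi => ?_
        simp only [mul_one]
        exact Equiv.prod_comp (Equiv.mulLeft₀ i (Finset.ne_of_mem_erase hi)) fun j : ZMod p => φ (i, j) x
    have e' : (∏ i ∈ Finset.univ.erase (0 : ZMod p), ∏ j : ZMod p, φ (i, j) x) * N (0, 1) x =
        ∏ i : ZMod p × ZMod p, φ i x := by
      rw [Fintype.prod_prod_type, mul_comm, ← Finset.mul_prod_erase _ _ (Finset.mem_univ (0 : ZMod p))]
      congr 1
      exact Finset.prod_congr rfl fun j _ => by simp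
    have h1 : (∏ i ∈ Finset.univ.erase (0 : ZMod p), ∏ j : ZMod p, φ (i, j) x) ∈ S := by
      rw [← S.mul_mem_cancel_right (hN (0, 1) (by simp) x), e']
      exact hall x
    rw [← S.mul_mem_cancel_right h1, ← e]
    exact S.prod_mem fun j _ => hN _ (by simp) _
  obtain ⟨y, hy⟩ := (powCoprime hcop).surjective ⟨o, ho⟩
  intro a
  have h := (hpow y a).1
  rw [show y ^ p = ⟨o, ho⟩ from hy] at h
  exact h

end Cfsg.Agent.OrthTensorMirror
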