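/-
Members fixing the tensors over an anisotropic vector act on the first factor alone.
-/
import Cfsg.Agent.Lib.OrthTensorMirror.Odd
import Mathlib.GroupTheory.Transfer
import Mathlib.GroupTheory.Nilpotent
import Mathlib.GroupTheory.Sylow

set_option autoImplicit false
set_option linter.unusedSectionVars false

namespace Cfsg.Agent.OrthTensorMirror

open scoped Matrix Kronecker
open Matrix Cfsg.Agent.Transvec Cfsg.Agent.TensorMax
open Cfsg.Agent.TensorMax.U (kr mv_kr_ten isKron_kr isKron_mul isKron_inv mv_kron_ten ext_ten_mv)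
open Cfsg.Agent.Transvec.Orth (pol IsSiegel IsRefl)

/-- A subgroup together with its coset by a normalising involution. -/
def invExt {G : Type*} [Group G] (T : Subgroup G) (t : G) (ht : t * t = 1)
    (hT : ∀ x ∈ T, t * x * t ∈ T) : Subgroup G where
  carrier := {x | x ∈ T ∨ x * t ∈ T}
  one_mem' := Or.inl T.one_mem
  mul_mem' := by
    rintro x y (hx | hx) (hy | hy)
    · exact Or.inl (T.mul_mem hx hy)
    · exact Or.inr (by rw [mul_assoc]; exact T.mul_mem hx hy)
    · refine Or.inr ?_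
      have h := T.mul_mem hx (hT y hy)
      rwa [show x * t * (t * y * t) = x * y * t by
        rw [show x * t * (t * y * t) = x * (t * t) * y * t by group, ht, mul_one]] at h
    · refine Or.inl ?_
      have h := T.mul_mem hx (hT _ hy)
      rwa [show x * t * (t * (y * t) * t) = x * (t * t) * y * (t * t) by group, ht, mul_one, mul_one] at h
  inv_mem' := by
    rintro x (hx | hx)
    · exact Or.inl (T.inv_mem hx)
    · refine Or.inr ?_
      have h := hT _ (T.inv_mem hx)
      rwa [_root_.mul_inv_rev, show t⁻¹ = t from inv_eq_of_mul_eq_one_right ht,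
        show t * (t * x⁻¹) * t = t * t * x⁻¹ * t by group, ht, one_mul] at h

/-- A finite commutative two-group with one involution is cyclic. -/
theorem isCyclic_two {G : Type*} [Group G] [Finite G] (hcm : ∀ a b : G, a * b = b * a) (hp : IsPGroup 2 G)
    (t : G) (h : ∀ x : G, x * x = 1 → x = 1 ∨ x = t) : IsCyclic G := by
  classical
  haveI : Fintype G := Fintype.ofFinite G
  obtain ⟨x, -, hx⟩ := Finset.exists_max_image (Finset.univ : Finset G) orderOf Finset.univ_nonempty
  refine ⟨x, fun y => ?_⟩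
  by_contra hy
  obtain ⟨k, hk⟩ := hp y
  -- a member outside with square inside
  obtain ⟨z, hz, hz2⟩ : ∃ z, z ∉ Subgroup.zpowers x ∧ z * z ∈ Subgroup.zpowers x := by
    by_contra hcon
    push Not at hcon
    have hind : ∀ j : ℕ, y ^ 2 ^ j ∉ Subgroup.zpowers x := by
      intro j
      induction j with
      | zero => rwa [pow_zero, pow_one]
      | succ j ih => rw [pow_succ, pow_mul, pow_two]; exact hcon _ ih
    exact hind k (hk ▸ Subgroup.one_mem _)
  obtain ⟨i, hi⟩ := Subgroup.mem_zpowers_iff.1 hz2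
  obtain ⟨m, hm⟩ := hp x
  obtain ⟨m, -, hord⟩ := (Nat.dvd_prime_pow Nat.prime_two).1 (orderOf_dvd_of_pow_eq_one hm)
  rcases Int.even_or_odd i with ⟨j, rfl⟩ | hodd
  · set w := z * (x ^ j)⁻¹ with hw
    have hww : w * w = 1 := by
      rw [hw, show z * (x ^ j)⁻¹ * (z * (x ^ j)⁻¹) = z * z * ((x ^ j)⁻¹ * (x ^ j)⁻¹) by
        rw [mul_assoc, ← mul_assoc (x ^ j)⁻¹, hcm (x ^ j)⁻¹ z]; group, ← hi, _root_.zpow_add]
      group
    have hwz : w ∈ Subgroup.zpowers x → z ∈ Subgroup.zpowers x := fun hw' => by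
      have := Subgroup.mul_mem _ hw' (Subgroup.zpow_mem _ (Subgroup.mem_zpowers x) j)
      rwa [hw, inv_mul_cancel_right] at this
    rcases h w hww with hw1 | hwt
    · exact hz (hwz (hw1 ▸ Subgroup.one_mem _))
    · -- the involution is a power of x
      obtain ⟨n, rfl⟩ : ∃ n, m = n + 1 := by
        refine ⟨m - 1, (Nat.sub_add_cancel ?_).symm⟩
        by_contra hm0
        have hz1 : orderOf z ≤ 1 := by
          have h1 := hx z (Finset.mem_univ _)
          rwa [hord, show m = 0 by omega, pow_zero] at h1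
        have : z = 1 := orderOf_eq_one_iff.1 (le_antisymm hz1 (orderOf_pos z))
        exact hz (this ▸ Subgroup.one_mem _)
      set s := x ^ 2 ^ n with hs
      have hss : s * s = 1 := by
        rw [hs, ← pow_add, show 2 ^ n + 2 ^ n = 2 ^ (n + 1) by ring, ← hord, pow_orderOf_eq_one]
      have hs1 : s ≠ 1 := fun h1 => by
        have := Nat.le_of_dvd (pow_pos two_pos n) (orderOf_dvd_of_pow_eq_one h1)
        rw [hord] at this
        have := Nat.pow_lt_pow_right (a := 2) one_lt_two (Nat.lt_succ_self n)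
        omega
      have hst := (h s hss).resolve_left hs1
      exact hz (hwz (hwt ▸ hst ▸ Subgroup.pow_mem _ (Subgroup.mem_zpowers x) _))
  · -- an odd power would have larger order
    have hgen : orderOf (z * z) = 2 ^ m := by
      obtain ⟨j, rfl⟩ := hodd
      refine Nat.dvd_antisymm (hord ▸ orderOf_dvd_of_mem_zpowers hz2) ?_
      rw [← hord, ← hi]
      refine orderOf_dvd_of_pow_eq_one ?_
      set d := orderOf (x ^ (2 * j + 1))
      have h1 : (orderOf x : ℤ) ∣ (2 * j + 1) * d := by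
        rw [orderOf_dvd_iff_zpow_eq_one, _root_.zpow_mul, zpow_natCast, pow_orderOf_eq_one]
      have hcop : Int.gcd (orderOf x : ℤ) (2 * j + 1) = 1 := by
        rw [hord]
        refine Int.isCoprime_iff_gcd_eq_one.1 ?_
        push_cast
        exact IsCoprime.pow_left ⟨-j, 1, by ring⟩
      have h2 : (orderOf x : ℤ) ∣ (d : ℤ) := Int.dvd_of_dvd_mul_right_of_gcd_one h1 hcop
      exact orderOf_dvd_iff_pow_eq_one.1 (Int.natCast_dvd_natCast.1 h2)
    have hm1 : 2 ^ m < orderOf z := by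
      have hev : Even (orderOf z) := by
        obtain ⟨k, hk⟩ := hp z
        obtain ⟨l, -, hl⟩ := (Nat.dvd_prime_pow Nat.prime_two).1 (orderOf_dvd_of_pow_eq_one hk)
        rcases Nat.eq_zero_or_pos l with rfl | hl0
        · exact absurd (orderOf_eq_one_iff.1 (by simpa using hl) ▸ Subgroup.one_mem _) hz
        · rw [hl]; exact Nat.even_pow.2 ⟨even_two, by omega⟩
      have h1 : orderOf (z * z) = orderOf z / 2 := by
        rw [← pow_two, orderOf_pow_of_dvd two_ne_zero hev.two_dvd]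
      have := orderOf_pos z
      have := Nat.div_lt_self this one_lt_two
      omega
    exact absurd (hx z (Finset.mem_univ _)) (by rw [hord]; omega)

variable {α β : Type} [Fintype α] [DecidableEq α] [Fintype β] [DecidableEq β] {F : Type*} [Field F]
variable {Q : (α × β → F) → F} {q₁ : (α → F) → F} {q₂ : (β → F) → F}
variable {M : Subgroup (GL (α × β) F)}

theorem third_of_pair (H : Hyp Q q₁ q₂ M) {u b : α → F} (hu : q₁ u ≠ 0) (hb : q₁ b ≠ 0)
    (hub : pol q₁ u b = 0) : ∃ c, Frame q₁ u b c := by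
  obtain ⟨hn, hd⟩ := Transvec.Orth.nondeg_perp H.h₁ H.two (Transvec.Orth.nondeg_top H.h₁) (Submodule.mem_top (x := u)) hu
  rw [finrank_top, Module.finrank_pi, H.hα3] at hd
  have hbmem : b ∈ (⊤ : Submodule F (α → F)) ⊓ Transvec.Orth.orth H.h₁ (Submodule.span F {u}) :=
    ⟨Submodule.mem_top, (Transvec.Orth.mem_orth_span H.h₁).2 (by simpa using hub)⟩
  obtain ⟨hn', hd'⟩ := Transvec.Orth.nondeg_perp H.h₁ H.two hn hbmem hb
  obtain ⟨c, hc', hcq⟩ := Transvec.Orth.exists_anisotropic H.h₁ hn' fun h => by rw [h, finrank_bot] at hd'; omega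
  exact ⟨c, frame_of_orth H.h₁ H.two H.hα3 hu hb hcq hub (hc'.1.2 u (Submodule.mem_span_singleton_self u))
    (hc'.2 b (Submodule.mem_span_singleton_self b))⟩

/-- Conjugation by a member keeping the tensors over u, up to sign. -/
theorem fix_conj (H : Hyp Q q₁ q₂ M) {g k : GL (α × β) F} {u : α → F} (hg : g ∈ M)
    (hgu : ∀ w, ∃ w', mv g⁻¹ (ten u w) = ten u w') (hk : k ∈ fixGroup M u) : g * k * g⁻¹ ∈ fixGroup M u := by
  refine ⟨M.mul_mem (M.mul_mem hg hk.1) (M.inv_mem hg), fun w => ?_⟩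
  obtain ⟨w', hw'⟩ := hgu w
  rw [mv_mul, mv_mul, hw', hk.2, ← hw', mv_mv_inv]

/-- Commuting with a mirror of the plane. -/
theorem centraliser_comm [Fintype F] (H : Hyp Q q₁ q₂ M) (hC : CentreTriv q₂ M) {k t' : GL (α × β) F}
    {u b : α → F} (hu : q₁ u ≠ 0) (ht' : IsMirror q₁ t' b) (hub : pol q₁ u b = 0) (hk : k ∈ fixGroup M u)
    (hc : k * t' = t' * k) : CommB q₂ k := by
  obtain ⟨c, hf⟩ := third_of_pair H hu ht'.1 hub
  refine triple H hC hk.1 hf hk.2 fun w => mirror_fixed H.h₁ H.two H.hα3 ht' ?_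
  rw [← mv_mul, ← hc, mv_mul, mirror_self H.h₁ H.two ht']

theorem kr_fix (H : Hyp Q q₁ q₂ M) (B : GL β F) (u : α → F) (w : β → F) :
    ∃ w', mv (kr (1 : GL α F) B)⁻¹ (ten u w) = ten u w' :=
  ⟨mv B⁻¹ w, by rw [kr_inv, inv_one, mv_kr_ten, mv_one]⟩

/-- A fixed member moving the mirror inside the commuting ones commutes. -/
theorem twist_comm [Fintype F] (H : Hyp Q q₁ q₂ M) (hC : CentreTriv q₂ M) {k r t' : GL (α × β) F}
    {u b : α → F} (hu : q₁ u ≠ 0) (ht' : IsMirror q₁ t' b) (hub : pol q₁ u b = 0) (hk : k ∈ fixGroup M u)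
    (hrB : CommB q₂ r) (hc : k * t' = r * t' * k) : CommB q₂ k := by
  classical
  obtain ⟨hS, hne⟩ := factor_simple H.h₂ H.hβ4 H.minus H.two
  haveI := hS
  obtain ⟨c, hf⟩ := third_of_pair H hu ht'.1 hub
  let R : Subgroup (GL (α × β) F) := fixGroup M u ⊓ commSub q₂
  have hh : ∀ B ∈ Geo.omegaGL q₂, k⁻¹ * kr 1 B * k * (kr (1 : GL α F) B)⁻¹ ∈ R := by
    intro B hB
    have h1 : k⁻¹ * kr 1 B * k * (kr (1 : GL α F) B)⁻¹ ∈ fixGroup M u := by
      rw [show k⁻¹ * kr 1 B * k * (kr (1 : GL α F) B)⁻¹ = k⁻¹ * (kr 1 B * k * (kr (1 : GL α F) B)⁻¹) by group]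
      exact Subgroup.mul_mem _ (Subgroup.inv_mem _ hk) (fix_conj H (H.memB B hB) (kr_fix H B u) hk)
    refine ⟨h1, centraliser_comm H hC hu ht' hub h1 ?_⟩
    have e1 : kr (1 : GL α F) B * (r * t') = r * t' * kr 1 B :=
      ((commSub q₂).mul_mem hrB (mirror_comm H ht') B hB).symm
    have e2 : (kr (1 : GL α F) B)⁻¹ * t' = t' * (kr 1 B)⁻¹ := by
      rw [inv_mul_eq_iff_eq_mul, ← mul_assoc, ← mirror_comm H ht' B hB, mul_assoc, mul_inv_cancel, mul_one]
    calc k⁻¹ * kr 1 B * k * (kr (1 : GL α F) B)⁻¹ * t'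
        = k⁻¹ * kr 1 B * (k * t') * (kr (1 : GL α F) B)⁻¹ := by rw [mul_assoc, e2]; group
      _ = k⁻¹ * (kr (1 : GL α F) B * (r * t')) * k * (kr (1 : GL α F) B)⁻¹ := by rw [hc]; group
      _ = k⁻¹ * (r * t' * k) * k⁻¹ * kr 1 B * k * (kr (1 : GL α F) B)⁻¹ := by rw [e1]; group
      _ = t' * (k⁻¹ * kr 1 B * k * (kr (1 : GL α F) B)⁻¹) := by rw [← hc]; group
  let h : ↥(Geo.omegaGL q₂) →* R := MonoidHom.mk' (fun B => ⟨_, hh B B.2⟩) fun B B' => Subtype.ext (by
    show k⁻¹ * kr 1 ((B : GL β F) * (B' : GL β F)) * k * (kr (1 : GL α F) ((B : GL β F) * (B' : GL β F)))⁻¹ =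
      (k⁻¹ * kr 1 (B : GL β F) * k * (kr (1 : GL α F) (B : GL β F))⁻¹) *
        (k⁻¹ * kr 1 (B' : GL β F) * k * (kr (1 : GL α F) (B' : GL β F))⁻¹)
    have e := (hh B' B'.2).2 B B.2
    rw [show kr (1 : GL α F) ((B : GL β F) * (B' : GL β F)) = kr 1 (B : GL β F) * kr 1 (B' : GL β F) by rw [kr_mul, one_mul],
      show k⁻¹ * (kr 1 (B : GL β F) * kr 1 (B' : GL β F)) * k *
          (kr (1 : GL α F) (B : GL β F) * kr 1 (B' : GL β F))⁻¹ =
        (k⁻¹ * kr 1 (B : GL β F) * k) *
          ((k⁻¹ * kr 1 (B' : GL β F) * k * (kr (1 : GL α F) (B' : GL β F))⁻¹) * (kr (1 : GL α F) (B : GL β F))⁻¹) by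
        group]
    rw [show (k⁻¹ * kr 1 (B' : GL β F) * k * (kr (1 : GL α F) (B' : GL β F))⁻¹) * (kr (1 : GL α F) (B : GL β F))⁻¹ =
        (kr (1 : GL α F) (B : GL β F))⁻¹ * (k⁻¹ * kr 1 (B' : GL β F) * k * (kr (1 : GL α F) (B' : GL β F))⁻¹) from
      eq_inv_mul_of_mul_eq (by rw [← mul_assoc, ← e, mul_assoc, mul_inv_cancel, mul_one])]
    group)
  intro B hB
  have h1 := congrArg Subtype.val (hom_trivial hne h
    (fun x y => Subtype.ext (comm_comm H hf (h x).2.1 (h x).2.2 (h y).2.1 (h y).2.2)) ⟨B, hB⟩)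
  have h2 : k⁻¹ * kr 1 B * k = kr (1 : GL α F) B := mul_inv_eq_one.1 h1
  calc k * kr 1 B = k * (k⁻¹ * kr 1 B * k) := by rw [h2]
    _ = kr 1 B * k := by group

theorem mirror_not_fix [Fintype F] (H : Hyp Q q₁ q₂ M) {t' : GL (α × β) F} {u b : α → F} (hu : q₁ u ≠ 0)
    (ht' : IsMirror q₁ t' b) (hub : pol q₁ u b = 0) : ¬ t' ∈ fixGroup M u := by
  intro h
  obtain ⟨w, hw⟩ : ∃ w : β → F, w ≠ 0 := by
    obtain ⟨c, -, hc0, -⟩ := Transvec.Orth.exists_singular H.h₂ (X := ⊤)
      (by rw [finrank_top, Module.finrank_pi, H.hβ4]; omega)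
    exact ⟨c, hc0⟩
  have h1 := h.2 w
  rw [mirror_perp H.h₁ H.two ht' hub] at h1
  have h2 : (2 : F) • ten u w = 0 := by linear_combination (norm := module) -h1
  exact ten_ne_zero (ne_zero_of_aniso H.h₁ H.two hu) hw ((smul_eq_zero.1 h2).resolve_left H.two)

theorem mirror_keep (H : Hyp Q q₁ q₂ M) {m : GL (α × β) F} {u b : α → F} (hm : IsMirror q₁ m b)
    (hub : pol q₁ u b = 0) (w : β → F) : ∃ w', mv m⁻¹ (ten u w) = ten u w' :=
  ⟨-w, by rw [mirror_inv H hm, mirror_perp H.h₁ H.two hm hub]; funext i; simp [ten]⟩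

/-- The members fixing the tensors over an anisotropic vector commute with the second factor's group. -/
theorem fix_comm [Fintype F] (H : Hyp Q q₁ q₂ M) (hC : CentreTriv q₂ M) {u : α → F} (hu : q₁ u ≠ 0)
    {k : GL (α × β) F} (hk : k ∈ fixGroup M u) : CommB q₂ k := by
  classical
  obtain ⟨b, c, hf⟩ := exists_frame H.h₁ H.two H.hα3 hu
  obtain ⟨t, htM, ht⟩ := H.mirror u hu
  obtain ⟨t', ht'M, ht'⟩ := H.mirror b hf.hb
  have hsq := mirror_sq H.h₁ H.two ht'
  have hti : t'⁻¹ = t' := mirror_inv H ht'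
  set K := fixGroup M u with hK
  haveI : Finite (GL (α × β) F) := inferInstance
  have hKt : ∀ x ∈ K, t' * x * t' ∈ K := fun x hx => by
    have := fix_conj H ht'M (mirror_keep H ht' hf.hab) hx
    rwa [hti] at this
  -- a Sylow subgroup kept by the mirror
  haveI : Fact (Nat.Prime 2) := ⟨Nat.prime_two⟩
  let φ : MulAut K :=
    { toFun := fun x => ⟨t' * x * t', hKt x x.2⟩
      invFun := fun x => ⟨t' * x * t', hKt x x.2⟩
      left_inv := fun x => Subtype.ext (by
        show t' * (t' * x * t') * t' = x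
        rw [show t' * (t' * (x : GL (α × β) F) * t') * t' = t' * t' * x * (t' * t') by group, hsq, one_mul, mul_one])
      right_inv := fun x => Subtype.ext (by
        show t' * (t' * x * t') * t' = x
        rw [show t' * (t' * (x : GL (α × β) F) * t') * t' = t' * t' * x * (t' * t') by group, hsq, one_mul, mul_one])
      map_mul' := fun x y => Subtype.ext (by
        show t' * ((x : GL (α × β) F) * y) * t' = t' * x * t' * (t' * y * t')
        rw [show t' * (x : GL (α × β) F) * t' * (t' * y * t') = t' * x * (t' * t') * y * t' by group, hsq, mul_one]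
        group) }
  have hφ2 : φ * φ = 1 := MulEquiv.ext fun x => φ.left_inv x
  haveI : Fintype (Sylow 2 K) := Fintype.ofFinite _
  obtain ⟨S, hS⟩ : ∃ S : Sylow 2 K, φ • S = S := by
    refine Equiv.Perm.exists_fixed_point_of_prime (p := 2) (n := 1) (σ := MulAction.toPerm φ) ?_ ?_
    · have := card_sylow_modEq_one 2 K
      rw [Nat.card_eq_fintype_card] at this
      intro hd
      unfold Nat.ModEq at this
      omega
    · refine Equiv.ext fun T => ?_
      rw [pow_one, pow_two, Equiv.Perm.mul_apply, MulAction.toPerm_apply, MulAction.toPerm_apply, ← mul_smul, hφ2,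
        one_smul, Equiv.Perm.one_apply]
  set T : Subgroup (GL (α × β) F) := (S : Subgroup K).map K.subtype with hT
  have hTK : T ≤ K := Subgroup.map_subtype_le _
  have hTt : ∀ x ∈ T, t' * x * t' ∈ T := by
    rintro _ ⟨x, hx, rfl⟩
    refine ⟨φ x, ?_, rfl⟩
    have h1 : φ x ∈ (φ • S : Sylow 2 K).toSubgroup := Subgroup.smul_mem_pointwise_smul x φ _ hx
    rwa [hS] at h1
  have hTp : IsPGroup 2 T := S.2.map _
  -- the Sylow subgroup commutes
  have hTB : ∀ x ∈ T, CommB q₂ x := by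
    by_contra hcon
    push Not at hcon
    obtain ⟨x₀, hx₀, hx₀B⟩ := hcon
    let T₀ := T ⊓ commSub q₂
    have hT₀t : ∀ x ∈ T₀, t' * x * t' ∈ T₀ := fun x hx =>
      ⟨hTt x hx.1, (commSub q₂).mul_mem ((commSub q₂).mul_mem (mirror_comm H ht') hx.2) (mirror_comm H ht')⟩
    set P := invExt T t' hsq hTt with hP
    set D := invExt T₀ t' hsq hT₀t with hD
    have hPp : IsPGroup 2 P := by
      rintro ⟨x, hx | hx⟩
      · obtain ⟨k, hk⟩ := hTp ⟨x, hx⟩
        exact ⟨k, Subtype.ext (by have := congrArg Subtype.val hk; simpa using this)⟩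
      · have hxx : x * x ∈ T := by
          have h := T.mul_mem hx (hTt _ hx)
          rwa [show x * t' * (t' * (x * t') * t') = x * (t' * t') * x * (t' * t') by group, hsq, mul_one,
            mul_one] at h
        obtain ⟨k, hk⟩ := hTp ⟨x * x, hxx⟩
        refine ⟨k + 1, Subtype.ext ?_⟩
        have h := congrArg Subtype.val hk
        simp only [SubmonoidClass.coe_pow, OneMemClass.coe_one] at h ⊢
        rw [pow_succ', pow_mul, pow_two, h]
    haveI : Finite P := inferInstance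
    haveI := hPp.isNilpotent
    have hlt : D.subgroupOf P < ⊤ := lt_top_iff_ne_top.2 fun h => by
      have hx : x₀ ∈ D := Subgroup.subgroupOf_eq_top.1 h (Or.inl hx₀ : x₀ ∈ P)
      rcases hx with hx | hx
      · exact hx₀B hx.2
      · refine mirror_not_fix H hu ht' hf.hab ?_
        have := K.mul_mem (K.inv_mem (hTK hx₀)) (hTK hx.1)
        rwa [inv_mul_cancel_left] at this
    obtain ⟨p, hpN, hpD⟩ := SetLike.exists_of_lt (Group.normalizerCondition_of_isNilpotent (D.subgroupOf P) hlt)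
    have hpn : ∀ h : P, h ∈ D.subgroupOf P ↔ p * h * p⁻¹ ∈ D.subgroupOf P := Subgroup.mem_normalizer_iff.1 hpN
    obtain ⟨s, hs, hsD, hsn⟩ : ∃ s, s ∈ T ∧ s ∉ T₀ ∧ s * t' * s⁻¹ ∈ D := by
      have htD : t' ∈ D := Or.inr (by rw [hsq]; exact T₀.one_mem)
      have htP : t' ∈ P := Or.inr (by rw [hsq]; exact T.one_mem)
      have hconj : (p : GL (α × β) F) * t' * (p : GL (α × β) F)⁻¹ ∈ D :=
        (hpn ⟨t', htP⟩).1 (Subgroup.mem_subgroupOf.2 htD)
      rcases p.2 with hp | hp
      · exact ⟨p, hp, fun h => hpD (Subgroup.mem_subgroupOf.2 (Or.inl h)), hconj⟩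
      · refine ⟨p * t', hp, fun h => hpD (Subgroup.mem_subgroupOf.2 (Or.inr h)), ?_⟩
        rwa [_root_.mul_inv_rev, hti, show (p : GL (α × β) F) * t' * t' * (t' * (p : GL (α × β) F)⁻¹) =
          (p : GL (α × β) F) * (t' * t') * t' * (p : GL (α × β) F)⁻¹ by group, hsq, mul_one]
    rcases hsn with h | h
    · refine mirror_not_fix H hu ht' hf.hab ?_
      have := K.mul_mem (K.mul_mem (K.inv_mem (hTK hs)) (hTK h.1)) (hTK hs)
      rwa [show s⁻¹ * (s * t' * s⁻¹) * s = t' by group] at this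
    · refine hsD ⟨hs, twist_comm H hC hu ht' hf.hab (hTK hs) h.2 ?_⟩
      rw [show s * t' * s⁻¹ * t' * t' * s = s * t' * s⁻¹ * (t' * t') * s by group, hsq, mul_one]
      group
  -- the Sylow subgroup is cyclic
  have htK : t ∈ K := ⟨htM, mirror_self H.h₁ H.two ht⟩
  haveI : IsCyclic (S : Subgroup K) := by
    have hmem : ∀ x : (S : Subgroup K), CommB q₂ ((x : K) : GL (α × β) F) := fun x => hTB _ ⟨x, x.2, rfl⟩
    by_cases htS : (⟨t, htK⟩ : K) ∈ (S : Subgroup K)
    · refine isCyclic_two (fun a b' => Subtype.ext (Subtype.ext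
        (comm_comm H hf a.1.2 (hmem a) b'.1.2 (hmem b')))) S.2 ⟨_, htS⟩ fun x hx => ?_
      have h1 : ((x : K) : GL (α × β) F) * (x : K) = 1 := congrArg (fun y : (S : Subgroup K) => ((y : K) : GL (α × β) F)) hx
      rcases comm_invol H ht x.1.2 (hmem x) h1 with h | h
      · exact Or.inl (Subtype.ext (Subtype.ext h))
      · exact Or.inr (Subtype.ext (Subtype.ext h))
    · refine isCyclic_two (fun a b' => Subtype.ext (Subtype.ext
        (comm_comm H hf a.1.2 (hmem a) b'.1.2 (hmem b')))) S.2 1 fun x hx => ?_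
      have h1 : ((x : K) : GL (α × β) F) * (x : K) = 1 := congrArg (fun y : (S : Subgroup K) => ((y : K) : GL (α × β) F)) hx
      rcases comm_invol H ht x.1.2 (hmem x) h1 with h | h
      · exact Or.inl (Subtype.ext (Subtype.ext h))
      · exact absurd (by rw [show (⟨t, htK⟩ : K) = x from Subtype.ext h.symm]; exact x.2) htS
  -- the normal complement
  have hmin : (Nat.card K).minFac = 2 := by
    rw [Nat.minFac_eq_two_iff]
    have ht2 : orderOf (⟨t, htK⟩ : K) = 2 := by
      refine orderOf_eq_prime (Subtype.ext ?_) fun h => ?_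
      · show t ^ 2 = 1
        rw [pow_two]; exact mirror_sq H.h₁ H.two ht
      · obtain ⟨w, hw⟩ : ∃ w : β → F, w ≠ 0 := by
          obtain ⟨c₀, -, hc0, -⟩ := Transvec.Orth.exists_singular H.h₂ (X := ⊤)
            (by rw [finrank_top, Module.finrank_pi, H.hβ4]; omega)
          exact ⟨c₀, hc0⟩
        have h1 : t = 1 := congrArg Subtype.val h
        have h2' := mirror_perp H.h₁ H.two ht (show pol q₁ b u = 0 by rw [Transvec.Orth.pol_comm, hf.hab]) w
        rw [h1, mv_one] at h2'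
        have h2'' : (2 : F) • ten b w = 0 := by linear_combination (norm := module) h2'
        exact ten_ne_zero (ne_zero_of_aniso H.h₁ H.two hf.hb) hw ((smul_eq_zero.1 h2'').resolve_left H.two)
    rw [← ht2]
    exact orderOf_dvd_natCard _
  have hSn := IsCyclic.normalizer_le_centralizer (P := S) hmin inferInstance
  have hcomp := MonoidHom.ker_transferSylow_isComplement' S hSn
  set N := (MonoidHom.transferSylow S hSn).ker with hN
  have hNodd : Odd (Nat.card N) := by
    rw [← hcomp.index_eq_card]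
    exact Nat.odd_iff.2 (Nat.two_dvd_ne_zero.1 S.not_dvd_index)
  have hNmem : ∀ x : K, x ∈ N ↔ Odd (orderOf x) := by
    intro x
    constructor
    · intro hx
      exact hNodd.of_dvd_nat (by rw [← Subgroup.orderOf_mk x hx]; exact orderOf_dvd_natCard _)
    · intro hx
      rw [hN, MonoidHom.mem_ker]
      obtain ⟨k, hk⟩ := IsPGroup.iff_card.1 S.2
      have h2' : orderOf (MonoidHom.transferSylow S hSn x) ∣ 2 ^ k := hk ▸ orderOf_dvd_natCard _
      have h1 := orderOf_map_dvd (MonoidHom.transferSylow S hSn) x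
      exact orderOf_eq_one_iff.1 (Nat.eq_one_of_dvd_coprimes
        ((Nat.coprime_two_right.2 hx).pow_right k) h1 h2')
  let O : Subgroup (GL (α × β) F) := N.map K.subtype
  have hOmem : ∀ x, x ∈ O ↔ x ∈ K ∧ Odd (orderOf x) := by
    intro x
    constructor
    · rintro ⟨y, hy, rfl⟩
      exact ⟨y.2, by simpa [Subgroup.orderOf_coe] using (hNmem y).1 hy⟩
    · rintro ⟨hx, ho⟩
      exact ⟨⟨x, hx⟩, (hNmem _).2 (by rwa [Subgroup.orderOf_mk]), rfl⟩
  have hOK : O ≤ K := fun x hx => ((hOmem x).1 hx).1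
  have hOconj : ∀ g, g ∈ M → (∀ w, ∃ w', mv g⁻¹ (ten u w) = ten u w') → ∀ o ∈ O, g * o * g⁻¹ ∈ O := by
    intro g hg hgu o ho
    refine (hOmem _).2 ⟨fix_conj H hg hgu (hOK ho), ?_⟩
    rw [show g * o * g⁻¹ = MulAut.conj g o from rfl, MulEquiv.orderOf_eq]
    exact ((hOmem o).1 ho).2
  have hOinv : ∀ (b' : α → F) (m : GL (α × β) F), pol q₁ b' u = 0 → IsMirror q₁ m b' → ∀ o ∈ O,
      m * o * m = o⁻¹ := by
    intro b' m hb'u hm
    have hub' : pol q₁ u b' = 0 := by rw [Transvec.Orth.pol_comm, hb'u]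
    have hm2 := mirror_sq H.h₁ H.two hm
    have hmM : m ∈ M := by
      obtain ⟨m', hm'M, hm'⟩ := H.mirror b' hm.1
      rwa [mirror_unique H.h₁ H.two hm hm']
    have hcm : ∀ o ∈ O, m * o * m ∈ O := fun o ho => by
      have := hOconj m hmM (mirror_keep H hm hub') o ho
      rwa [mirror_inv H hm] at this
    have hfree : ∀ o ∈ O, m * o * m = o → o = 1 := by
      intro o ho he
      have hc : o * m = m * o := by
        calc o * m = m * o * m * m := by rw [he]
          _ = m * o := by rw [mul_assoc, hm2, mul_one]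
      have hB := centraliser_comm H hC hu hm hub' (hOK ho) hc
      rcases comm_centralises H ht hm hub' (hOK ho) hB hc with h | h
      · exact h
      · exfalso
        have hodd := ((hOmem o).1 ho).2
        have ht2 : orderOf t ∣ 2 := orderOf_dvd_of_pow_eq_one (by rw [pow_two, mirror_sq H.h₁ H.two ht])
        rw [h] at hodd ho
        have h1 : orderOf t = 1 := Nat.eq_one_of_dvd_coprimes (Nat.coprime_two_right.2 hodd) dvd_rfl ht2
        obtain ⟨w, hw⟩ : ∃ w : β → F, w ≠ 0 := by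
          obtain ⟨c₀, -, hc0, -⟩ := Transvec.Orth.exists_singular H.h₂ (X := ⊤)
            (by rw [finrank_top, Module.finrank_pi, H.hβ4]; omega)
          exact ⟨c₀, hc0⟩
        have h2' := mirror_perp H.h₁ H.two ht hb'u w
        rw [orderOf_eq_one_iff.1 h1, mv_one] at h2'
        have h2'' : (2 : F) • ten b' w = 0 := by linear_combination (norm := module) h2'
        exact ten_ne_zero (ne_zero_of_aniso H.h₁ H.two hm.1) hw ((smul_eq_zero.1 h2'').resolve_left H.two)
    have hinj : Function.Injective fun o : O => (⟨(o : GL (α × β) F)⁻¹ * (m * o * m),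
        O.mul_mem (O.inv_mem o.2) (hcm o o.2)⟩ : O) := by
      intro x y hxy
      have h : (x : GL (α × β) F)⁻¹ * (m * x * m) = (y : GL (α × β) F)⁻¹ * (m * y * m) := congrArg Subtype.val hxy
      refine Subtype.ext (mul_inv_eq_one.1 (hfree _ (O.mul_mem x.2 (O.inv_mem y.2)) ?_))
      calc m * ((x : GL (α × β) F) * (y : GL (α × β) F)⁻¹) * m
          = (x : GL (α × β) F) * ((x : GL (α × β) F)⁻¹ * (m * x * m)) * (m * (y : GL (α × β) F)⁻¹ * m) := by
            rw [show (x : GL (α × β) F) * ((x : GL (α × β) F)⁻¹ * (m * x * m)) * (m * (y : GL (α × β) F)⁻¹ * m) =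
              m * x * (m * m) * (y : GL (α × β) F)⁻¹ * m by group, hm2, mul_one]
            group
        _ = (x : GL (α × β) F) * (y : GL (α × β) F)⁻¹ := by
            rw [h, show (x : GL (α × β) F) * ((y : GL (α × β) F)⁻¹ * (m * y * m)) * (m * (y : GL (α × β) F)⁻¹ * m) =
              x * (y : GL (α × β) F)⁻¹ * (m * y * (m * m) * (y : GL (α × β) F)⁻¹ * m) by group, hm2, mul_one,
              show m * (y : GL (α × β) F) * (y : GL (α × β) F)⁻¹ * m = m * m by group, hm2, mul_one]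
    intro o ho
    obtain ⟨x, hx⟩ := (Finite.injective_iff_surjective.1 hinj) ⟨o, ho⟩
    have h : (x : GL (α × β) F)⁻¹ * (m * x * m) = o := congrArg Subtype.val hx
    have hmi : m⁻¹ = m := mirror_inv H hm
    rw [← h, _root_.mul_inv_rev, inv_inv, _root_.mul_inv_rev, _root_.mul_inv_rev, hmi,
      show m * ((x : GL (α × β) F)⁻¹ * (m * x * m)) * m = m * (x : GL (α × β) F)⁻¹ * m * x * (m * m) by group,
      hm2, mul_one]
    group
  have hOcomm : ∀ a ∈ O, ∀ a' ∈ O, a * a' = a' * a := by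
    intro a ha a' ha'
    have hbu : pol q₁ b u = 0 := by rw [Transvec.Orth.pol_comm, hf.hab]
    have h := hOinv b t' hbu ht' (a * a') (O.mul_mem ha ha')
    rw [show t' * (a * a') * t' = t' * a * (t' * t') * a' * t' by rw [hsq, mul_one]; group,
      show t' * a * (t' * t') * a' * t' = t' * a * t' * (t' * a' * t') by group, hOinv b t' hbu ht' a ha,
      hOinv b t' hbu ht' a' ha'] at h
    have := congrArg (fun z => z⁻¹) h
    simpa using this.symm
  have hOB := odd_comm H hC hu hOK (fun B hB o ho => hOconj _ (H.memB B hB) (kr_fix H B u) o ho) hOcomm hOinv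
  obtain ⟨y, hy⟩ := hcomp.2 ⟨k, hk⟩
  have e : k = ((y.1 : K) : GL (α × β) F) * ((y.2 : K) : GL (α × β) F) := (congrArg Subtype.val hy).symm
  rw [e]
  exact (commSub q₂).mul_mem (hOB _ ⟨y.1, y.1.2, rfl⟩) (hTB _ ⟨y.2, y.2.2, rfl⟩)

end Cfsg.Agent.OrthTensorMirror
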