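/-
Members sending the tensors over one anisotropic vector to those over another are Kronecker products; Kronecker
conjugates of mirrors are mirrors.
-/
import Cfsg.Agent.Lib.OrthTensorMirror.Fix
import Cfsg.Agent.Lib.OrthTensor.Meet

set_option autoImplicit false
set_option linter.unusedSectionVars false

namespace Cfsg.Agent.OrthTensorMirror

open scoped Matrix Kronecker
open Matrix Cfsg.Agent.Transvec Cfsg.Agent.TensorMax
open Cfsg.Agent.TensorMax.U (kr mv_kr_ten isKron_kr isKron_mul isKron_inv mv_kron_ten ext_ten_mv)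
open Cfsg.Agent.Transvec.Orth (pol IsSiegel IsRefl)

variable {α β : Type} [Fintype α] [DecidableEq α] [Fintype β] [DecidableEq β] {F : Type*} [Field F]
variable {Q : (α × β → F) → F} {q₁ : (α → F) → F} {q₂ : (β → F) → F}
variable {M : Subgroup (GL (α × β) F)}

/-- The key lemma. -/
theorem key [Fintype F] (H : Hyp Q q₁ q₂ M) (hC : CentreTriv q₂ M) {g : GL (α × β) F} (hg : g ∈ M)
    {u a : α → F} (hu : q₁ u ≠ 0) (ha : q₁ a ≠ 0) (h : ∀ w, ∃ w', mv g (ten u w) = ten a w') :
    IsKron g ∧ ∃ s : F, s ≠ 0 ∧ q₁ a = s ^ 2 * q₁ u := by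
  classical
  obtain ⟨hS, hne⟩ := factor_simple H.h₂ H.hβ4 H.minus H.two
  haveI := hS
  choose G hG using h
  have ha0 : a ≠ 0 := ne_zero_of_aniso H.h₁ H.two ha
  have hu0 : u ≠ 0 := ne_zero_of_aniso H.h₁ H.two hu
  let L : (β → F) →ₗ[F] β → F :=
    { toFun := G
      map_add' := fun w z => ten_left_cancel ha0 (by rw [← hG, ten_add_right, mv_add, hG, hG, ten_add_right])
      map_smul' := fun t w => ten_left_cancel ha0 (by
        rw [RingHom.id_apply, ← hG, ten_smul_right, mv_smul, hG, ten_smul_right]) }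
  obtain ⟨G₁, hG₁⟩ := exists_gl L fun w z hwz => ten_left_cancel hu0
    (mv_inj g (by rw [hG, hG]; exact congrArg (ten a) hwz))
  have hgu : ∀ w, mv g (ten u w) = ten a (mv G₁ w) := fun w => by rw [hG₁]; exact hG w
  -- similitude
  have hsim : ∀ w z, q₁ a * pol q₂ (mv G₁ w) (mv G₁ z) = q₁ u * pol q₂ w z := fun w z => by
    have h := H.toCtx.iso hg (ten u w) (ten u z)
    rw [hgu, hgu, H.hpol, H.hpol, Transvec.Orth.pol_self H.h₁, Transvec.Orth.pol_self H.h₁] at h
    exact mul_left_cancel₀ H.two (by linear_combination h)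
  have hsimq : ∀ w, q₁ a * q₂ (mv G₁ w) = q₁ u * q₂ w := fun w => mul_left_cancel₀ H.two (by
    have h := hsim w w
    rw [Transvec.Orth.pol_self H.h₂, Transvec.Orth.pol_self H.h₂] at h
    linear_combination h)
  have hnorm : ∀ x ∈ isometryGroup F q₂, G₁ * x * G₁⁻¹ ∈ isometryGroup F q₂ := fun x hx =>
    Transvec.Orth.mem_isometry.2 fun w => mul_left_cancel₀ ha (by
      rw [mv_mul, mv_mul, hsimq, Transvec.Orth.mem_isometry.1 hx, ← hsimq, mv_mv_inv])
  obtain ⟨b, c, hf⟩ := exists_frame H.h₁ H.two H.hα3 ha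
  let R : Subgroup (GL (α × β) F) := fixGroup M a ⊓ commSub q₂
  have hh : ∀ B ∈ Geo.omegaGL q₂, g * kr 1 B * g⁻¹ * (kr (1 : GL α F) (G₁ * B * G₁⁻¹))⁻¹ ∈ R := by
    intro B hB
    have hB' : G₁ * B * G₁⁻¹ ∈ Geo.omegaGL q₂ := conj_mem_omega hnorm hB
    have h1 : g * kr 1 B * g⁻¹ * (kr (1 : GL α F) (G₁ * B * G₁⁻¹))⁻¹ ∈ fixGroup M a := by
      refine ⟨M.mul_mem (M.mul_mem (M.mul_mem hg (H.memB B hB)) (M.inv_mem hg)) (M.inv_mem (H.memB _ hB')),
        fun w => ?_⟩
      have hgi : ∀ z, mv g⁻¹ (ten a z) = ten u (mv G₁⁻¹ z) := fun z => mv_inj g (by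
        rw [mv_mv_inv, hgu, mv_mv_inv])
      rw [mv_mul, kr_inv, inv_one, mv_kr_ten, mv_one, mv_mul, hgi, mv_mul, mv_kr_ten, mv_one, hgu]
      congr 1
      rw [← mv_mul, ← mv_mul, ← mv_mul, mul_inv_cancel, mv_one]
    exact ⟨h1, fix_comm H hC ha h1⟩
  let hom : ↥(Geo.omegaGL q₂) →* R := MonoidHom.mk' (fun B => ⟨_, hh B B.2⟩) fun B B' => Subtype.ext (by
    show g * kr 1 ((B : GL β F) * (B' : GL β F)) * g⁻¹ *
        (kr (1 : GL α F) (G₁ * ((B : GL β F) * (B' : GL β F)) * G₁⁻¹))⁻¹ =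
      (g * kr 1 (B : GL β F) * g⁻¹ * (kr (1 : GL α F) (G₁ * (B : GL β F) * G₁⁻¹))⁻¹) *
        (g * kr 1 (B' : GL β F) * g⁻¹ * (kr (1 : GL α F) (G₁ * (B' : GL β F) * G₁⁻¹))⁻¹)
    set X := g * kr 1 (B' : GL β F) * g⁻¹ * (kr (1 : GL α F) (G₁ * (B' : GL β F) * G₁⁻¹))⁻¹ with hX
    have e : X * kr 1 (G₁ * (B : GL β F) * G₁⁻¹) = kr 1 (G₁ * (B : GL β F) * G₁⁻¹) * X :=
      (hh B' B'.2).2 _ (conj_mem_omega hnorm B.2)
    have e' : X * (kr (1 : GL α F) (G₁ * (B : GL β F) * G₁⁻¹))⁻¹ =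
        (kr 1 (G₁ * (B : GL β F) * G₁⁻¹))⁻¹ * X := by
      rw [eq_inv_mul_iff_mul_eq, ← mul_assoc, ← e, mul_assoc, mul_inv_cancel, mul_one]
    rw [show kr (1 : GL α F) ((B : GL β F) * (B' : GL β F)) = kr 1 (B : GL β F) * kr 1 (B' : GL β F) by
        rw [kr_mul, one_mul],
      show kr (1 : GL α F) (G₁ * ((B : GL β F) * (B' : GL β F)) * G₁⁻¹) =
          kr 1 (G₁ * (B : GL β F) * G₁⁻¹) * kr 1 (G₁ * (B' : GL β F) * G₁⁻¹) by
        rw [kr_mul, one_mul]; congr 1; group,
      show g * (kr 1 (B : GL β F) * kr 1 (B' : GL β F)) * g⁻¹ *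
          (kr (1 : GL α F) (G₁ * (B : GL β F) * G₁⁻¹) * kr 1 (G₁ * (B' : GL β F) * G₁⁻¹))⁻¹ =
        g * kr 1 (B : GL β F) * g⁻¹ * (X * (kr (1 : GL α F) (G₁ * (B : GL β F) * G₁⁻¹))⁻¹) by rw [hX]; group,
      e', ← mul_assoc])
  -- g follows the second factor
  have htriv : ∀ B ∈ Geo.omegaGL q₂, g * kr 1 B * g⁻¹ = kr (1 : GL α F) (G₁ * B * G₁⁻¹) := fun B hB =>
    mul_inv_eq_one.1 (congrArg Subtype.val (hom_trivial hne hom (fun x y => Subtype.ext
      (comm_comm H hf (hom x).2.1 (hom x).2.2 (hom y).2.1 (hom y).2.2)) ⟨B, hB⟩))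
  have hcB : CommB q₂ ((kr (1 : GL α F) G₁)⁻¹ * g) := fun B hB => by
    have h1 : g * kr 1 B = kr (1 : GL α F) (G₁ * B * G₁⁻¹) * g := mul_inv_eq_iff_eq_mul.1 (htriv B hB)
    rw [mul_assoc, h1, ← mul_assoc, ← mul_assoc, kr_inv, inv_one, kr_mul, kr_mul, one_mul]
    congr 2
    group
  obtain ⟨A, hA⟩ := eq_kr_of_comm H hcB
  have hgk : g = kr A G₁ := by
    rw [inv_mul_eq_iff_eq_mul, kr_mul, one_mul, mul_one] at hA
    exact hA
  refine ⟨hgk ▸ isKron_kr A G₁, ?_⟩
  -- the value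
  obtain ⟨c₀, d₀, w₁, w₂, -, -, -, hw₁, -⟩ := exists_pair_frame H.h₂ H.hβ4 H.minus H.two
  have hμ : ∀ v v', pol q₁ (mv A v) (mv A v') = q₁ a / q₁ u * pol q₁ v v' := by
    intro v v'
    have h := H.toCtx.iso hg (ten v w₁) (ten v' w₁)
    rw [hgk, mv_kr_ten, mv_kr_ten, H.hpol, H.hpol, Transvec.Orth.pol_self H.h₂, Transvec.Orth.pol_self H.h₂, hw₁, mul_one] at h
    have hq := hsimq w₁
    rw [hw₁, mul_one] at hq
    rw [div_mul_eq_mul_div, eq_div_iff hu]
    refine mul_left_cancel₀ H.two ?_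
    linear_combination q₁ a * h - 2 * pol q₁ (mv A v) (mv A v') * hq
  obtain ⟨s, hs0, hs⟩ := OrthTensor.similitude_square H.h₁ (by rw [H.hα3]; exact ⟨1, rfl⟩) (mvLin A)
    (div_ne_zero ha hu) fun v v' => by
      rw [Matrix.toLin'_apply, Matrix.toLin'_apply]; exact hμ v v'
  exact ⟨s, hs0, (div_eq_iff hu).1 hs⟩

/-- The tensors over a vector as a subspace. -/
theorem finrank_lam {u : α → F} (hu : u ≠ 0) :
    Module.finrank F (LinearMap.range (lam (β := β) u)) = Fintype.card β := by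
  rw [LinearMap.finrank_range_of_inj fun w z h => ten_left_cancel hu h, Module.finrank_fintype_fun_eq_card]

theorem fix_add_neg [Fintype F] (h2 : (2 : F) ≠ 0) {B : GL β F} (hB : ∀ w, mv B (mv B w) = w) :
    Module.finrank F (LinearMap.ker (mvLin B - LinearMap.id)) +
      Module.finrank F (LinearMap.ker (mvLin B + LinearMap.id)) = Fintype.card β := by
  have hc : IsCompl (LinearMap.ker (mvLin B - LinearMap.id)) (LinearMap.ker (mvLin B + LinearMap.id)) := by
    constructor
    · rw [Submodule.disjoint_def]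
      intro w h1 h2'
      simp only [LinearMap.mem_ker, LinearMap.sub_apply, LinearMap.add_apply, LinearMap.id_apply] at h1 h2'
      have : (2 : F) • w = 0 := by linear_combination (norm := module) h2' - h1
      exact (smul_eq_zero.1 this).resolve_left h2
    · refine codisjoint_iff.2 (eq_top_iff.2 fun w _ => ?_)
      refine Submodule.mem_sup.2 ⟨(2 : F)⁻¹ • (w + mv B w), ?_, (2 : F)⁻¹ • (w - mv B w), ?_, ?_⟩
      · rw [LinearMap.mem_ker, LinearMap.sub_apply, LinearMap.id_apply, Matrix.toLin'_apply]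
        show mv B _ - _ = 0
        rw [mv_smul, mv_add, hB]; module
      · rw [LinearMap.mem_ker, LinearMap.add_apply, LinearMap.id_apply, Matrix.toLin'_apply]
        show mv B _ + _ = 0
        rw [mv_smul, mv_sub, hB]; module
      · match_scalars <;> field_simp <;> ring
  rw [Submodule.finrank_add_eq_of_isCompl hc, Module.finrank_fintype_fun_eq_card]

/-- An isometric involution of the three-space has an eigen frame. -/
theorem invol_frame (h₁ : Geo.IsNondegenerateQuadraticForm q₁) (h2 : (2 : F) ≠ 0) (hα : Fintype.card α = 3)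
    {A : GL α F} (hA : A ∈ isometryGroup F q₁) (hA2 : ∀ v, mv A (mv A v) = v) :
    ∃ (a b c : α → F) (s t r : F), Frame q₁ a b c ∧ mv A a = s • a ∧ mv A b = t • b ∧ mv A c = r • c ∧
      (s = 1 ∨ s = -1) ∧ (t = 1 ∨ t = -1) ∧ (r = 1 ∨ r = -1) := by
  have heig : ∀ x, q₁ x ≠ 0 → ∃ (v : α → F) (s : F), q₁ v ≠ 0 ∧ mv A v = s • v ∧ (s = 1 ∨ s = -1) ∧
      (∀ y, pol q₁ x y = 0 → pol q₁ (mv A x) y = 0 → pol q₁ v y = 0) := by
    intro x hx
    have h1 : q₁ (x + mv A x) + q₁ (x - mv A x) = 4 * q₁ x := by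
      rw [Transvec.Orth.q_add h₁, Transvec.Orth.q_sub h₁, Transvec.Orth.mem_isometry.1 hA]; ring
    by_cases hp : q₁ (x + mv A x) = 0
    · refine ⟨x - mv A x, -1, fun hm => hx ?_, by rw [mv_sub, hA2]; module, Or.inr rfl, fun y k1 k2 => by
        rw [Transvec.Orth.pol_sub_left h₁, k1, k2, sub_zero]⟩
      rw [hp, hm, add_zero] at h1
      exact (mul_eq_zero.1 h1.symm).resolve_left (by rw [show (4 : F) = 2 * 2 by norm_num]; exact mul_ne_zero h2 h2)
    · exact ⟨x + mv A x, 1, hp, by rw [mv_add, hA2]; module, Or.inl rfl, fun y k1 k2 => by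
        rw [Transvec.Orth.pol_add_left h₁, k1, k2, add_zero]⟩
  obtain ⟨x, -, hx⟩ := Transvec.Orth.exists_anisotropic h₁ (Transvec.Orth.nondeg_top h₁) fun h => by
    have := congrArg (fun S : Submodule F (α → F) => Module.finrank F S) h
    simp only [finrank_top, finrank_bot, Module.finrank_pi, hα] at this
    omega
  obtain ⟨a, s, ha, hAa, hs, -⟩ := heig x hx
  obtain ⟨y, z, hf⟩ := exists_frame h₁ h2 hα ha
  obtain ⟨b, t, hb, hAb, ht, hbp⟩ := heig y hf.hb
  have hs0 : s ≠ 0 := by rcases hs with rfl | rfl <;> norm_num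
  have hya : pol q₁ y a = 0 := by rw [Transvec.Orth.pol_comm, hf.hab]
  have hAperp : ∀ v, pol q₁ v a = 0 → pol q₁ (mv A v) a = 0 := fun v hv => by
    have := Transvec.Orth.pol_mv h₁ hA v a
    rw [hAa, Transvec.Orth.pol_smul_right h₁, hv, mul_eq_zero, or_iff_right hs0] at this
    exact this
  have hba : pol q₁ b a = 0 := hbp a hya (hAperp y hya)
  obtain ⟨hn, hd⟩ := Transvec.Orth.nondeg_perp h₁ h2 (Transvec.Orth.nondeg_top h₁) (Submodule.mem_top (x := a)) ha
  rw [finrank_top, Module.finrank_pi, hα] at hd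
  have hbmem : b ∈ (⊤ : Submodule F (α → F)) ⊓ Transvec.Orth.orth h₁ (Submodule.span F {a}) :=
    ⟨Submodule.mem_top, (Transvec.Orth.mem_orth_span h₁).2 (by simpa [Transvec.Orth.pol_comm a b] using hba)⟩
  obtain ⟨hn', hd'⟩ := Transvec.Orth.nondeg_perp h₁ h2 hn hbmem hb
  obtain ⟨c, hc', hcq⟩ := Transvec.Orth.exists_anisotropic h₁ hn' fun h => by rw [h, finrank_bot] at hd'; omega
  have hac := hc'.1.2 a (Submodule.mem_span_singleton_self a)
  have hbc := hc'.2 b (Submodule.mem_span_singleton_self b)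
  have hF := frame_of_orth h₁ h2 hα ha hb hcq (by rw [Transvec.Orth.pol_comm, hba]) hac hbc
  have ht0 : t ≠ 0 := by rcases ht with rfl | rfl <;> norm_num
  have hca : pol q₁ c a = 0 := by rw [Transvec.Orth.pol_comm]; exact hac
  have hcb : pol q₁ (mv A c) b = 0 := by
    have := Transvec.Orth.pol_mv h₁ hA c b
    rw [hAb, Transvec.Orth.pol_smul_right h₁, Transvec.Orth.pol_comm c b, hbc, mul_eq_zero, or_iff_right ht0] at this
    exact this
  obtain ⟨r, hAc⟩ : ∃ r : F, mv A c = r • c := ⟨_, by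
    conv_lhs => rw [hF.dec (mv A c)]
    rw [hAperp c hca, hcb, zero_div, zero_div, zero_smul, zero_smul, zero_add, zero_add]⟩
  refine ⟨a, b, c, s, t, r, hF, hAa, hAb, hAc, hs, ht, ?_⟩
  have h := Transvec.Orth.mem_isometry.1 hA c
  rw [hAc, Transvec.Orth.q_smul h₁] at h
  exact sq_eq_one_iff.1 ((mul_eq_right₀ hcq).1 h)

set_option maxHeartbeats 1000000 in
/-- Fixed vectors of a diagonal tensor map. -/
theorem finrank_fixed (h₁ : Geo.IsNondegenerateQuadraticForm q₁) (h2 : (2 : F) ≠ 0) {a b c : α → F}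
    (hf : Frame q₁ a b c) {g : GL (α × β) F} {Ba Bb Bc : (β → F) →ₗ[F] β → F}
    (ea : ∀ w, mv g (ten a w) = ten a (Ba w)) (eb : ∀ w, mv g (ten b w) = ten b (Bb w))
    (ec : ∀ w, mv g (ten c w) = ten c (Bc w)) :
    Module.finrank F (LinearMap.ker (mvLin g - LinearMap.id)) =
      Module.finrank F (LinearMap.ker (Ba - LinearMap.id)) + Module.finrank F (LinearMap.ker (Bb - LinearMap.id)) +
        Module.finrank F (LinearMap.ker (Bc - LinearMap.id)) := by
  have hba : pol q₁ b a = 0 := by rw [Transvec.Orth.pol_comm, hf.hab]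
  have hca : pol q₁ c a = 0 := by rw [Transvec.Orth.pol_comm, hf.hac]
  have hcb : pol q₁ c b = 0 := by rw [Transvec.Orth.pol_comm, hf.hbc]
  have comp : ∀ x, mv g x = x → ∀ (e : α → F) (B : (β → F) →ₗ[F] β → F), q₁ e ≠ 0 →
      (∀ x, pl q₁ e (mv g x) = B (pl q₁ e x)) → (2 * q₁ e)⁻¹ • pl q₁ e x ∈ LinearMap.ker (B - LinearMap.id) := by
    intro x hx e B _ he
    rw [LinearMap.mem_ker, LinearMap.sub_apply, LinearMap.id_apply, map_smul, ← he, hx, sub_self]
  have plg : ∀ (e : α → F) (B : (β → F) →ₗ[F] β → F),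
      (∀ w, pl q₁ e (mv g (ten a w)) = B (pol q₁ a e • w)) → (∀ w, pl q₁ e (mv g (ten b w)) = B (pol q₁ b e • w)) →
      (∀ w, pl q₁ e (mv g (ten c w)) = B (pol q₁ c e • w)) → ∀ x, pl q₁ e (mv g x) = B (pl q₁ e x) := by
    intro e B k1 k2 k3 x
    rw [hf.decV h₁ h2 x]
    simp only [mv_add, map_add, k1, k2, k3, pl_ten h₁ h2]
  have pa := plg a Ba (fun w => by rw [ea, pl_ten h₁ h2, map_smul]) (fun w => by
    rw [eb, pl_ten h₁ h2, hba, zero_smul, zero_smul, map_zero]) (fun w => by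
    rw [ec, pl_ten h₁ h2, hca, zero_smul, zero_smul, map_zero])
  have pb := plg b Bb (fun w => by rw [ea, pl_ten h₁ h2, hf.hab, zero_smul, zero_smul, map_zero]) (fun w => by
    rw [eb, pl_ten h₁ h2, map_smul]) (fun w => by
    rw [ec, pl_ten h₁ h2, hcb, zero_smul, zero_smul, map_zero])
  have pC := plg c Bc (fun w => by rw [ea, pl_ten h₁ h2, hf.hac, zero_smul, zero_smul, map_zero]) (fun w => by
    rw [eb, pl_ten h₁ h2, hf.hbc, zero_smul, zero_smul, map_zero]) (fun w => by
    rw [ec, pl_ten h₁ h2, map_smul])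
  let K := LinearMap.ker (mvLin g - LinearMap.id)
  have hK : ∀ x : K, mv g (x : α × β → F) = x := fun x => by
    have h := LinearMap.mem_ker.1 x.2
    rw [LinearMap.sub_apply, LinearMap.id_apply, Matrix.toLin'_apply, sub_eq_zero] at h
    exact h
  let La : ↥K →ₗ[F] ↥(LinearMap.ker (Ba - LinearMap.id)) :=
    (((2 * q₁ a)⁻¹ • pl q₁ a).comp K.subtype).codRestrict _ fun x => comp x (hK x) a Ba hf.ha pa
  let Lb : ↥K →ₗ[F] ↥(LinearMap.ker (Bb - LinearMap.id)) :=
    (((2 * q₁ b)⁻¹ • pl q₁ b).comp K.subtype).codRestrict _ fun x => comp x (hK x) b Bb hf.hb pb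
  let Lc : ↥K →ₗ[F] ↥(LinearMap.ker (Bc - LinearMap.id)) :=
    (((2 * q₁ c)⁻¹ • pl q₁ c).comp K.subtype).codRestrict _ fun x => comp x (hK x) c Bc hf.hc pC
  have hbij : Function.Bijective ((La.prod Lb).prod Lc) := by
    constructor
    · intro x y h
      have h1 : (2 * q₁ a)⁻¹ • pl q₁ a (x : α × β → F) = (2 * q₁ a)⁻¹ • pl q₁ a (y : α × β → F) :=
        congrArg (fun p => ((p.1.1 : β → F))) h
      have h2' : (2 * q₁ b)⁻¹ • pl q₁ b (x : α × β → F) = (2 * q₁ b)⁻¹ • pl q₁ b (y : α × β → F) :=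
        congrArg (fun p => ((p.1.2 : β → F))) h
      have h3 : (2 * q₁ c)⁻¹ • pl q₁ c (x : α × β → F) = (2 * q₁ c)⁻¹ • pl q₁ c (y : α × β → F) :=
        congrArg (fun p => ((p.2 : β → F))) h
      refine Subtype.ext ?_
      rw [hf.decV h₁ h2 (x : α × β → F), hf.decV h₁ h2 (y : α × β → F), h1, h2', h3]
    · rintro ⟨⟨⟨za, hza⟩, ⟨zb, hzb⟩⟩, ⟨zc, hzc⟩⟩
      rw [LinearMap.mem_ker, LinearMap.sub_apply, LinearMap.id_apply, sub_eq_zero] at hza hzb hzc
      refine ⟨⟨ten a za + ten b zb + ten c zc, ?_⟩, ?_⟩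
      · rw [LinearMap.mem_ker, LinearMap.sub_apply, LinearMap.id_apply, Matrix.toLin'_apply]
        show mv g _ - _ = 0
        rw [mv_add, mv_add, ea, eb, ec, hza, hzb, hzc, sub_self]
      · have h2a : (2 : F) * q₁ a ≠ 0 := mul_ne_zero h2 hf.ha
        have h2b : (2 : F) * q₁ b ≠ 0 := mul_ne_zero h2 hf.hb
        have h2c : (2 : F) * q₁ c ≠ 0 := mul_ne_zero h2 hf.hc
        refine Prod.ext (Prod.ext (Subtype.ext ?_) (Subtype.ext ?_)) (Subtype.ext ?_)
        · show (2 * q₁ a)⁻¹ • pl q₁ a (ten a za + ten b zb + ten c zc) = za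
          rw [map_add, map_add, pl_ten h₁ h2, pl_ten h₁ h2, pl_ten h₁ h2, hba, hca, Transvec.Orth.pol_self h₁, zero_smul,
            zero_smul, add_zero, add_zero, smul_smul, inv_mul_cancel₀ h2a, one_smul]
        · show (2 * q₁ b)⁻¹ • pl q₁ b (ten a za + ten b zb + ten c zc) = zb
          rw [map_add, map_add, pl_ten h₁ h2, pl_ten h₁ h2, pl_ten h₁ h2, hf.hab, hcb, Transvec.Orth.pol_self h₁, zero_smul,
            zero_smul, zero_add, add_zero, smul_smul, inv_mul_cancel₀ h2b, one_smul]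
        · show (2 * q₁ c)⁻¹ • pl q₁ c (ten a za + ten b zb + ten c zc) = zc
          rw [map_add, map_add, pl_ten h₁ h2, pl_ten h₁ h2, pl_ten h₁ h2, hf.hac, hf.hbc, Transvec.Orth.pol_self h₁, zero_smul,
            zero_smul, zero_add, zero_add, smul_smul, inv_mul_cancel₀ h2c, one_smul]
  let e := LinearEquiv.ofBijective _ hbij
  rw [LinearEquiv.finrank_eq e, Module.finrank_prod, Module.finrank_prod]

/-- A Kronecker member conjugate to a mirror is a mirror. -/
theorem mirror_of_kron [Fintype F] (H : Hyp Q q₁ q₂ M) {g m i : GL (α × β) F} {u : α → F}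
    (hg : g ∈ M) (hm : IsMirror q₁ m u) (hi : i = g * m * g⁻¹) (hk : IsKron i) : ∃ z, IsMirror q₁ i z := by
  classical
  have hiM : i ∈ M := by
    obtain ⟨m', hm'M, hm'⟩ := H.mirror u hm.1
    rw [hi, mirror_unique H.h₁ H.two hm hm']
    exact M.mul_mem (M.mul_mem hg hm'M) (M.inv_mem hg)
  have hii : ∀ x, mv i (mv i x) = x := fun x => by
    rw [hi, ← mv_mul, show g * m * g⁻¹ * (g * m * g⁻¹) = g * (m * m) * g⁻¹ by group,
      mirror_sq H.h₁ H.two hm, mul_one, mul_inv_cancel, mv_one]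
  -- the fixed space has dimension four
  have hdim : Module.finrank F (LinearMap.ker (mvLin i - LinearMap.id)) = 4 := by
    have hinj : Function.Injective ((mvLin g).comp (lam (β := β) u)) := fun w z h => by
      rw [LinearMap.comp_apply, LinearMap.comp_apply, Matrix.toLin'_apply, Matrix.toLin'_apply] at h
      exact ten_left_cancel (ne_zero_of_aniso H.h₁ H.two hm.1) (mv_inj g h)
    have hr : LinearMap.ker (mvLin i - LinearMap.id) = LinearMap.range ((mvLin g).comp (lam (β := β) u)) := by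
      ext x
      simp only [LinearMap.mem_ker, LinearMap.sub_apply, LinearMap.id_apply, Matrix.toLin'_apply, sub_eq_zero,
        LinearMap.mem_range, LinearMap.comp_apply, lam_apply]
      constructor
      · intro hx
        obtain ⟨w, hw⟩ := mirror_fixed H.h₁ H.two H.hα3 hm (x := mv g⁻¹ x) (mv_inj g (by
          have hx' : mv i x = x := hx
          rw [hi, mv_mul, mv_mul] at hx'
          rw [mv_mv_inv]; exact hx'))
        exact ⟨w, by show mv g _ = x; rw [← hw, mv_mv_inv]⟩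
      · rintro ⟨w, rfl⟩
        show mv i (mv g _) = mv g _
        rw [← mv_mul, hi, inv_mul_cancel_right, mv_mul, mirror_self H.h₁ H.two hm]
    rw [hr, LinearMap.finrank_range_of_inj hinj, Module.finrank_fintype_fun_eq_card, H.hβ4]
  obtain ⟨A, B, hAB⟩ := mv_kron_ten hk
  obtain ⟨c₀, d₀, w₁, w₂, -, -, -, hw₁, -⟩ := exists_pair_frame H.h₂ H.hβ4 H.minus H.two
  have hw0 : w₁ ≠ 0 := fun h => zero_ne_one (by rw [h, Transvec.Orth.q_zero H.h₂] at hw₁; exact hw₁)
  have hsq : ∀ v w, ten (mv A (mv A v)) (mv B (mv B w)) = ten v w := fun v w => by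
    rw [← hAB, ← hAB, hii]
  -- the squares are scalars
  obtain ⟨θ, hθ⟩ := exists_dot_one (show mv B (mv B w₁) ≠ 0 from fun h => hw0
    (mv_inj B (mv_inj B (by rw [h, mv_zero, mv_zero]))))
  obtain ⟨sc, hsc⟩ : ∃ sc : F, ∀ v, mv A (mv A v) = sc • v := ⟨θ ⬝ᵥ w₁, fun v => by
    have := congrArg (ctr θ) (hsq v w₁)
    rwa [ctr_ten, ctr_ten, hθ, one_smul] at this⟩
  obtain ⟨ρ, hρ0, hρ⟩ : ∃ ρ : F, ρ ≠ 0 ∧ sc = ρ ^ 2 := by
    have hA2 : (A : Matrix α α F) * A = sc • 1 := Matrix.ext_iff_mulVec.2 fun v => by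
      rw [← Matrix.mulVec_mulVec, Matrix.smul_mulVec, Matrix.one_mulVec]; exact hsc v
    have hd := congrArg Matrix.det hA2
    rw [Matrix.det_mul, Matrix.det_smul, Matrix.det_one, mul_one, H.hα3] at hd
    have hdA : (A : Matrix α α F).det ≠ 0 := ((Matrix.isUnit_iff_isUnit_det _).1 A.isUnit).ne_zero
    have hsc0 : sc ≠ 0 := fun h => hdA (mul_self_eq_zero.1 (by rw [hd, h]; ring))
    refine ⟨(A : Matrix α α F).det / sc, div_ne_zero hdA hsc0, ?_⟩
    field_simp
    linear_combination -hd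
  obtain ⟨A', hA'⟩ := exists_gl (ρ⁻¹ • mvLin A) fun x y h => by
    have h' : ρ⁻¹ • mv A x = ρ⁻¹ • mv A y := by simpa using h
    exact mv_inj A (smul_right_injective _ (inv_ne_zero hρ0) h')
  obtain ⟨B', hB'⟩ := exists_gl (ρ • mvLin B) fun x y h => by
    have h' : ρ • mv B x = ρ • mv B y := by simpa using h
    exact mv_inj B (smul_right_injective _ hρ0 h')
  have hA'' : ∀ v, mv A' v = ρ⁻¹ • mv A v := fun v => by simpa using hA' v
  have hB'' : ∀ w, mv B' w = ρ • mv B w := fun w => by simpa using hB' w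
  have hAB' : ∀ v w, mv i (ten v w) = ten (mv A' v) (mv B' w) := fun v w => by
    rw [hAB, hA'', hB'', ten_smul_left, ten_smul_right, smul_smul, inv_mul_cancel₀ hρ0, one_smul]
  have hA2' : ∀ v, mv A' (mv A' v) = v := fun v => by
    rw [hA'', hA'', mv_smul, hsc, smul_smul, smul_smul, hρ]
    field_simp
    rw [one_smul]
  have hB2' : ∀ w, mv B' (mv B' w) = w := fun w => by
    obtain ⟨v, hv⟩ : ∃ v : α → F, v ≠ 0 := ⟨u, ne_zero_of_aniso H.h₁ H.two hm.1⟩
    refine ten_left_cancel hv ?_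
    conv_lhs => rw [← hA2' v]
    rw [← hAB', ← hAB', hii]
  -- the first map is an isometry
  obtain ⟨μ, hμ⟩ : ∃ μ : F, ∀ v v', pol q₁ (mv A' v) (mv A' v') = μ * pol q₁ v v' := by
    have hBq : q₂ (mv B' w₁) ≠ 0 := fun h => by
      have hk := Transvec.Orth.mem_isometry.1 (H.le hiM) (ten u w₁)
      rw [hAB', H.toCtx.q_ten, H.toCtx.q_ten, h, mul_zero, hw₁, mul_one] at hk
      exact mul_ne_zero H.two hm.1 hk.symm
    refine ⟨(q₂ (mv B' w₁))⁻¹, fun v v' => ?_⟩
    have hk := H.toCtx.iso hiM (ten v w₁) (ten v' w₁)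
    rw [hAB', hAB', H.hpol, H.hpol, Transvec.Orth.pol_self H.h₂, Transvec.Orth.pol_self H.h₂, hw₁, mul_one] at hk
    rw [eq_inv_mul_iff_mul_eq₀ hBq]
    exact mul_left_cancel₀ H.two (by linear_combination hk)
  have hμ1 : μ = 1 := by
    have hk := hμ u u
    have h1 := hμ (mv A' u) (mv A' u)
    rw [hA2', hk] at h1
    have hne : pol q₁ u u ≠ 0 := by rw [Transvec.Orth.pol_self H.h₁]; exact mul_ne_zero H.two hm.1
    have hμ2 : μ ^ 2 = 1 := mul_right_cancel₀ hne (by linear_combination -h1)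
    rcases sq_eq_one_iff.1 hμ2 with h | h
    · exact h
    exfalso
    subst h
    -- both eigenspaces would be totally singular
    have hsmall : ∀ s : F, s * s = 1 → Module.finrank F (LinearMap.ker (mvLin A' - s • LinearMap.id)) ≤ 1 := by
      intro s hs
      have hts : ∀ x ∈ LinearMap.ker (mvLin A' - s • LinearMap.id), ∀ y ∈ LinearMap.ker (mvLin A' - s • LinearMap.id),
          pol q₁ x y = 0 := by
        intro x hx y hy
        have kx : mv A' x = s • x := by
          have := LinearMap.mem_ker.1 hx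
          simpa [sub_eq_zero] using this
        have ky : mv A' y = s • y := by
          have := LinearMap.mem_ker.1 hy
          simpa [sub_eq_zero] using this
        have h := hμ x y
        rw [kx, ky, Transvec.Orth.pol_smul_left H.h₁, Transvec.Orth.pol_smul_right H.h₁, ← mul_assoc, hs, one_mul] at h
        exact (mul_eq_zero.1 (show (2 : F) * pol q₁ x y = 0 by linear_combination h)).resolve_left H.two
      have h := Transvec.Orth.finrank_totally_orth_le H.h₁ (Transvec.Orth.nondeg_top H.h₁)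
        (L := LinearMap.ker (mvLin A' - s • LinearMap.id)) le_top hts
      rw [finrank_top, Module.finrank_pi, H.hα3] at h
      omega
    have hadd := fix_add_neg (β := α) H.two hA2'
    have e1 := hsmall 1 (one_mul 1)
    have e2 := hsmall (-1) (by ring)
    rw [one_smul] at e1
    rw [show mvLin A' - (-1 : F) • LinearMap.id = mvLin A' + LinearMap.id from
      LinearMap.ext fun x => by simp] at e2
    rw [H.hα3] at hadd
    omega
  subst hμ1
  have hAI : A' ∈ isometryGroup F q₁ := Transvec.Orth.mem_isometry.2 fun v => mul_left_cancel₀ H.two (by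
    have h := hμ v v
    rw [Transvec.Orth.pol_self H.h₁, Transvec.Orth.pol_self H.h₁, one_mul] at h
    exact h)
  obtain ⟨a, b, c, s, t, r, hf, hsa, htb, hrc, hs, ht, hr⟩ := invol_frame H.h₁ H.two H.hα3 hAI hA2'
  have hfix := finrank_fixed H.h₁ H.two hf (g := i) (Ba := s • mvLin B') (Bb := t • mvLin B') (Bc := r • mvLin B')
    (fun w => by rw [hAB', hsa, LinearMap.smul_apply, Matrix.toLin'_apply, ten_smul_left, ten_smul_right])
    (fun w => by rw [hAB', htb, LinearMap.smul_apply, Matrix.toLin'_apply, ten_smul_left, ten_smul_right])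
    (fun w => by rw [hAB', hrc, LinearMap.smul_apply, Matrix.toLin'_apply, ten_smul_left, ten_smul_right])
  rw [hdim] at hfix
  have hsum := fix_add_neg H.two hB2'
  rw [H.hβ4] at hsum
  set P := Module.finrank F (LinearMap.ker (mvLin B' - LinearMap.id)) with hP
  set N := Module.finrank F (LinearMap.ker (mvLin B' + LinearMap.id)) with hN
  have hk1 : Module.finrank F (LinearMap.ker ((1 : F) • mvLin B' - LinearMap.id)) = P := by rw [one_smul]
  have hk2 : Module.finrank F (LinearMap.ker ((-1 : F) • mvLin B' - LinearMap.id)) = N := by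
    rw [hN, show (-1 : F) • mvLin B' - LinearMap.id = -(mvLin B' + LinearMap.id) from
      LinearMap.ext fun x => by simp; abel]
    congr 2 <;> (ext x; simp only [LinearMap.mem_ker, LinearMap.neg_apply, neg_eq_zero])
  have hBsign : ∀ (σ : F), (σ = 1 → N = 0) → (σ = -1 → P = 0) → (σ = 1 ∨ σ = -1) → ∀ w, mv B' w = σ • w := by
    intro σ h1 h2' hσ w
    rcases hσ with rfl | rfl
    · have h0 : mv B' ((2 : F)⁻¹ • (w - mv B' w)) + (2 : F)⁻¹ • (w - mv B' w) = 0 := by
        rw [mv_smul, mv_sub, hB2']; module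
      have hmem : (2 : F)⁻¹ • (w - mv B' w) ∈ LinearMap.ker (mvLin B' + LinearMap.id) :=
        LinearMap.mem_ker.2 (by rw [LinearMap.add_apply, LinearMap.id_apply, Matrix.toLin'_apply]; exact h0)
      rw [Submodule.finrank_eq_zero.1 (h1 rfl), Submodule.mem_bot, smul_eq_zero, or_iff_right (inv_ne_zero H.two),
        sub_eq_zero] at hmem
      rw [one_smul]; exact hmem.symm
    · have h0 : mv B' ((2 : F)⁻¹ • (w + mv B' w)) - (2 : F)⁻¹ • (w + mv B' w) = 0 := by
        rw [mv_smul, mv_add, hB2']; module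
      have hmem : (2 : F)⁻¹ • (w + mv B' w) ∈ LinearMap.ker (mvLin B' - LinearMap.id) :=
        LinearMap.mem_ker.2 (by rw [LinearMap.sub_apply, LinearMap.id_apply, Matrix.toLin'_apply]; exact h0)
      rw [Submodule.finrank_eq_zero.1 (h2' rfl), Submodule.mem_bot, smul_eq_zero, or_iff_right (inv_ne_zero H.two),
        add_eq_zero_iff_eq_neg] at hmem
      rw [neg_one_smul]
      conv_rhs => rw [hmem]
      exact (neg_neg _).symm
  have finish : ∀ {e f h' : α → F} {s' : F}, Frame q₁ e f h' → mv A' e = s' • e → mv A' f = -s' • f →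
      mv A' h' = -s' • h' → (∀ w, mv B' w = s' • w) → s' * s' = 1 → ∃ z, IsMirror q₁ i z := by
    intro e f h' s' hF he hf' hh hB hss
    refine ⟨e, hF.ha, fun v w => ?_⟩
    have hA'v : mv A' v = s' • ((pol q₁ v e / q₁ e) • e - v) := by
      conv_lhs => rw [hF.dec v, mv_add, mv_add, mv_smul, mv_smul, mv_smul, he, hf', hh]
      conv_rhs => arg 2; arg 2; rw [hF.dec v]
      have := H.two
      have := hF.ha
      match_scalars <;> field_simp <;> ring
    rw [hAB', hA'v, hB, ten_smul_left, ten_smul_right, smul_smul, hss, one_smul]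
  rcases hs with rfl | rfl <;> rcases ht with rfl | rfl <;> rcases hr with rfl | rfl <;>
    simp only [hk1, hk2] at hfix <;> (try (exfalso; omega))
  -- two plus signs
  · exact finish (hf.rot H.h₁ H.two |>.rot H.h₁ H.two) hrc (by rw [neg_neg]; exact hsa)
      (by rw [neg_neg]; exact htb) (hBsign (-1) (fun h => absurd h (fun h => H.two (by linear_combination -h)))
      (fun _ => by omega) (Or.inr rfl)) (by ring)
  · exact finish (hf.rot H.h₁ H.two) htb (by rw [neg_neg]; exact hrc)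
      (by rw [neg_neg]; exact hsa) (hBsign (-1) (fun h => absurd h (fun h => H.two (by linear_combination -h)))
      (fun _ => by omega) (Or.inr rfl)) (by ring)
  · exact finish hf hsa htb hrc (hBsign 1 (fun _ => by omega)
      (fun h => absurd h (fun h => H.two (by linear_combination h))) (Or.inl rfl)) (by ring)
  · exact finish hf hsa (by rw [neg_neg]; exact htb)
      (by rw [neg_neg]; exact hrc) (hBsign (-1) (fun h => absurd h (fun h => H.two (by linear_combination -h)))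
      (fun _ => by omega) (Or.inr rfl)) (by ring)
  · exact finish (hf.rot H.h₁ H.two) htb hrc hsa (hBsign 1 (fun _ => by omega)
      (fun h => absurd h (fun h => H.two (by linear_combination h))) (Or.inl rfl)) (by ring)
  · exact finish (hf.rot H.h₁ H.two |>.rot H.h₁ H.two) hrc hsa htb (hBsign 1 (fun _ => by omega)
      (fun h => absurd h (fun h => H.two (by linear_combination h))) (Or.inl rfl)) (by ring)

end Cfsg.Agent.OrthTensorMirror
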