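/-
Overgroups of the stabiliser of a product of a three-space and a minus four-space consist of Kronecker products.
-/
import Cfsg.Agent.Lib.OrthTensorMirror.Key

set_option autoImplicit false
set_option linter.unusedSectionVars false

namespace Cfsg.Agent.OrthTensorMirror

open scoped Matrix Kronecker
open Matrix Cfsg.Agent.Transvec Cfsg.Agent.TensorMax
open Cfsg.Agent.TensorMax.U (kr mv_kr_ten isKron_kr isKron_mul isKron_inv mv_kron_ten ext_ten_mv)
open Cfsg.Agent.Transvec.Orth (pol IsSiegel IsRefl)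

variable {α β : Type} [Fintype α] [DecidableEq α] [Fintype β] [DecidableEq β] {F : Type*} [Field F]
variable {Q : (α × β → F) → F} {q₁ : (α → F) → F} {q₂ : (β → F) → F}
variable {M : Subgroup (GL (α × β) F)}

theorem mirror_mem (H : Hyp Q q₁ q₂ M) {m : GL (α × β) F} {a : α → F} (h : IsMirror q₁ m a) : m ∈ M := by
  obtain ⟨m', hm'M, hm'⟩ := H.mirror a h.1
  rwa [mirror_unique H.h₁ H.two h hm']

theorem mirror_kron (H : Hyp Q q₁ q₂ M) [Fintype F] {m : GL (α × β) F} {a : α → F} (h : IsMirror q₁ m a) :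
    IsKron m := by
  obtain ⟨A, rfl⟩ := eq_kr_of_comm H (mirror_comm H h)
  exact isKron_kr A 1

/-- A member commuting with a mirror is a Kronecker product. -/
theorem kron_of_commute [Fintype F] (H : Hyp Q q₁ q₂ M) (hC : CentreTriv q₂ M) {g m : GL (α × β) F}
    {a : α → F} (hg : g ∈ M) (hm : IsMirror q₁ m a) (hc : g * m = m * g) : IsKron g :=
  (key H hC hg hm.1 hm.1 fun w => mirror_fixed H.h₁ H.two H.hα3 hm
    (by rw [← mv_mul, ← hc, mv_mul, mirror_self H.h₁ H.two hm])).1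

/-- A member conjugating a mirror to a mirror is a Kronecker product. -/
theorem kron_of_conj [Fintype F] (H : Hyp Q q₁ q₂ M) (hC : CentreTriv q₂ M) {g m n : GL (α × β) F}
    {a b : α → F} (hg : g ∈ M) (hm : IsMirror q₁ m a) (hn : IsMirror q₁ n b) (hc : n = g * m * g⁻¹) :
    IsKron g ∧ ∃ s : F, s ≠ 0 ∧ q₁ b = s ^ 2 * q₁ a :=
  key H hC hg hm.1 hn.1 fun w => mirror_fixed H.h₁ H.two H.hα3 hn
    (by rw [← mv_mul, hc, inv_mul_cancel_right, mv_mul, mirror_self H.h₁ H.two hm])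

/-- Commuting distinct mirrors multiply to a mirror. -/
theorem mirror_prod [Fintype F] (H : Hyp Q q₁ q₂ M) {m n : GL (α × β) F} {a b : α → F}
    (hm : IsMirror q₁ m a) (hn : IsMirror q₁ n b) (hc : m * n = n * m) (hne : m ≠ n) :
    ∃ c, IsMirror q₁ (m * n) c := by
  obtain ⟨c₀, d₀, w₁, w₂, -, -, -, hw₁, -⟩ := exists_pair_frame H.h₂ H.hβ4 H.minus H.two
  have hw0 : w₁ ≠ 0 := fun h => zero_ne_one (by rw [h, Transvec.Orth.q_zero H.h₂] at hw₁; exact hw₁)
  have hb0 := ne_zero_of_aniso H.h₁ H.two hn.1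
  have hab : pol q₁ a b = 0 := by
    by_contra h0
    refine hne ?_
    obtain ⟨w, hw⟩ := mirror_fixed H.h₁ H.two H.hα3 hn (x := mv m (ten b w₁))
      (by rw [← mv_mul, ← hc, mv_mul, mirror_self H.h₁ H.two hn])
    rw [hm.2] at hw
    have hba : pol q₁ b a ≠ 0 := by rwa [Transvec.Orth.pol_comm]
    have hw0' : ∀ v : β → F, pol q₂ w v = 0 → pol q₂ w₁ v = 0 ∨ ((pol q₁ b a / q₁ a) • a - b) = 0 := by
      intro v hv
      have := congrArg (pc q₂ v) hw
      rw [pc_ten H.toCtx, pc_ten H.toCtx, hv, zero_smul, smul_eq_zero] at this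
      exact this
    obtain ⟨θ, hθ⟩ := exists_dot_one hw0
    have h1 := congrArg (ctr θ) hw
    rw [ctr_ten, ctr_ten, hθ, one_smul] at h1
    obtain ⟨l, hl⟩ : ∃ l : F, a = l • b := ⟨q₁ a / pol q₁ b a * ((θ ⬝ᵥ w) + 1), by
      have e1 : (pol q₁ b a / q₁ a) • a = ((θ ⬝ᵥ w) + 1) • b := by
        linear_combination (norm := module) h1
      rw [← smul_smul, ← e1, smul_smul, show q₁ a / pol q₁ b a * (pol q₁ b a / q₁ a) = 1 by
        have := hm.1; field_simp, one_smul]⟩
    have hl0 : l ≠ 0 := fun h => hm.1 (by rw [hl, h, zero_smul, Transvec.Orth.q_zero H.h₁])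
    refine mirror_unique H.h₁ H.two hm ⟨hm.1, fun u w => ?_⟩
    rw [hn.2]
    congr 1
    rw [hl, Transvec.Orth.q_smul H.h₁, Transvec.Orth.pol_smul_right H.h₁, smul_smul]
    congr 2
    have := hn.1
    field_simp
  obtain ⟨c, hf⟩ := third_of_pair H hm.1 hn.1 hab
  have hba : pol q₁ b a = 0 := by rw [Transvec.Orth.pol_comm, hab]
  have hca : pol q₁ c a = 0 := by rw [Transvec.Orth.pol_comm, hf.hac]
  have hcb : pol q₁ c b = 0 := by rw [Transvec.Orth.pol_comm, hf.hbc]
  obtain ⟨k, hkM, hk⟩ := H.mirror c hf.hc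
  refine ⟨c, ?_⟩
  rw [show m * n = k from hf.ext H.h₁ H.two
    (fun w => by rw [mv_mul, mirror_perp H.h₁ H.two hn hab, mv_neg, mirror_self H.h₁ H.two hm,
      mirror_perp H.h₁ H.two hk hf.hac])
    (fun w => by rw [mv_mul, mirror_self H.h₁ H.two hn, mirror_perp H.h₁ H.two hm hba,
      mirror_perp H.h₁ H.two hk hf.hbc])
    (fun w => by rw [mv_mul, mirror_perp H.h₁ H.two hn hcb, mv_neg, mirror_perp H.h₁ H.two hm hca, neg_neg,
      mirror_self H.h₁ H.two hk])]
  exact hk

/-- Every member is a Kronecker product. -/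
theorem all_kron [Fintype F] (H : Hyp Q q₁ q₂ M) (hC : CentreTriv q₂ M) {g : GL (α × β) F} (hg : g ∈ M) :
    IsKron g := by
  classical
  by_contra hgk
  -- two vectors of different square classes
  obtain ⟨a, -, ha⟩ := Transvec.Orth.exists_anisotropic H.h₁ (Transvec.Orth.nondeg_top H.h₁) fun h => by
    have := congrArg (fun S : Submodule F (α → F) => Module.finrank F S) h
    simp only [finrank_top, finrank_bot, Module.finrank_pi, H.hα3] at this
    omega
  obtain ⟨ν, hν⟩ := FiniteField.exists_nonsquare (F := F) fun h => H.two (by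
    haveI := ringChar.of_eq h; exact CharTwo.two_eq_zero)
  obtain ⟨b, -, hbv⟩ := Transvec.Orth.exists_value_plane H.h₁ H.two (Transvec.Orth.nondeg_top H.h₁)
    (by rw [finrank_top, Module.finrank_pi, H.hα3]; omega) (ν * q₁ a)
  have hν0 : ν ≠ 0 := fun h => hν ⟨0, by rw [h, mul_zero]⟩
  have hb : q₁ b ≠ 0 := by rw [hbv]; exact mul_ne_zero hν0 ha
  obtain ⟨t, htM, ht⟩ := H.mirror a ha
  obtain ⟨mb, hmbM, hmb⟩ := H.mirror b hb
  set s := g * mb * g⁻¹ with hs
  have hsM : s ∈ M := M.mul_mem (M.mul_mem hg hmbM) (M.inv_mem hg)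
  have tt : t * t = 1 := mirror_sq H.h₁ H.two ht
  have ss : s * s = 1 := by
    rw [hs, show g * mb * g⁻¹ * (g * mb * g⁻¹) = g * (mb * mb) * g⁻¹ by group, mirror_sq H.h₁ H.two hmb,
      mul_one, mul_inv_cancel]
  have ti : t⁻¹ = t := inv_eq_of_mul_eq_one_right tt
  have si : s⁻¹ = s := inv_eq_of_mul_eq_one_right ss
  haveI : Finite (GL (α × β) F) := inferInstance
  set r := t * s with hr
  set n := orderOf r with hn
  have hrM : r ∈ M := M.mul_mem htM hsM
  have hrinv : ∀ j : ℕ, t * r ^ j * t = (r ^ j)⁻¹ := fun j => by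
    have h1 : t * r * t = r⁻¹ := by
      rw [hr, _root_.mul_inv_rev, ti, si, ← mul_assoc, tt, one_mul]
    rw [← inv_pow, ← h1]
    conv_rhs => rw [show t * r * t = t * r * t⁻¹ by rw [ti], conj_pow, ti]
  -- conjugating t by powers
  have hconj : ∀ j : ℕ, (r ^ j)⁻¹ * t * r ^ j = (r ^ (2 * j))⁻¹ * t := fun j => by
    have h2 : t * r ^ j = (r ^ j)⁻¹ * t := by
      rw [← hrinv j, mul_assoc, tt, mul_one]
    rw [show 2 * j = j + j by ring, pow_add, _root_.mul_inv_rev, mul_assoc, h2, ← mul_assoc]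
  rcases Nat.even_or_odd' n with ⟨k, hk | hk⟩
  swap
  · -- odd order: conjugate mirrors of different classes
    have hsj : s = (t * (r ^ k)⁻¹) * t * (t * (r ^ k)⁻¹)⁻¹ := by
      have h1 := hconj k
      have h2 : (r ^ (2 * k))⁻¹ = r := inv_eq_of_mul_eq_one_right (by
        rw [← pow_succ, ← hk, hn, pow_orderOf_eq_one])
      rw [h2] at h1
      rw [_root_.mul_inv_rev, inv_inv, ti, show t * (r ^ k)⁻¹ * t * (r ^ k * t) = t * ((r ^ k)⁻¹ * t * r ^ k) * t by
        group, h1, hr, show t * (t * s * t) * t = (t * t) * s * (t * t) by group, tt, one_mul, mul_one]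
    set x := t * (r ^ k)⁻¹ with hx
    have hxM : x ∈ M := M.mul_mem htM (M.inv_mem (M.pow_mem hrM k))
    have hc : mb = (g⁻¹ * x) * t * (g⁻¹ * x)⁻¹ := by
      rw [_root_.mul_inv_rev, inv_inv, show g⁻¹ * x * t * (x⁻¹ * g) = g⁻¹ * (x * t * x⁻¹) * g by group, ← hsj, hs]
      group
    obtain ⟨σ, hσ0, hσ⟩ := (kron_of_conj H hC (M.mul_mem (M.inv_mem hg) hxM) ht hmb hc).2
    exact hν ⟨σ, mul_right_cancel₀ ha (by rw [← hbv, hσ]; ring)⟩
  -- even order: the central involution
  have hkpos : 0 < k := by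
    have : 0 < n := orderOf_pos r
    omega
  set z := r ^ k with hz
  have hzM : z ∈ M := M.pow_mem hrM k
  have zz : z * z = 1 := by rw [hz, ← pow_add, show k + k = n by omega, hn, pow_orderOf_eq_one]
  have zi : z⁻¹ = z := inv_eq_of_mul_eq_one_right zz
  have hz1 : z ≠ 1 := fun h => by
    have := Nat.le_of_dvd hkpos (orderOf_dvd_of_pow_eq_one h)
    omega
  have tz : t * z = z * t := by
    calc t * z = t * z * t * t := by rw [mul_assoc, tt, mul_one]
      _ = z * t := by rw [hz, hrinv k, ← hz, zi]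
  have sz : s * z = z * s := by
    have h1 : s = t * r := by rw [hr, ← mul_assoc, tt, one_mul]
    rw [h1, mul_assoc, show r * z = z * r by rw [hz, ← pow_succ', ← pow_succ], ← mul_assoc, tz, mul_assoc]
  have hzk : IsKron z := kron_of_commute H hC hzM ht tz.symm
  rcases Nat.even_or_odd' k with ⟨j, hj | hj⟩
  · -- z t is conjugate to t
    have hzt : z * t = (r ^ j)⁻¹ * t * ((r ^ j)⁻¹)⁻¹ := by rw [inv_inv, hconj j, ← hj, ← hz, zi]
    obtain ⟨c, hc⟩ := mirror_of_kron H (M.inv_mem (M.pow_mem hrM j)) ht hzt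
      (isKron_mul hzk (mirror_kron H ht))
    have hne : z * t ≠ t := fun h => hz1 (mul_eq_right.1 h)
    obtain ⟨d, hd⟩ := mirror_prod H hc ht (by rw [mul_assoc, tt, mul_one, ← mul_assoc, tz, mul_assoc, tt, mul_one]) hne
    rw [mul_assoc, tt, mul_one] at hd
    have hsk : IsKron s := kron_of_commute H hC hsM hd sz
    obtain ⟨e, he⟩ := mirror_of_kron H hg hmb hs hsk
    exact hgk (kron_of_conj H hC hg hmb he hs).1
  · -- z s is conjugate to t
    set h := r ^ j with hh
    have hzs : s * z = (t * h⁻¹) * t * (t * h⁻¹)⁻¹ := by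
      have h1 := hconj j
      have h2 : (r ^ (2 * j))⁻¹ = z * r := inv_eq_of_mul_eq_one_right (by
        rw [← mul_assoc, hz, ← pow_add, ← pow_succ, show 2 * j + k + 1 = n by omega, hn, pow_orderOf_eq_one])
      rw [← hh, h2] at h1
      rw [_root_.mul_inv_rev, inv_inv, ti, show t * h⁻¹ * t * (h * t) = t * (h⁻¹ * t * h) * t by group, h1,
        show t * (z * r * t) * t = t * z * r * (t * t) by group, tt, mul_one, tz, hr,
        show z * t * (t * s) = z * (t * t) * s by group, tt, mul_one, sz]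
    set y := g⁻¹ * z * g with hy
    have hyM : y ∈ M := M.mul_mem (M.mul_mem (M.inv_mem hg) hzM) hg
    have yc : y * mb = mb * y := by
      have hmb' : mb = g⁻¹ * s * g := by rw [hs]; group
      rw [hy, hmb', show g⁻¹ * z * g * (g⁻¹ * s * g) = g⁻¹ * (z * s) * g by group, ← sz]
      group
    have hyk : IsKron y := kron_of_commute H hC hyM hmb yc
    have hmy : mb * y = (g⁻¹ * (t * h⁻¹)) * t * (g⁻¹ * (t * h⁻¹))⁻¹ := by
      rw [_root_.mul_inv_rev (g⁻¹), inv_inv,
        show g⁻¹ * (t * h⁻¹) * t * ((t * h⁻¹)⁻¹ * g) = g⁻¹ * ((t * h⁻¹) * t * (t * h⁻¹)⁻¹) * g by group, ← hzs,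
        hy, hs]
      group
    obtain ⟨c, hc⟩ := mirror_of_kron H (M.mul_mem (M.inv_mem hg) (M.mul_mem htM (M.inv_mem (M.pow_mem hrM j))))
      ht hmy (isKron_mul (mirror_kron H hmb) hyk)
    have mm := mirror_sq H.h₁ H.two hmb
    have hne : mb * y ≠ mb := fun h' => hz1 (by
      have hy1 : y = 1 := mul_eq_left.1 h'
      rw [show z = g * y * g⁻¹ by rw [hy]; group, hy1, mul_one, mul_inv_cancel])
    obtain ⟨d, hd⟩ := mirror_prod H hmb hc (by rw [← mul_assoc, mm, one_mul, mul_assoc, yc, ← mul_assoc, mm, one_mul])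
      hne.symm
    rw [← mul_assoc, mm, one_mul] at hd
    have hzc : z = g * y * g⁻¹ := by rw [hy]; group
    obtain ⟨e, he⟩ := mirror_of_kron H hg hd hzc hzk
    exact hgk (kron_of_conj H hC hg hd he hzc).1

end Cfsg.Agent.OrthTensorMirror
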