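/-
Spinor values: the negated reflections of the three-space lie in the commutator group of the product space, the
negative of the identity does not.
-/
import Cfsg.Agent.Lib.OrthTensorMirror.Basic

set_option autoImplicit false
set_option linter.unusedSectionVars false

namespace Cfsg.Agent.OrthTensorMirror

open scoped Matrix Kronecker
open Matrix Cfsg.Agent.Transvec Cfsg.Agent.TensorMax
open Cfsg.Agent.TensorMax.U (kr mv_kr_ten isKron_kr mv_kron_ten ext_ten_mv)
open Cfsg.Agent.Transvec.Orth (pol IsSiegel IsRefl)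

variable {α β : Type} [Fintype α] [DecidableEq α] [Fintype β] [DecidableEq β] {F : Type*} [Field F]
variable {Q : (α × β → F) → F} {q₁ : (α → F) → F} {q₂ : (β → F) → F}

/-- Mirrors lie in the commutator group, the negative of the identity does not. -/
theorem mirrors_mem [Fintype F] (hQ : Geo.IsNondegenerateQuadraticForm Q)
    (h₁ : Geo.IsNondegenerateQuadraticForm q₁) (h₂ : Geo.IsNondegenerateQuadraticForm q₂) (h2 : (2 : F) ≠ 0)
    (hpol : ∀ u w v z, pol Q (ten u w) (ten v z) = pol q₁ u v * pol q₂ w z)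
    (hα : Fintype.card α = 3) (hβ : Fintype.card β = 4)
    (hmin : ∀ U : Submodule F (β → F), (∀ x ∈ U, q₂ x = 0) → Module.finrank F U ≤ 1) :
    (∀ a, q₁ a ≠ 0 → ∃ m ∈ Geo.omegaGL Q, IsMirror q₁ m a) ∧
      ∀ g ∈ Geo.omegaGL Q, ∃ x, mv g x ≠ -x := by
  classical
  obtain ⟨f, hfo, hfn, hns⟩ := exists_orth_frame h₂ hβ hmin h2
  have hcard : 2 ≤ Fintype.card (α × β) := by rw [Fintype.card_prod, hα, hβ]; norm_num
  have heven : Even (Fintype.card (α × β)) := by rw [Fintype.card_prod, hα, hβ]; exact ⟨6, rfl⟩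
  have hq : Fintype.card F ≠ 2 ∨ Fintype.card (α × β) ≠ 4 := Or.inr (by rw [Fintype.card_prod, hα, hβ]; norm_num)
  obtain ⟨χ, hker, -, hχ⟩ := Cfsg.Agent.Orth.exists_matrix_spinor (OrthEvenMax.qMap hQ)
    (OrthEvenMax.qMap_nondeg hQ) hcard hq
  have hq_ten : ∀ u w, Q (ten u w) = 2 * q₁ u * q₂ w := fun u w => mul_left_cancel₀ h2 (by
    rw [← Transvec.Orth.pol_self hQ, hpol, Transvec.Orth.pol_self h₁, Transvec.Orth.pol_self h₂]; ring)
  set d := ∏ j, Cfsg.Agent.Orth.sqc F (q₂ (f j)) with hd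
  have hprodne : ∏ j, q₂ (f j) ≠ 0 := Finset.prod_ne_zero_iff.2 fun j _ => hfn j
  have hsqcprod : ∀ {κ : Type} [Fintype κ] (x : κ → F), (∀ i, x i ≠ 0) →
      Cfsg.Agent.Orth.sqc F (∏ i, x i) = ∏ i, Cfsg.Agent.Orth.sqc F (x i) := by
    intro κ _ x hx
    induction (Finset.univ : Finset κ) using Finset.induction_on with
    | empty => rw [Finset.prod_empty, Finset.prod_empty, Cfsg.Agent.Orth.sqc_one]
    | insert i T hi ih =>
      rw [Finset.prod_insert hi, Finset.prod_insert hi,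
        Cfsg.Agent.Orth.sqc_mul (hx i) (Finset.prod_ne_zero_iff.2 fun j _ => hx j), ih]
  have hdd : d * d = 1 := by
    rw [hd, ← hsqcprod _ hfn]; exact Cfsg.Agent.Orth.sqc_mul_self hprodne
  have hd1 : d ≠ 1 := fun h => hns ((Cfsg.Agent.Orth.sqc_eq_one_iff hprodne).1 (by rw [hsqcprod _ hfn]; exact h))
  -- a line of products
  have hline : ∀ a, q₁ a ≠ 0 → (∏ j, Cfsg.Agent.Orth.sqc F (Q (ten a (f j)))) = d := fun a ha => by
    have h4 : (Cfsg.Agent.Orth.sqc F (2 * q₁ a)) ^ 4 = 1 := by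
      have := Cfsg.Agent.Orth.sqc_mul_self (mul_ne_zero h2 ha)
      rw [show 4 = 2 * 2 by norm_num, pow_mul, pow_two (Cfsg.Agent.Orth.sqc F (2 * q₁ a)), this, one_pow]
    calc (∏ j, Cfsg.Agent.Orth.sqc F (Q (ten a (f j))))
        = ∏ j, Cfsg.Agent.Orth.sqc F (2 * q₁ a) * Cfsg.Agent.Orth.sqc F (q₂ (f j)) :=
          Finset.prod_congr rfl fun j _ => by
            rw [hq_ten, Cfsg.Agent.Orth.sqc_mul (mul_ne_zero h2 ha) (hfn j)]
      _ = d := by
          rw [Finset.prod_mul_distrib, Finset.prod_const, Finset.card_univ, Fintype.card_fin, h4, one_mul, hd]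
  -- the negative of the identity
  obtain ⟨N, hN⟩ : ∃ N : isometryGroup F ⇑(OrthEvenMax.qMap hQ),
      ((N : GL (α × β) F) : Matrix (α × β) (α × β) F) = -1 :=
    ⟨⟨-1, Transvec.Orth.mem_isometry.2 fun x => by
      show Q ((↑(-1 : GL (α × β) F) : Matrix (α × β) (α × β) F) *ᵥ x) = Q x
      rw [Units.val_neg, Units.val_one, Matrix.neg_mulVec, Matrix.one_mulVec, Transvec.Orth.q_neg hQ]⟩, rfl⟩
  obtain ⟨a₀, -, ha₀⟩ := Transvec.Orth.exists_anisotropic h₁ (Transvec.Orth.nondeg_top h₁) fun h => by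
    have := congrArg (fun S : Submodule F (α → F) => Module.finrank F S) h
    simp only [finrank_top, finrank_bot, Module.finrank_pi, hα] at this
    omega
  obtain ⟨b₀, c₀, hF⟩ := exists_frame h₁ h2 hα ha₀
  let e : Fin 3 × Fin 4 → (α × β → F) := fun p => ten (![a₀, b₀, c₀] p.1) (f p.2)
  have hen : ∀ i : Fin 3, q₁ (![a₀, b₀, c₀] i) ≠ 0 := fun i => by
    fin_cases i
    exacts [hF.ha, hF.hb, hF.hc]
  have heo : ∀ i j : Fin 3, i ≠ j → pol q₁ (![a₀, b₀, c₀] i) (![a₀, b₀, c₀] j) = 0 := fun i j hij => by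
    have h1 : pol q₁ b₀ a₀ = 0 := by rw [Transvec.Orth.pol_comm, hF.hab]
    have h3 : pol q₁ c₀ a₀ = 0 := by rw [Transvec.Orth.pol_comm, hF.hac]
    have h4 : pol q₁ c₀ b₀ = 0 := by rw [Transvec.Orth.pol_comm, hF.hbc]
    fin_cases i <;> fin_cases j <;> simp_all [hF.hab, hF.hac, hF.hbc]
  have hN2 : (χ N).2 = d := by
    have h := Cfsg.Agent.Orth.spinor_neg_one (OrthEvenMax.qMap hQ) (OrthEvenMax.qMap_nondeg hQ) h2 χ hχ e
      (fun i j hij => by
        show pol Q _ _ = 0
        rw [hpol]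
        by_cases h : i.1 = j.1
        · rw [hfo i.2 j.2 fun h' => hij (Prod.ext h h'), mul_zero]
        · rw [heo _ _ h, zero_mul])
      (fun i => by
        show Q _ ≠ 0
        rw [hq_ten]; exact mul_ne_zero (mul_ne_zero h2 (hen _)) (hfn _))
      (by rw [Fintype.card_prod, Fintype.card_prod, hα, hβ, Fintype.card_fin, Fintype.card_fin]) hN
    rw [h, hsqcprod _ (fun i => by
      show Q _ ≠ 0
      rw [hq_ten]; exact mul_ne_zero (mul_ne_zero h2 (hen _)) (hfn _)), Fintype.prod_prod_type]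
    show (∏ i : Fin 3, ∏ j : Fin 4, Cfsg.Agent.Orth.sqc F (Q (ten (![a₀, b₀, c₀] i) (f j)))) = d
    rw [Finset.prod_congr rfl fun i _ => hline _ (hen i), Finset.prod_const, Finset.card_univ, Fintype.card_fin,
      show 3 = 2 + 1 from rfl, pow_succ, pow_two, hdd, one_mul]
  have hN1 : (χ N).1 = 1 := by
    have h := Cfsg.Agent.Orth.det_eq_sgn (OrthEvenMax.qMap hQ) (OrthEvenMax.qMap_nondeg hQ) hq χ hχ N
    rw [hN, Matrix.det_neg, Matrix.det_one, mul_one, heven.neg_one_pow] at h
    rcases (show ∀ x : ZMod 2, x = 0 ∨ x = 1 by decide) (Multiplicative.toAdd (χ N).1) with he | he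
    · exact Multiplicative.toAdd.injective he
    · rw [he, Cfsg.Agent.Orth.sgn, if_neg one_ne_zero] at h
      exact absurd (by linear_combination h) h2
  have hNv : ∀ y, mv (N : GL (α × β) F) y = -y := fun y => by
    show ((N : GL (α × β) F) : Matrix (α × β) (α × β) F) *ᵥ y = -y
    rw [hN, Matrix.neg_mulVec, Matrix.one_mulVec]
  refine ⟨fun a ha => ?_, fun g hg => ?_⟩
  swap
  · by_contra hcon
    push Not at hcon
    obtain ⟨x, hx, rfl⟩ := hg
    have hxN : (x : isometryGroup F ⇑(OrthEvenMax.qMap hQ)) = N := Subtype.ext (ext_mv fun y => by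
      rw [hNv]; exact hcon y)
    have h : χ N = 1 := by
      rw [← hxN]
      exact MonoidHom.mem_ker.1 (hker.symm ▸ hx)
    exact hd1 (by rw [← hN2, h]; rfl)
  have hex : ∀ T : Finset (Fin 4), ∃ x : isometryGroup F ⇑(OrthEvenMax.qMap hQ),
      χ x = ∏ j ∈ T, Cfsg.Agent.Orth.reflVal (OrthEvenMax.qMap hQ) (ten a (f j)) ∧
      ∀ y, mv (x : GL (α × β) F) y =
        y - ∑ j ∈ T, (pol Q y (ten a (f j)) / Q (ten a (f j))) • ten a (f j) := by
    intro T
    induction T using Finset.induction_on with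
    | empty => exact ⟨1, by rw [map_one, Finset.prod_empty], fun y => by
        rw [Subgroup.coe_one, mv_one, Finset.sum_empty, sub_zero]⟩
    | insert j T hj ih =>
      obtain ⟨x, hx, hxy⟩ := ih
      have hQi : Q (ten a (f j)) ≠ 0 := by
        rw [hq_ten]; exact mul_ne_zero (mul_ne_zero h2 ha) (hfn j)
      obtain ⟨r, hr, hr'⟩ := Transvec.Orth.exists_refl hQ hQi
      obtain ⟨r', hr'e⟩ : ∃ r' : isometryGroup F ⇑(OrthEvenMax.qMap hQ), (r' : GL (α × β) F) = r :=
        ⟨⟨r, hr⟩, rfl⟩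
      refine ⟨r' * x, ?_, fun y => ?_⟩
      · rw [map_mul, hx, Finset.prod_insert hj]
        congr 1
        refine hχ r' _ hQi (Matrix.ext_iff_mulVec.2 fun y => ?_)
        rw [Cfsg.Agent.Orth.reflectionMatrix_mulVec, hr'e]
        exact hr'.2 y
      · rw [Subgroup.coe_mul, mv_mul, hr'e, hxy, hr'.2, Finset.sum_insert hj]
        have h0 : pol Q (∑ i ∈ T, (pol Q y (ten a (f i)) / Q (ten a (f i))) • ten a (f i)) (ten a (f j)) = 0 := by
          rw [← Transvec.Orth.formQ_apply hQ, map_sum]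
          refine Finset.sum_eq_zero fun i hi => ?_
          rw [map_smul, Transvec.Orth.formQ_apply, hpol, hfo i j (fun h => hj (h ▸ hi)), mul_zero, smul_zero]
        rw [Transvec.Orth.pol_sub_left hQ, h0, sub_zero]
        abel
  obtain ⟨x, hx, hxy⟩ := hex Finset.univ
  have hval : χ x = (1, d) := by
    rw [hx]
    refine Prod.ext ?_ ?_
    · rw [Prod.fst_prod]
      show (∏ _j : Fin 4, Multiplicative.ofAdd (1 : ZMod 2)) = 1
      rw [Fin.prod_univ_four]
      decide
    · rw [Prod.snd_prod]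
      exact hline a ha
  have hli : LinearIndependent F f := by
    rw [Fintype.linearIndependent_iff]
    intro t ht i
    have h := congrArg (Transvec.Orth.formQ h₂ (f i)) ht
    rw [map_sum, map_zero, Finset.sum_eq_single i (fun j _ hji => by
      rw [map_smul, Transvec.Orth.formQ_apply, hfo j i hji, smul_zero]) (fun h => absurd (Finset.mem_univ i) h),
      map_smul, Transvec.Orth.formQ_apply, Transvec.Orth.pol_self h₂, smul_eq_mul] at h
    exact (mul_eq_zero.1 h).resolve_right (mul_ne_zero h2 (hfn i))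
  have hspan : Submodule.span F (Set.range f) = ⊤ := hli.span_eq_top_of_card_eq_finrank' (by
    rw [Fintype.card_fin, Module.finrank_pi, hβ])
  have hsum : ∀ w, ∑ j, (pol q₂ w (f j) / (2 * q₂ (f j))) • f j = w := by
    intro w
    refine sub_eq_zero.1 (eq_zero_of_orth h₂ fun v => ?_)
    have hv : v ∈ Submodule.span F (Set.range f) := hspan ▸ Submodule.mem_top
    induction hv using Submodule.span_induction with
    | mem v hv =>
      obtain ⟨i, rfl⟩ := hv
      rw [Transvec.Orth.pol_sub_left h₂, ← Transvec.Orth.formQ_apply h₂, map_sum, Finset.sum_eq_single i]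
      · rw [map_smul, Transvec.Orth.formQ_apply, Transvec.Orth.pol_self h₂, smul_eq_mul,
          div_mul_cancel₀ _ (mul_ne_zero h2 (hfn i)), sub_self]
      · intro j _ hji
        rw [map_smul, Transvec.Orth.formQ_apply, hfo j i hji, smul_zero]
      · exact fun h => absurd (Finset.mem_univ i) h
    | zero => exact Transvec.Orth.pol_zero_right h₂ _
    | add v v' _ _ h h' => rw [Transvec.Orth.pol_add_right h₂, h, h', add_zero]
    | smul k v _ h => rw [Transvec.Orth.pol_smul_right h₂, h, mul_zero]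
  have hxe : ∀ u w, mv (x : GL (α × β) F) (ten u w) = ten (u - (pol q₁ u a / q₁ a) • a) w := by
    intro u w
    rw [hxy]
    have e1 : ∀ j, (pol Q (ten u w) (ten a (f j)) / Q (ten a (f j))) • ten a (f j) =
        lam ((pol q₁ u a / q₁ a) • a) ((pol q₂ w (f j) / (2 * q₂ (f j))) • f j) := fun j => by
      rw [hpol, hq_ten, lam_apply, ten_smul_left, ten_smul_right, smul_smul]
      congr 1
      have := hfn j
      field_simp
    rw [Finset.sum_congr rfl fun j _ => e1 j, ← map_sum, hsum, lam_apply, ten_sub_left]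
  refine ⟨(N * x : isometryGroup F ⇑(OrthEvenMax.qMap hQ)), ⟨N * x, ?_, rfl⟩, ha, fun u w => ?_⟩
  · show N * x ∈ Omega F ⇑(OrthEvenMax.qMap hQ)
    rw [← hker, MonoidHom.mem_ker, map_mul, hval]
    exact Prod.ext (by show (χ N).1 * 1 = 1; rw [hN1, mul_one]) (by show (χ N).2 * d = 1; rw [hN2, hdd])
  · rw [Subgroup.coe_mul, mv_mul, hxe, hNv, ← ten_neg_left, neg_sub]

end Cfsg.Agent.OrthTensorMirror
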