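/-
Stabilisers of decompositions of a twelve-space into a three-space and a minus four-space are maximal.
-/
import Cfsg.Agent.Lib.OrthTensorMirror.Endgame
import Cfsg.Agent.Lib.OrthTensorMirror.Centre
import Cfsg.Agent.Lib.OrthTensorMirror.Gen
import Cfsg.Agent.Lib.OrthTensorMirror.Spin
import Cfsg.Agent.Lib.OrthTensor.Main

set_option autoImplicit false
set_option linter.unusedSectionVars false

namespace Cfsg.Agent.OrthTensorMirror

open scoped Matrix Kronecker
open Matrix Cfsg.Agent.Transvec Cfsg.Agent.TensorMax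
open Cfsg.Agent.TensorMax.U (kr mv_kr_ten isKron_kr mv_kron_ten ext_ten_mv)
open Cfsg.Agent.Transvec.Orth (pol IsSiegel IsRefl)

variable {F : Type*} [Field F]
variable {Q : (Fin 3 × Fin 4 → F) → F} {q₁ : (Fin 3 → F) → F} {q₂ : (Fin 4 → F) → F}

/-- The Kronecker products in the commutator subgroup form a maximal subgroup. -/
theorem maximal_std [Fintype F] (hQ : Geo.IsNondegenerateQuadraticForm Q)
    (h₁ : Geo.IsNondegenerateQuadraticForm q₁) (h₂ : Geo.IsNondegenerateQuadraticForm q₂) (h2 : (2 : F) ≠ 0)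
    (hpol : ∀ u w v z, pol Q (ten u w) (ten v z) = pol q₁ u v * pol q₂ w z) (h5 : 5 ≤ Fintype.card F)
    (hmin : ∀ U : Submodule F (Fin 4 → F), (∀ x ∈ U, q₂ x = 0) → Module.finrank F U ≤ 1)
    {K : Subgroup (GL (Fin 3 × Fin 4) F)} (hK : ∀ g, g ∈ K ↔ IsKron g) :
    Geo.IsMaximalIn (Geo.omegaGL Q) (K ⊓ Geo.omegaGL Q) := by
  have hcard : 11 ≤ Fintype.card (Fin 3 × Fin 4) := by simp
  have hα : 3 ≤ Fintype.card (Fin 3) := by simp
  have hβ : 3 ≤ Fintype.card (Fin 4) := by simp
  have hkr : ∀ A ∈ isometryGroup F q₁, ∀ B ∈ isometryGroup F q₂, kr A B ∈ isometryGroup F Q :=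
    fun A hA B hB => OrthTensor.kr_isometry hQ h₁ h₂ h2 hpol hA hB
  have C₀ : Ctx Q q₁ q₂ (isometryGroup F Q) :=
    ⟨hQ, h₁, h₂, h2, hpol, hα, hβ, le_rfl,
      fun _ hA _ => hkr _ hA _ (Subgroup.one_mem _), fun _ hB _ => hkr _ (Subgroup.one_mem _) _ hB⟩
  refine ⟨lt_of_le_of_ne inf_le_right fun heq => ?_, fun M hM1 hM2 => ?_⟩
  · obtain ⟨e, -, he0, he⟩ := Transvec.Orth.exists_singular h₁ (X := ⊤)
      (by rw [finrank_top, Module.finrank_pi]; exact hα)
    obtain ⟨c, -, hc0, hc⟩ := Transvec.Orth.exists_singular h₂ (X := ⊤)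
      (by rw [finrank_top, Module.finrank_pi]; exact hβ)
    obtain ⟨a, ha', hea⟩ := exists_pair h₁ he0 he
    obtain ⟨hXn, hXf, hXm⟩ := pair_perp h₁ he ha' hea
    obtain ⟨y, hyX, hyq⟩ := Transvec.Orth.exists_anisotropic h₁ hXn fun h => by rw [h, finrank_bot] at hXf; omega
    obtain ⟨hye, hya⟩ := (hXm y).1 hyX
    obtain ⟨d, hd, hcd⟩ := exists_pair h₂ hc0 hc
    have hdc : pol q₂ d c = 1 := by rw [Transvec.Orth.pol_comm, hcd]
    have hperp : pol Q (ten e c) (ten y c) = 0 := by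
      rw [hpol, Transvec.Orth.pol_comm e y, hye, zero_mul]
    obtain ⟨g, hg, hgs⟩ := Transvec.Orth.exists_siegel hQ (C₀.q_iso_left he c) hperp
    have hgO : g ∈ Geo.omegaGL Q := Transvec.Orth.siegel_mem_omega hQ (le_trans (by norm_num) hcard) (C₀.q_iso_left he c) hperp hgs
    rw [← heq] at hgO
    obtain ⟨A, B, hAB⟩ := mv_kron_ten ((hK g).1 hgO.1)
    have hgten : ∀ u w, mv g (ten u w) = ten u w + ten (pol q₂ w c • (pol q₁ u e • y - pol q₁ u y • e)) c := by
      intro u w
      rw [hgs, hpol, hpol, C₀.q_iso_right hc]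
      funext p
      simp [ten]
      ring
    obtain ⟨θ, hθ⟩ := exists_dot_one hc0
    have hA : ∀ u, u = (θ ⬝ᵥ mv B c) • mv A u := fun u => by
      have e1 := congrArg (ctr θ) (hAB u c)
      rw [hgten, pol_self_zero h₂ hc, zero_smul, ten_zero_left, add_zero, ctr_ten, ctr_ten, hθ, one_smul] at e1
      exact e1
    have hd0 : d ∉ Submodule.span F {c} := fun hm => by
      obtain ⟨t, rfl⟩ := Submodule.mem_span_singleton.1 hm
      rw [Transvec.Orth.pol_smul_right h₂, pol_self_zero h₂ hc, mul_zero] at hcd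
      exact zero_ne_one hcd
    have hcd0 : c ∉ Submodule.span F {d} := fun hm => by
      obtain ⟨t, ht⟩ := Submodule.mem_span_singleton.1 hm
      exact hd0 (Submodule.mem_span_singleton.2 ⟨t⁻¹, by
        rw [← ht, smul_smul, inv_mul_cancel₀ (fun h => hc0 (by rw [← ht, h, zero_smul])), one_smul]⟩)
    obtain ⟨φ, hφ, hφ'⟩ := exists_dot hcd0
    have key := congrArg (ctr φ) (hAB a d)
    rw [hgten, hdc, one_smul, map_add, ctr_ten, ctr_ten, ctr_ten, hφ d (Submodule.mem_span_singleton_self d), hφ',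
      zero_smul, zero_add, one_smul, Transvec.Orth.pol_comm a e, hea, one_smul, Transvec.Orth.pol_comm a y, hya, zero_smul,
      sub_zero] at key
    have key2 := congrArg (fun v => pol q₁ v y) key
    have ha2 := congrArg (fun v => pol q₁ v y) (hA a)
    simp only [Transvec.Orth.pol_smul_left h₁] at key2 ha2
    rw [Transvec.Orth.pol_comm a y, hya] at ha2
    rcases mul_eq_zero.1 ha2.symm with h | h
    · have := hA y
      rw [h, zero_smul] at this
      exact hyq (by rw [this, Transvec.Orth.q_zero h₁])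
    · rw [h, mul_zero, Transvec.Orth.pol_self h₁] at key2
      exact mul_ne_zero h2 hyq key2
  · have hMI : M ≤ isometryGroup F Q := hM2.trans (Transvec.Orth.omega_le_isometry hQ)
    have hcard2 : 2 ≤ Fintype.card (Fin 3 × Fin 4) := le_trans (by norm_num) hcard
    have hodd : ∀ A ∈ isometryGroup F q₁, ∀ B ∈ isometryGroup F q₂, Odd (orderOf A) → Odd (orderOf B) →
        kr A B ∈ M := fun A hA B hB hAo hBo => by
      refine hM1 ⟨(hK _).2 (isKron_kr _ _), OrthTensor.omega_of_odd hQ h2 hcard2 (hkr A hA B hB) ?_⟩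
      refine (Odd.mul hAo hBo).of_dvd_nat (orderOf_dvd_of_pow_eq_one ?_)
      rw [OrthTensor.kr_pow, orderOf_dvd_iff_pow_eq_one.1 (dvd_mul_right _ _),
        orderOf_dvd_iff_pow_eq_one.1 (dvd_mul_left _ _)]
      exact kr_one
    have C : Ctx Q q₁ q₂ M := ⟨hQ, h₁, h₂, h2, hpol, hα, hβ, hMI,
      fun A hA hAo => hodd A hA 1 (Subgroup.one_mem _) hAo (by rw [orderOf_one]; exact odd_one),
      fun B hB hBo => hodd 1 (Subgroup.one_mem _) B hB (by rw [orderOf_one]; exact odd_one) hBo⟩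
    by_cases hC : CentreTriv q₂ M
    · have hB : ∀ B ∈ Geo.omegaGL q₂, kr 1 B ∈ M := fun B hB => by
        refine hM1 ⟨(hK _).2 (isKron_kr _ _), ?_⟩
        let φ : GL (Fin 4) F →* GL (Fin 3 × Fin 4) F :=
          MonoidHom.mk' (fun B => kr 1 B) fun B B' => by rw [kr_mul, one_mul]
        have hle : (isometryGroup F q₂).map φ ≤ isometryGroup F Q := by
          rintro _ ⟨B, hB, rfl⟩
          exact hkr 1 (Subgroup.one_mem _) B hB
        have h : φ B ∈ (⁅isometryGroup F q₂, isometryGroup F q₂⁆ : Subgroup _).map φ :=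
          Subgroup.mem_map_of_mem φ (by rw [← omegaGL_eq_comm]; exact hB)
        rw [Subgroup.map_commutator] at h
        rw [omegaGL_eq_comm]
        exact Subgroup.commutator_mono hle hle h
      obtain ⟨hmO, hneg⟩ := mirrors_mem hQ h₁ h₂ h2 hpol (Fintype.card_fin 3) (Fintype.card_fin 4) hmin
      have hmir : ∀ a, q₁ a ≠ 0 → ∃ m ∈ M, IsMirror q₁ m a := fun a ha => by
        obtain ⟨m, hm, hma⟩ := hmO a ha
        obtain ⟨r, -, hr⟩ := Transvec.Orth.exists_refl h₁ ha
        have hmK : m = kr (-r) 1 := ext_ten_mv fun u w => by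
          rw [hma.2, mv_kr_ten, mv_one]
          congr 1
          show _ = (↑(-r) : Matrix (Fin 3) (Fin 3) F) *ᵥ u
          rw [Units.val_neg, Matrix.neg_mulVec, show (r : Matrix (Fin 3) (Fin 3) F) *ᵥ u = _ from hr.2 u, neg_sub]
        exact ⟨m, hM1 ⟨(hK m).2 (hmK ▸ isKron_kr _ _), hm⟩, hma⟩
      have H : Hyp Q q₁ q₂ M :=
        { toCtx := C
          hα3 := Fintype.card_fin 3
          hβ4 := Fintype.card_fin 4
          minus := hmin
          q5 := by rw [Nat.card_eq_fintype_card]; exact h5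
          memB := hB
          mirror := hmir
          negnot := fun g hg => hneg g (hM2 hg) }
      exact Or.inl (le_antisymm (fun g hg => ⟨(hK g).2 (all_kron H hC hg), hM2 hg⟩) hM1)
    · exact Or.inr (eq_omega_of_root hcard (Or.inl (by simp)) C (root_of_centre C hC) hM2)

/-- The stabiliser of a decomposition into a three-space and a minus four-space is maximal. -/
theorem orth_tensor_maximal [Fintype F] {ι : Type} [Fintype ι] [DecidableEq ι] (h2 : (2 : F) ≠ 0)
    (Q : (ι → F) → F) (hQ : Geo.IsNondegenerateQuadraticForm Q) (h5 : 5 ≤ Fintype.card F)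
    (e : ι ≃ Fin 3 × Fin 4) (P : GL ι F) (f₁ : (Fin 3 → F) → (Fin 3 → F) → F)
    (f₂ : (Fin 4 → F) → (Fin 4 → F) → F) (hf₁ : Geo.IsSymmetricForm f₁) (hf₂ : Geo.IsSymmetricForm f₂)
    (hminus : ¬ Geo.IsPlusTypeOn (fun v : Fin 4 → F => f₂ v v) ⊤)
    (hT : Geo.IsTensorFormStructure id (QuadraticMap.polar Q) f₁ f₂ e P) :
    Geo.IsMaximalIn (Geo.omegaGL Q) (Geo.tensorProductSubgroup 3 4 e P ⊓ Geo.omegaGL Q) := by
  have hmin : ∀ U : Submodule F (Fin 4 → F), (∀ x ∈ U, f₂ x x / 2 = 0) → Module.finrank F U ≤ 1 := by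
    intro U hU
    by_contra hlt
    obtain ⟨v, hv⟩ := exists_linearIndependent_of_le_finrank (R := F) (M := U) (n := 2) (by omega)
    refine hminus ⟨Submodule.span F (Set.range (fun i => ((v i : U) : Fin 4 → F))), le_top, fun x hx => ?_, ?_⟩
    · have hxU : x ∈ U := Submodule.span_le.2 (Set.range_subset_iff.2 fun i => (v i).2) hx
      exact ((div_eq_zero_iff).1 (hU x hxU)).resolve_right h2
    · rw [show Module.finrank F (Submodule.span F (Set.range (fun i => ((v i : U) : Fin 4 → F)))) = _ from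
          finrank_span_eq_card (hv.map' U.subtype U.ker_subtype), finrank_top, Module.finrank_pi]
      simp
  obtain ⟨c, hc, hT⟩ := hT
  set Q' : (Fin 3 × Fin 4 → F) → F := fun x => c⁻¹ * Q (mv P (x ∘ e)) with hQ'def
  have hpol' : ∀ x y, pol Q' x y = c⁻¹ * pol Q (mv P (x ∘ e)) (mv P (y ∘ e)) := fun x y => by
    simp only [hQ'def, pol, QuadraticMap.polar, ← mv_add]
    rw [show (x + y) ∘ e = x ∘ e + y ∘ e from rfl]
    ring
  have hQ' : Geo.IsNondegenerateQuadraticForm Q' := by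
    refine ⟨fun r v => ?_, ⟨fun x y v => ?_, fun r x v => ?_, fun v x y => ?_, fun r v x => ?_⟩, fun v hv => ?_⟩
    · simp only [hQ'def]
      rw [show (r • v) ∘ e = r • (v ∘ e) from rfl, mv_smul, Transvec.Orth.q_smul hQ]
      ring
    · show pol Q' (x + y) v = pol Q' x v + pol Q' y v
      rw [hpol', hpol', hpol', show (x + y) ∘ e = x ∘ e + y ∘ e from rfl, mv_add, Transvec.Orth.pol_add_left hQ]
      ring
    · show pol Q' (r • x) v = r * pol Q' x v
      rw [hpol', hpol', show (r • x) ∘ e = r • (x ∘ e) from rfl, mv_smul, Transvec.Orth.pol_smul_left hQ]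
      ring
    · show pol Q' v (x + y) = pol Q' v x + pol Q' v y
      rw [hpol', hpol', hpol', show (x + y) ∘ e = x ∘ e + y ∘ e from rfl, mv_add, Transvec.Orth.pol_add_right hQ]
      ring
    · show pol Q' v (r • x) = r * pol Q' v x
      rw [hpol', hpol', show (r • x) ∘ e = r • (x ∘ e) from rfl, mv_smul, Transvec.Orth.pol_smul_right hQ]
      ring
    · have hv' : mv P (v ∘ e) ≠ 0 := fun h => hv (by
        funext k
        simpa using congrFun (mv_inj P (h.trans (mv_zero P).symm)) (e.symm k))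
      obtain ⟨⟨x, hx⟩, ⟨y, hy⟩⟩ := hQ.nondegenerate _ hv'
      have key : ∀ y, mv P (((mv P⁻¹ y) ∘ e.symm) ∘ e) = y := fun y => by
        rw [Function.comp_assoc, Equiv.symm_comp_self, Function.comp_id, mv_mv_inv]
      refine ⟨⟨(mv P⁻¹ x) ∘ e.symm, ?_⟩, ⟨(mv P⁻¹ y) ∘ e.symm, ?_⟩⟩
      · show pol Q' _ v ≠ 0
        rw [hpol', key]
        exact mul_ne_zero (inv_ne_zero hc) hx
      · show pol Q' v _ ≠ 0
        rw [hpol', key]
        exact mul_ne_zero (inv_ne_zero hc) hy
  obtain ⟨h₁, hp₁⟩ := OrthTensor.nondeg_of_symm h2 hf₁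
  obtain ⟨h₂, hp₂⟩ := OrthTensor.nondeg_of_symm h2 hf₂
  have hgram : ∀ {k : ℕ} {g : (Fin k → F) → (Fin k → F) → F}, Geo.IsSymmetricForm g → ∀ u v,
      ∑ i, ∑ j, u i * Geo.gramMatrix g i j * v j = g u v := by
    intro k g hg u v
    obtain ⟨hn, hp⟩ := OrthTensor.nondeg_of_symm h2 hg
    have e1 : ∀ x y, Transvec.Orth.formQ hn y x = g x y := fun x y => by rw [Transvec.Orth.formQ_apply, hp]
    have hlin : ∀ u v, g u v = ∑ i, u i * g (Pi.single i 1) v := fun u v => by
      rw [← e1]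
      conv_lhs => rw [pi_eq_sum_univ' u, map_sum]
      exact Finset.sum_congr rfl fun i _ => by rw [map_smul, e1, smul_eq_mul]
    rw [hlin u v]
    refine Finset.sum_congr rfl fun i _ => ?_
    rw [hg.symm (Pi.single i 1) v, hlin v, Finset.mul_sum]
    refine Finset.sum_congr rfl fun j _ => ?_
    show u i * g (Pi.single i 1) (Pi.single j 1) * v j = _
    rw [hg.symm (Pi.single j 1)]
    ring
  have hpol : ∀ u w v z, pol Q' (ten u w) (ten v z) =
      pol (fun v => f₁ v v / 2) u v * pol (fun v => f₂ v v / 2) w z := by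
    intro u w v z
    rw [hp₁, hp₂, hpol', show pol Q (mv P (ten u w ∘ e)) (mv P (ten v z ∘ e)) = _ from hT (ten u w) (ten v z),
      ← mul_assoc, inv_mul_cancel₀ hc, one_mul, ← hgram hf₁, ← hgram hf₂]
    simp only [Geo.formOfGram, id_eq, Fintype.sum_prod_type, ten_apply, Matrix.kroneckerMap_apply,
      Finset.sum_mul, Finset.mul_sum]
    rw [Finset.sum_comm]
    refine Finset.sum_congr rfl fun k _ => ?_
    conv_rhs => rw [Finset.sum_comm]
    refine Finset.sum_congr rfl fun i _ => ?_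
    rw [Finset.sum_comm]
    exact Finset.sum_congr rfl fun l _ => Finset.sum_congr rfl fun j _ => by ring
  have hcard : Fintype.card ι = 3 * 4 := by simpa using Fintype.card_congr e
  have hn : 11 ≤ Fintype.card ι := by omega
  have h := maximal_std hQ' h₁ h₂ h2 hpol h5 hmin (K := Geo.kroneckerSubgroup 3 4 F) (fun g => Iff.rfl)
  have h' := Transvec.isMaximalIn_map (MulAut.conj P) (Transvec.isMaximalIn_map (Geo.glReindex e.symm) h)
  rw [Subgroup.map_inf _ _ (Geo.glReindex (F := F) e.symm).toMonoidHom (Geo.glReindex e.symm).injective,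
    Subgroup.map_inf _ _ (MulAut.conj P).toMonoidHom (MulAut.conj P).injective,
    TensorMax.S.map_omega e P hQ hQ' (inv_ne_zero hc) (fun x => rfl) hn] at h'
  exact h'

end Cfsg.Agent.OrthTensorMirror
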